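import Cfsg.Agent.H341.ThreeList_m3
import Cfsg.Agent.H902.DomLU_m3
import Mathlib
import Cfsg.Prelude.Def_LieTypeChar
import Cfsg.Agent.Prune
set_option linter.all false

-- part: H902/Names
section
set_option linter.all false
open scoped Cfsg.Agent.FastGrp

/-!
# The known simple groups, their names and the shapes of their orders
-/

set_option autoImplicit false

namespace Cfsg.Agent.H902.Names

open Cfsg Cfsg.Agent.OrdDiv Finset
open Cfsg.Agent.H902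

universe u

/-- the group named `g` has an order of shape `X` over the field of `p ^ f` elements -/
inductive IsLie : Grp → Art.Sh → ℕ → ℕ → Prop
  | psl (n p f : ℕ) : IsLie (.psl n (p ^ f)) (.L n) p f
  | psp (n p f : ℕ) : IsLie (.psp n (p ^ f)) (.C n) p f
  | oodd (n p f : ℕ) (hn : 3 ≤ n) (ho : Odd (p ^ f)) : IsLie (.oodd n (p ^ f)) (.C n) p f
  | psu (n p f : ℕ) : IsLie (.psu n (p ^ f)) (.U n) p f
  | oplus (n p f : ℕ) : IsLie (.oplus n (p ^ f)) (.D n) p f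
  | ominus (n p f : ℕ) : IsLie (.ominus n (p ^ f)) (.DD n) p f
  | g2 (p f : ℕ) : IsLie (.g2 (p ^ f)) .G2 p f
  | f4 (p f : ℕ) : IsLie (.f4 (p ^ f)) .F4 p f
  | e6 (p f : ℕ) : IsLie (.e6 (p ^ f)) .E6 p f
  | e7 (p f : ℕ) : IsLie (.e7 (p ^ f)) .E7 p f
  | e8 (p f : ℕ) : IsLie (.e8 (p ^ f)) .E8 p f
  | te6 (p f : ℕ) : IsLie (.te6 (p ^ f)) .TE6 p f
  | td4 (p f : ℕ) : IsLie (.td4 (p ^ f)) .TD4 p f
  | sz (p f : ℕ) : IsLie (.sz (p ^ f)) .Sz p f
  | ree (p f : ℕ) : IsLie (.ree (p ^ f)) .Ree p f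
  | tf4 (p f : ℕ) : IsLie (.tf4 (p ^ f)) .TF4 p f

/-- a name for `S` with full information about the order -/
inductive Nam (S : Type u) [Group S] : Prop
  | alt (n : ℕ) (hn : 5 ≤ n) (h : OrdDiv.Real (.alt n) S) (hc : 2 * Nat.card S = n.factorial) : Nam S
  | lie (g : Grp) (X : Art.Sh) (p f : ℕ) (hg : IsLie g X p f) (h : OrdDiv.Real g S)
      (hc : Art.Real X p f (Nat.card S)) : Nam S
  | spor (x : Grp × ℕ) (hx : x ∈ spor) (h : OrdDiv.Real x.1 S) (hc : Nat.card S = x.2) : Nam S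

theorem prod_gl {q : ℕ} (n : ℕ) :
    ∏ i : Fin n, (q ^ n - q ^ (i : ℕ)) = q ^ (n * (n - 1) / 2) * ∏ i ∈ range n, (q ^ (i + 1) - 1) := by
  rw [Fin.prod_univ_eq_prod_range (fun i => q ^ n - q ^ i) n]
  have h1 : ∀ i ∈ range n, q ^ n - q ^ i = q ^ i * (q ^ (n - i) - 1) := by
    intro i hi
    rw [mem_range] at hi
    rw [Nat.mul_sub, mul_one, ← pow_add, Nat.add_sub_cancel' hi.le]
  rw [Finset.prod_congr rfl h1, Finset.prod_mul_distrib, Finset.prod_pow_eq_pow_sum, Finset.sum_range_id]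
  congr 1
  rw [← Finset.prod_range_reflect]
  apply Finset.prod_congr rfl
  intro i hi
  rw [mem_range] at hi
  congr 2
  omega

theorem exists_pp (F : Type) [Field F] [Fintype F] : ∃ p f : ℕ, p.Prime ∧ 1 ≤ f ∧ Fintype.card F = p ^ f := by
  obtain ⟨p, f, hp, hf, h⟩ := (isPrimePow_nat_iff _).1 (Fintype.isPrimePow_card_of_field (α := F))
  exact ⟨p, f, hp, hf, h.symm⟩

theorem psl_real {F : Type} [Field F] [Fintype F] {n p f : ℕ} (hp : p.Prime) (hf : 1 ≤ f)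
    (hF : Fintype.card F = p ^ f) (hn : 2 ≤ n) (hn2 : n = 2 → 4 ≤ p ^ f) :
    Art.Real (.L n) p f (Nat.card (Matrix.ProjectiveSpecialLinearGroup (Fin n) F)) := by
  refine ⟨hp, hf, ⟨hn, hn2⟩, ?_⟩
  have h := S0243.result (F := F) hF n hn
  have hq : 2 ≤ p ^ f := by rw [← hF]; exact Fintype.one_lt_card
  obtain ⟨m, rfl⟩ := Nat.exists_eq_add_of_le' (show 1 ≤ n by omega)
  rw [prod_gl, Finset.prod_range_succ', zero_add, pow_one, mul_left_comm, ← mul_assoc ((p ^ f) ^ _),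
    mul_comm _ (p ^ f - 1)] at h
  exact Nat.eq_of_mul_eq_mul_left (show 0 < p ^ f - 1 by omega) h

theorem psp_real {F : Type} [Field F] [Fintype F] {m p f : ℕ} (hp : p.Prime) (hf : 1 ≤ f)
    (hF : Fintype.card F = p ^ f) (hm : 2 ≤ m) (hm2 : m = 2 → 3 ≤ p ^ f) :
    Art.Real (.C m) p f (Nat.card (PSp m F)) := by
  refine ⟨hp, hf, ⟨hm, hm2⟩, ?_⟩
  have h1 := S0245.result (F := F) hF m
  have h2 := S0246.result (F := F) hF m (by omega)
  have h3 := Subgroup.card_eq_card_quotient_mul_card_subgroup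
    (Subgroup.center (Matrix.symplecticGroup (Fin m) F))
  rw [h1, h2] at h3
  change Nat.gcd 2 (p ^ f - 1) * Nat.card (PSp m F) = _
  rw [mul_comm]
  exact h3.symm

theorem psu_real {F : Type} [Field F] [Fintype F] {n p f : ℕ} (hp : p.Prime) (hf : 1 ≤ f)
    (hF : Fintype.card F = (p ^ f) ^ 2) (hn : 3 ≤ n) (hn2 : ¬ (n = 3 ∧ p ^ f = 2)) :
    Art.Real (.U n) p f (Nat.card (PSU n F (p ^ f))) := by
  have hq : 2 ≤ p ^ f := hp.two_le.trans (Nat.le_self_pow (by omega) p)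
  refine ⟨hp, hf, ⟨hn, ?_⟩, ?_⟩
  · intro h
    by_contra hcon
    exact hn2 ⟨h, by omega⟩
  have h := S0280.result hF n (by omega)
  obtain ⟨m, rfl⟩ := Nat.exists_eq_add_of_le' (show 1 ≤ n by omega)
  rw [Finset.prod_range_succ', zero_add, pow_one, if_pos (by decide)] at h
  have h1 : ∏ k ∈ range m, (if Even (k + 1) then (p ^ f) ^ (k + 1 + 1) + 1 else (p ^ f) ^ (k + 1 + 1) - 1) =
      Art.num (.U (m + 1)) (p ^ f) := by
    change _ = ∏ i ∈ range (m + 1 - 1), (if Even i then (p ^ f) ^ (i + 2) - 1 else (p ^ f) ^ (i + 2) + 1)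
    rw [Nat.add_sub_cancel]
    apply Finset.prod_congr rfl
    intro i _
    by_cases hi : Even i
    · rw [if_neg (by rw [Nat.not_even_iff_odd]; exact hi.add_one), if_pos hi]
    · rw [if_pos (by rw [Nat.not_even_iff_odd] at hi; exact hi.add_one), if_neg hi]
  rw [h1, mul_left_comm, ← mul_assoc ((p ^ f) ^ _), mul_comm _ (p ^ f + 1)] at h
  exact Nat.eq_of_mul_eq_mul_left (show 0 < p ^ f + 1 by omega) h

theorem oodd_real {F : Type} [Field F] [Fintype F] {m p f : ℕ} (hp : p.Prime) (hf : 1 ≤ f)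
    (hF : Fintype.card F = p ^ f) (hm : 3 ≤ m) (ho : Odd (p ^ f)) :
    Art.Real (.C m) p f (Nat.card (POmega F (quadFormOdd m F))) := by
  refine ⟨hp, hf, ⟨by omega, fun h => by omega⟩, ?_⟩
  have h := S0292.result (F := F) hF ho m hm
  have hq : 1 ≤ p ^ f := Nat.one_le_pow _ _ hp.pos
  have h2 : Nat.gcd 2 (p ^ f - 1) = 2 := by
    apply Nat.gcd_eq_left
    rw [← even_iff_two_dvd, Nat.even_sub hq]
    constructor
    · intro h3
      exact absurd h3 (Nat.not_even_iff_odd.2 ho)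
    · intro h3
      exact absurd h3 (by decide)
  change Nat.gcd 2 (p ^ f - 1) * _ = _
  rw [h2]
  exact h

theorem oplus_real {F : Type} [Field F] [Fintype F] {m p f : ℕ} (hp : p.Prime) (hf : 1 ≤ f)
    (hF : Fintype.card F = p ^ f) (hm : 4 ≤ m) :
    Art.Real (.D m) p f (Nat.card (POmega F (quadFormPlus m F))) := by
  refine ⟨hp, hf, hm, ?_⟩
  have h := S0293.result (F := F) hF m hm
  change Nat.gcd 4 ((p ^ f) ^ m - 1) * _ = (p ^ f) ^ (m * (m - 1)) * (((p ^ f) ^ m - 1) * _)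
  rw [← mul_assoc ((p ^ f) ^ (m * (m - 1)))]
  exact h

theorem ominus_real {F : Type} [Field F] [Fintype F] {m p f : ℕ} (hp : p.Prime) (hf : 1 ≤ f)
    (hF : Fintype.card F = p ^ f) (hm : 4 ≤ m) {a b : F}
    (hab : ∀ z₁ z₂ : F, z₁ ^ 2 + a * z₁ * z₂ + b * z₂ ^ 2 = 0 → z₁ = 0 ∧ z₂ = 0) :
    Art.Real (.DD m) p f (Nat.card (POmega F (quadFormMinus (m - 1) F a b))) := by
  refine ⟨hp, hf, hm, ?_⟩
  have h := S0294.result (F := F) hF m hm a b hab
  change Nat.gcd 4 ((p ^ f) ^ m + 1) * _ = (p ^ f) ^ (m * (m - 1)) * (((p ^ f) ^ m + 1) * _)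
  rw [← mul_assoc ((p ^ f) ^ (m * (m - 1)))]
  exact h

/-- every known nonabelian simple group has a name -/
theorem exists_nam (T : OrderTable.{u}) {S : Type u} [Group S] (h : IsKnownSimple' S)
    (hna : ¬ ∀ a b : S, a * b = b * a) : Nam S := by
  have key : ∀ (g : Grp), g ∈ spor.map (fun x => x.1) → Real g S → Nam S := fun g hg hr => by
    obtain ⟨x, hx, rfl⟩ := List.mem_map.1 hg
    exact .spor x hx hr (T.spor S x hx hr)
  rcases h with h | h | h | h | h | h | h | h | h | h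
  · exfalso
    have : Fact (Nat.card S).Prime := ⟨h⟩
    have : IsCyclic S := isCyclic_of_prime_card (p := Nat.card S) rfl
    exact hna fun a b => (IsCyclic.isMulCommutative (α := S)).is_comm.comm a b
  · obtain ⟨n, hn, ⟨e⟩⟩ := h
    exact .alt n hn ⟨e⟩ (alt_card hn e).symm
  · obtain ⟨F, _, _, n, hn, hn2, ⟨e⟩⟩ := h
    obtain ⟨p, f, hp, hf, hF⟩ := exists_pp F
    rw [hF] at hn2
    exact .lie _ _ p f (.psl n p f) ⟨F, inferInstance, inferInstance, hF, ⟨e⟩⟩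
      (by rw [Nat.card_congr e.toEquiv]; exact psl_real hp hf hF hn hn2)
  · obtain ⟨F, _, _, n, hn, hn2, ⟨e⟩⟩ := h
    obtain ⟨p, f, hp, hf, hF⟩ := exists_pp F
    rw [hF] at hn2
    exact .lie _ _ p f (.psp n p f) ⟨F, inferInstance, inferInstance, hF, ⟨e⟩⟩
      (by rw [Nat.card_congr e.toEquiv]; exact psp_real hp hf hF hn hn2)
  · obtain ⟨F, _, _, n, q, hF, hn, hn2, ⟨e⟩⟩ := h
    have hqp : IsPrimePow q := by
      have h2 : IsPrimePow (q ^ 2) := hF ▸ Fintype.isPrimePow_card_of_field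
      exact (isPrimePow_pow_iff (by norm_num)).1 h2
    obtain ⟨p, f, hp, hf, rfl⟩ := (isPrimePow_nat_iff _).1 hqp
    exact .lie _ _ p f (.psu n p f) ⟨F, inferInstance, inferInstance, hF, ⟨e⟩⟩
      (by rw [Nat.card_congr e.toEquiv]; exact psu_real hp hf hF hn hn2)
  · obtain ⟨F, _, _, n, hn, ho, ⟨e⟩⟩ := h
    obtain ⟨p, f, hp, hf, hF⟩ := exists_pp F
    rw [hF] at ho
    exact .lie _ _ p f (.oodd n p f hn ho) ⟨F, inferInstance, inferInstance, hF, ⟨e⟩⟩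
      (by rw [Nat.card_congr e.toEquiv]; exact oodd_real hp hf hF hn ho)
  · obtain ⟨F, _, _, n, hn, ⟨e⟩⟩ := h
    obtain ⟨p, f, hp, hf, hF⟩ := exists_pp F
    exact .lie _ _ p f (.oplus n p f) ⟨F, inferInstance, inferInstance, hF, ⟨e⟩⟩
      (by rw [Nat.card_congr e.toEquiv]; exact oplus_real hp hf hF hn)
  · obtain ⟨F, _, _, n, a, b, hn, hab, ⟨e⟩⟩ := h
    obtain ⟨p, f, hp, hf, hF⟩ := exists_pp F
    exact .lie _ _ p f (.ominus n p f) ⟨F, inferInstance, inferInstance, a, b, hF, hab, ⟨e⟩⟩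
      (by rw [Nat.card_congr e.toEquiv]; exact ominus_real hp hf hF hn hab)
  · rcases h with h | h | h | h | h | h | h | h | h | h | h
    · obtain ⟨F, _, _, hq, ⟨e⟩⟩ := h
      obtain ⟨p, f, hp, hf, hF⟩ := exists_pp F
      rw [hF] at hq
      refine .lie _ _ p f (.g2 p f) ⟨F, inferInstance, inferInstance, hF, ⟨e⟩⟩ ⟨hp, hf, hq, ?_⟩
      rw [Nat.card_congr e.toEquiv, T.g2 F, hF]
      change 1 * _ = (p ^ f) ^ 6 * (_ * _)
      ring
    · obtain ⟨F, _, _, ⟨e⟩⟩ := h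
      obtain ⟨p, f, hp, hf, hF⟩ := exists_pp F
      refine .lie _ _ p f (.f4 p f) ⟨F, inferInstance, inferInstance, hF, ⟨e⟩⟩ ⟨hp, hf, trivial, ?_⟩
      rw [Nat.card_congr e.toEquiv, T.f4 F _ hF]
      change 1 * _ = (p ^ f) ^ 24 * (_ * _ * _ * _)
      ring
    · obtain ⟨F, _, _, ⟨e⟩⟩ := h
      obtain ⟨p, f, hp, hf, hF⟩ := exists_pp F
      refine .lie _ _ p f (.e6 p f) ⟨F, inferInstance, inferInstance, hF, ⟨e⟩⟩ ⟨hp, hf, trivial, ?_⟩
      rw [Nat.card_congr e.toEquiv]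
      change Nat.gcd 3 (p ^ f - 1) * _ = (p ^ f) ^ 36 * (_ * _ * _ * _ * _ * _)
      rw [T.e6 F _ hF]
      ring
    · obtain ⟨F, _, _, ⟨e⟩⟩ := h
      obtain ⟨p, f, hp, hf, hF⟩ := exists_pp F
      refine .lie _ _ p f (.e7 p f) ⟨F, inferInstance, inferInstance, hF, ⟨e⟩⟩ ⟨hp, hf, trivial, ?_⟩
      rw [Nat.card_congr e.toEquiv]
      change Nat.gcd 2 (p ^ f - 1) * _ = (p ^ f) ^ 63 * (_ * _ * _ * _ * _ * _ * _)
      rw [T.e7 F _ hF]
      ring
    · obtain ⟨F, _, _, ⟨e⟩⟩ := h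
      obtain ⟨p, f, hp, hf, hF⟩ := exists_pp F
      refine .lie _ _ p f (.e8 p f) ⟨F, inferInstance, inferInstance, hF, ⟨e⟩⟩ ⟨hp, hf, trivial, ?_⟩
      rw [Nat.card_congr e.toEquiv, T.e8 F _ hF]
      change 1 * _ = (p ^ f) ^ 120 * (_ * _ * _ * _ * _ * _ * _ * _)
      ring
    · obtain ⟨F, _, _, q, hq, hF, ⟨e⟩⟩ := h
      obtain ⟨p, f, hp, hf, rfl⟩ := (isPrimePow_nat_iff _).1 hq
      refine .lie _ _ p f (.te6 p f) ⟨F, inferInstance, inferInstance, hF, ⟨e⟩⟩ ⟨hp, hf, trivial, ?_⟩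
      rw [Nat.card_congr e.toEquiv]
      change Nat.gcd 3 (p ^ f + 1) * _ = (p ^ f) ^ 36 * (_ * _ * _ * _ * _ * _)
      rw [T.te6 F _ hq hF]
      ring
    · obtain ⟨F, _, _, q, hq, hF, ⟨e⟩⟩ := h
      obtain ⟨p, f, hp, hf, rfl⟩ := (isPrimePow_nat_iff _).1 hq
      refine .lie _ _ p f (.td4 p f) ⟨F, inferInstance, inferInstance, hF, ⟨e⟩⟩ ⟨hp, hf, trivial, ?_⟩
      rw [Nat.card_congr e.toEquiv, T.td4 F _ hq hF]
      change 1 * _ = (p ^ f) ^ 12 * (_ * _ * _)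
      ring
    · obtain ⟨F, _, _, m, hm, hF, ⟨e⟩⟩ := h
      refine .lie _ _ 2 (2 * m + 1) (.sz 2 (2 * m + 1)) ⟨F, inferInstance, inferInstance, m, hm, hF, rfl, ⟨e⟩⟩
        ⟨Nat.prime_two, by omega, ⟨rfl, odd_two_mul_add_one m, by omega⟩, ?_⟩
      rw [Nat.card_congr e.toEquiv, T.sz F m hm hF]
      change 1 * _ = (2 ^ (2 * m + 1)) ^ 2 * (_ * _)
      ring
    · obtain ⟨F, _, _, m, hm, hF, ⟨e⟩⟩ := h
      refine .lie _ _ 3 (2 * m + 1) (.ree 3 (2 * m + 1)) ⟨F, inferInstance, inferInstance, m, hm, hF, rfl, ⟨e⟩⟩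
        ⟨Nat.prime_three, by omega, ⟨rfl, odd_two_mul_add_one m, by omega⟩, ?_⟩
      rw [Nat.card_congr e.toEquiv, T.ree F m hm hF]
      change 1 * _ = (3 ^ (2 * m + 1)) ^ 3 * (_ * _)
      ring
    · obtain ⟨F, _, _, m, hm, hF, ⟨e⟩⟩ := h
      refine .lie _ _ 2 (2 * m + 1) (.tf4 2 (2 * m + 1)) ⟨F, inferInstance, inferInstance, m, hm, hF, rfl, ⟨e⟩⟩
        ⟨Nat.prime_two, by omega, ⟨rfl, odd_two_mul_add_one m, by omega⟩, ?_⟩
      rw [Nat.card_congr e.toEquiv, T.tf4 F m hm hF]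
      change 1 * _ = (2 ^ (2 * m + 1)) ^ 12 * (_ * _ * _ * _)
      ring
    · exact key .tits (by decide) h
  · rcases h with h | h | h | h | h | h | h | h | h | h | h | h | h | h | h | h | h | h | h | h | h | h | h | h | h | h
    · exact key .m11 (by decide) h
    · exact key .m12 (by decide) h
    · exact key .m22 (by decide) h
    · exact key .m23 (by decide) h
    · exact key .m24 (by decide) h
    · exact key .j1 (by decide) h
    · exact key .j2 (by decide) h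
    · exact key .j3 (by decide) h
    · exact key .j4 (by decide) h
    · exact key .co1 (by decide) h
    · exact key .co2 (by decide) h
    · exact key .co3 (by decide) h
    · exact key .mcl (by decide) h
    · exact key .hs (by decide) h
    · exact key .suz (by decide) h
    · exact key .he (by decide) h
    · exact key .ru (by decide) h
    · exact key .on (by decide) h
    · exact key .ly (by decide) h
    · exact key .fi22 (by decide) h
    · exact key .fi23 (by decide) h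
    · exact key .fi24 (by decide) h
    · exact key .hn (by decide) h
    · exact key .th (by decide) h
    · exact key .b (by decide) h
    · exact key .m (by decide) h

end Cfsg.Agent.H902.Names
end

-- part: H364/LieNam
section
set_option linter.all false
open scoped Cfsg.Agent.FastGrp

/-!
# Groups of Lie type in characteristic `p` have names (helper364)
-/

set_option autoImplicit false

namespace Cfsg.Agent.H364.LieNam

open Cfsg Cfsg.Agent.OrdDiv Finset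
open Cfsg.Agent.H902 Cfsg.Agent.H902.Names

universe u

theorem exists_pow {F : Type} [Field F] [Fintype F] {p : ℕ} (_hp : p.Prime) (hc : CharP F p) :
    ∃ f, 1 ≤ f ∧ Fintype.card F = p ^ f := by
  have := hc
  obtain ⟨n, -, hn⟩ := FiniteField.card F p
  exact ⟨n, n.2, hn⟩

theorem root_eq {p q f k : ℕ} (hp : p.Prime) (hq : IsPrimePow q) (h : p ^ f = q ^ k) (hf : 1 ≤ f) :
    ∃ g, 1 ≤ g ∧ q = p ^ g := by
  obtain ⟨ℓ, g, hl, hg, rfl⟩ := (isPrimePow_nat_iff _).1 hq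
  have h1 : p ∣ (ℓ ^ g) ^ k := by rw [← h]; exact dvd_pow_self p (by omega)
  have h2 : p = ℓ := (Nat.prime_dvd_prime_iff_eq hp hl).1 (hp.dvd_of_dvd_pow (hp.dvd_of_dvd_pow h1))
  exact ⟨g, hg, by rw [h2]⟩

theorem root_eq' {F : Type} [Field F] [Fintype F] {p q k : ℕ} (hp : p.Prime) (hc : CharP F p) (hk : k ≠ 0)
    (h : Fintype.card F = q ^ k) : ∃ g, 1 ≤ g ∧ q = p ^ g := by
  obtain ⟨f, hf, hF⟩ := exists_pow hp hc
  have hqp : IsPrimePow q := by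
    have h2 : IsPrimePow (q ^ k) := h ▸ Fintype.isPrimePow_card_of_field
    exact (isPrimePow_pow_iff hk).1 h2
  exact root_eq hp hqp (hF.symm.trans h) hf

/-- a simple group of Lie type in characteristic `p` has a name in characteristic `p` -/
theorem lie_nam (T : OrderTable.{u}) {S : Type u} [Group S] {p : ℕ} (hp : p.Prime) (h : IsLieTypeChar p S) :
    ∃ g X f, IsLie g X p f ∧ OrdDiv.Real g S ∧ Art.Real X p f (Nat.card S) := by
  rcases h with h | h | h | h | h | h | h | h | h | h | h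
  · obtain ⟨F, _, _, hc, n, hn, hn2, ⟨e⟩⟩ := h
    obtain ⟨f, hf, hF⟩ := exists_pow hp hc
    rw [hF] at hn2
    exact ⟨_, _, f, .psl n p f, ⟨F, inferInstance, inferInstance, hF, ⟨e⟩⟩,
      by rw [Nat.card_congr e.toEquiv]; exact psl_real hp hf hF hn hn2⟩
  · obtain ⟨F, _, _, hc, n, hn, hn2, ⟨e⟩⟩ := h
    obtain ⟨f, hf, hF⟩ := exists_pow hp hc
    rw [hF] at hn2
    exact ⟨_, _, f, .psp n p f, ⟨F, inferInstance, inferInstance, hF, ⟨e⟩⟩,
      by rw [Nat.card_congr e.toEquiv]; exact psp_real hp hf hF hn hn2⟩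
  · obtain ⟨F, _, _, hc, n, q, hF, hn, hn2, ⟨e⟩⟩ := h
    obtain ⟨f, hf, rfl⟩ := root_eq' hp hc (by norm_num) hF
    exact ⟨_, _, f, .psu n p f, ⟨F, inferInstance, inferInstance, hF, ⟨e⟩⟩,
      by rw [Nat.card_congr e.toEquiv]; exact psu_real hp hf hF hn hn2⟩
  · obtain ⟨F, _, _, hc, n, hn, ho, ⟨e⟩⟩ := h
    obtain ⟨f, hf, hF⟩ := exists_pow hp hc
    rw [hF] at ho
    exact ⟨_, _, f, .oodd n p f hn ho, ⟨F, inferInstance, inferInstance, hF, ⟨e⟩⟩,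
      by rw [Nat.card_congr e.toEquiv]; exact oodd_real hp hf hF hn ho⟩
  · obtain ⟨F, _, _, hc, n, hn, ⟨e⟩⟩ := h
    obtain ⟨f, hf, hF⟩ := exists_pow hp hc
    exact ⟨_, _, f, .oplus n p f, ⟨F, inferInstance, inferInstance, hF, ⟨e⟩⟩,
      by rw [Nat.card_congr e.toEquiv]; exact oplus_real hp hf hF hn⟩
  · obtain ⟨F, _, _, hc, n, a, b, hn, hab, ⟨e⟩⟩ := h
    obtain ⟨f, hf, hF⟩ := exists_pow hp hc
    exact ⟨_, _, f, .ominus n p f, ⟨F, inferInstance, inferInstance, a, b, hF, hab, ⟨e⟩⟩,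
      by rw [Nat.card_congr e.toEquiv]; exact ominus_real hp hf hF hn hab⟩
  · obtain ⟨F, _, _, hc, h⟩ := h
    obtain ⟨f, hf, hF⟩ := exists_pow hp hc
    rcases h with ⟨hq, ⟨e⟩⟩ | ⟨⟨e⟩⟩ | ⟨⟨e⟩⟩ | ⟨⟨e⟩⟩ | ⟨⟨e⟩⟩
    · rw [hF] at hq
      refine ⟨_, _, f, .g2 p f, ⟨F, inferInstance, inferInstance, hF, ⟨e⟩⟩, ⟨hp, hf, hq, ?_⟩⟩
      rw [Nat.card_congr e.toEquiv, T.g2 F, hF]
      change 1 * _ = (p ^ f) ^ 6 * (_ * _)
      ring
    · refine ⟨_, _, f, .f4 p f, ⟨F, inferInstance, inferInstance, hF, ⟨e⟩⟩, ⟨hp, hf, trivial, ?_⟩⟩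
      rw [Nat.card_congr e.toEquiv, T.f4 F _ hF]
      change 1 * _ = (p ^ f) ^ 24 * (_ * _ * _ * _)
      ring
    · refine ⟨_, _, f, .e6 p f, ⟨F, inferInstance, inferInstance, hF, ⟨e⟩⟩, ⟨hp, hf, trivial, ?_⟩⟩
      rw [Nat.card_congr e.toEquiv]
      change Nat.gcd 3 (p ^ f - 1) * _ = (p ^ f) ^ 36 * (_ * _ * _ * _ * _ * _)
      rw [T.e6 F _ hF]
      ring
    · refine ⟨_, _, f, .e7 p f, ⟨F, inferInstance, inferInstance, hF, ⟨e⟩⟩, ⟨hp, hf, trivial, ?_⟩⟩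
      rw [Nat.card_congr e.toEquiv]
      change Nat.gcd 2 (p ^ f - 1) * _ = (p ^ f) ^ 63 * (_ * _ * _ * _ * _ * _ * _)
      rw [T.e7 F _ hF]
      ring
    · refine ⟨_, _, f, .e8 p f, ⟨F, inferInstance, inferInstance, hF, ⟨e⟩⟩, ⟨hp, hf, trivial, ?_⟩⟩
      rw [Nat.card_congr e.toEquiv, T.e8 F _ hF]
      change 1 * _ = (p ^ f) ^ 120 * (_ * _ * _ * _ * _ * _ * _ * _)
      ring
  · obtain ⟨F, _, _, hc, q, hq, h⟩ := h
    rcases h with ⟨hF, ⟨e⟩⟩ | ⟨hF, ⟨e⟩⟩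
    · obtain ⟨f, hf, rfl⟩ := root_eq' hp hc (by norm_num) hF
      refine ⟨_, _, f, .te6 p f, ⟨F, inferInstance, inferInstance, hF, ⟨e⟩⟩, ⟨hp, hf, trivial, ?_⟩⟩
      rw [Nat.card_congr e.toEquiv]
      change Nat.gcd 3 (p ^ f + 1) * _ = (p ^ f) ^ 36 * (_ * _ * _ * _ * _ * _)
      rw [T.te6 F _ hq hF]
      ring
    · obtain ⟨f, hf, rfl⟩ := root_eq' hp hc (by norm_num) hF
      refine ⟨_, _, f, .td4 p f, ⟨F, inferInstance, inferInstance, hF, ⟨e⟩⟩, ⟨hp, hf, trivial, ?_⟩⟩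
      rw [Nat.card_congr e.toEquiv, T.td4 F _ hq hF]
      change 1 * _ = (p ^ f) ^ 12 * (_ * _ * _)
      ring
  · obtain ⟨rfl, F, _, _, m, hm, hF, ⟨e⟩⟩ := h
    refine ⟨_, _, 2 * m + 1, .sz 2 (2 * m + 1), ⟨F, inferInstance, inferInstance, m, hm, hF, rfl, ⟨e⟩⟩,
      ⟨Nat.prime_two, by omega, ⟨rfl, odd_two_mul_add_one m, by omega⟩, ?_⟩⟩
    rw [Nat.card_congr e.toEquiv, T.sz F m hm hF]
    change 1 * _ = (2 ^ (2 * m + 1)) ^ 2 * (_ * _)
    ring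
  · obtain ⟨rfl, F, _, _, m, hm, hF, ⟨e⟩⟩ := h
    refine ⟨_, _, 2 * m + 1, .tf4 2 (2 * m + 1), ⟨F, inferInstance, inferInstance, m, hm, hF, rfl, ⟨e⟩⟩,
      ⟨Nat.prime_two, by omega, ⟨rfl, odd_two_mul_add_one m, by omega⟩, ?_⟩⟩
    rw [Nat.card_congr e.toEquiv, T.tf4 F m hm hF]
    change 1 * _ = (2 ^ (2 * m + 1)) ^ 12 * (_ * _ * _ * _)
    ring
  · obtain ⟨rfl, F, _, _, m, hm, hF, ⟨e⟩⟩ := h
    refine ⟨_, _, 2 * m + 1, .ree 3 (2 * m + 1), ⟨F, inferInstance, inferInstance, m, hm, hF, rfl, ⟨e⟩⟩,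
      ⟨Nat.prime_three, by omega, ⟨rfl, odd_two_mul_add_one m, by omega⟩, ?_⟩⟩
    rw [Nat.card_congr e.toEquiv, T.ree F m hm hF]
    change 1 * _ = (3 ^ (2 * m + 1)) ^ 3 * (_ * _)
    ring

end Cfsg.Agent.H364.LieNam
end
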