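import Mathlib
import Cfsg.Agent.H364.LieNam
import Cfsg.Agent.H481.TBound
import Cfsg.Agent.S0243
import Cfsg.Agent.ClassicalGeometry.PSL2Basic
import Cfsg.Agent.S0813
import Cfsg.Agent.S0814
import Cfsg.Agent.S0815
import Cfsg.Agent.S0816
import Cfsg.Agent.S0817
import Cfsg.Agent.S0818
import Cfsg.Agent.S2121
import Cfsg.Agent.S2122
import Cfsg.Agent.S2123
import Cfsg.Agent.S2124
import Cfsg.Agent.S2125
import Cfsg.Agent.S2126
import Cfsg.Agent.S2127
import Cfsg.Agent.S2128
import Cfsg.Agent.S2129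
import Cfsg.Agent.S2130
import Cfsg.Agent.Prune
set_option linter.all false
prune_inst 0x7f00000000000000000000000000000000000000000000000000000000000000000000000000000000000000000000000000000000000000000000000000000000000000000000000000000000000000003fffffffffffffffffffffffffffbeffbdffffffff
open scoped Cfsg.Agent.FastGrp

/-!
# The order of the outer automorphism group of a simple group of Lie type (helper364)

`card_out`: if `S` has the Lie type name `g` of shape `X` over the field of `p ^ f` elements then `|Out S| = c * f` with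
`c ∣ 24 * dd X (p ^ f)`, and `c ∣ 6 * dd X (p ^ f)` for `p = 2`.
-/

set_option autoImplicit false

namespace Cfsg.Agent.H364.OutLie

open Cfsg Cfsg.Agent.OrdDiv Finset
open Cfsg.Agent.H902 Cfsg.Agent.H902.Names Cfsg.Agent.H934.OutB

universe u

/-- the conclusion -/
def Bd (S : Type u) [Group S] (X : Art.Sh) (p f : ℕ) : Prop :=
  ∃ c, Nat.card (Cfsg.Out S) = c * f ∧ c ∣ 24 * Art.dd X (p ^ f) ∧ (p = 2 → c ∣ 6 * Art.dd X (p ^ f))

theorem Bd.of {S : Type u} [Group S] {X : Art.Sh} {p f : ℕ} (c : ℕ) (h : Nat.card (Cfsg.Out S) = c * f)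
    (h1 : c ∣ 24 * Art.dd X (p ^ f)) (h2 : p = 2 → c ∣ 6 * Art.dd X (p ^ f)) : Bd S X p f := ⟨c, h, h1, h2⟩

theorem mulaut_congr {S T : Type*} [Group S] [Group T] (e : S ≃* T) : Nat.card (MulAut S) = Nat.card (MulAut T) :=
  Nat.card_congr (MulAut.congr e).toEquiv

theorem charP_of_card {F : Type*} [Field F] [Fintype F] {p f : ℕ} (hp : p.Prime) (hf : 1 ≤ f)
    (hF : Fintype.card F = p ^ f) : CharP F p := by
  obtain ⟨ℓ, hchar⟩ := CharP.exists F
  have hl : Fact ℓ.Prime := ⟨CharP.char_is_prime F ℓ⟩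
  obtain ⟨m, hm, hcard⟩ := FiniteField.card F ℓ
  rw [hF] at hcard
  have h1 : ℓ ∣ p ^ f := by rw [hcard]; exact dvd_pow_self ℓ m.ne_zero
  have h3 : ℓ = p := (Nat.prime_dvd_prime_iff_eq hm hp).1 (hm.dvd_of_dvd_pow h1)
  subst h3
  exact hchar

theorem card_pgl {F : Type} [Field F] [Fintype F] {n : ℕ} (hn : 2 ≤ n) : Nat.card (Matrix.ProjGenLinGroup (Fin n) F) =
    Nat.gcd n (Fintype.card F - 1) * Nat.card (Matrix.ProjectiveSpecialLinearGroup (Fin n) F) := by
  classical
  haveI : NeZero n := ⟨by omega⟩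
  have h1 := Cfsg.Agent.S0243.result (F := F) rfl n hn
  have h2 : Nat.card (Matrix.ProjGenLinGroup (Fin n) F) * (Fintype.card F - 1) = Nat.card (Matrix.GeneralLinearGroup (Fin n) F) :=
    Cfsg.Agent.ClassicalGeometry.PSL2Basic.card_PGL_mul (Fin n) F
  rw [Matrix.card_GL_field, ← h1] at h2
  have h3 : 0 < Fintype.card F - 1 := by
    have := Fintype.one_lt_card (α := F)
    omega
  have h4 : Nat.card (Matrix.ProjGenLinGroup (Fin n) F) * (Fintype.card F - 1) =
    (Nat.gcd n (Fintype.card F - 1) * Nat.card (Matrix.ProjectiveSpecialLinearGroup (Fin n) F)) *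
      (Fintype.card F - 1) := by
    rw [h2]; ring
  exact Nat.eq_of_mul_eq_mul_right h3 h4

theorem card_out {S : Type u} [Group S] [Finite S] [IsSimpleGroup S] (hna : ¬ ∀ a b : S, a * b = b * a)
    {g : Grp} {X : Art.Sh} {p f : ℕ} (hg : IsLie g X p f) (h : OrdDiv.Real g S) (hr : Art.Real X p f (Nat.card S)) :
    Bd S X p f := by
  have hna' : ¬ IsMulCommutative S := fun hc => hna fun a b => hc.is_comm.comm a b
  obtain ⟨hp, hf, hok, -⟩ := hr
  have hpf := Fact.mk hp
  cases hg with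
  | psl n p f =>
    obtain ⟨F, _, _, hF, ⟨e⟩⟩ := h
    have h1 := Cfsg.Agent.S0813.result p f hf hF n hok.1 hok.2
    rw [card_pgl hok.1, hF] at h1
    have h2 : Nat.card (MulAut S) = ((if n = 2 then 1 else 2) * Nat.gcd n (p ^ f - 1) * f) * Nat.card S := by
      rw [mulaut_congr e, h1, Nat.card_congr e.toEquiv]; ring
    refine Bd.of _ (card_out_of_aut hna' h2) ?_ (fun _ => ?_)
    · exact Nat.mul_dvd_mul (by split_ifs <;> norm_num) (dvd_refl _)
    · exact Nat.mul_dvd_mul (by split_ifs <;> norm_num) (dvd_refl _)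
  | psp n p f =>
    obtain ⟨F, _, _, hF, ⟨e⟩⟩ := h
    have h1 := Cfsg.Agent.S0814.result p f hf hF n hok.1 hok.2
    have h2 : Nat.card (MulAut S) = ((if n = 2 ∧ p = 2 then 2 else 1) * Nat.gcd 2 (p ^ f - 1) * f) * Nat.card S := by
      rw [mulaut_congr e, h1, Nat.card_congr e.toEquiv]
    refine Bd.of _ (card_out_of_aut hna' h2) ?_ (fun _ => ?_)
    · exact Nat.mul_dvd_mul (by split_ifs <;> norm_num) (dvd_refl _)
    · exact Nat.mul_dvd_mul (by split_ifs <;> norm_num) (dvd_refl _)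
  | oodd n p f hn ho =>
    obtain ⟨F, _, _, hF, ⟨e⟩⟩ := h
    have hpo : Odd p := by
      rcases hp.eq_two_or_odd' with h | h
      · subst h
        exact absurd ho (by rw [Nat.not_odd_iff_even]; exact (even_two.pow_of_ne_zero (by omega)))
      · exact h
    have h1 := Cfsg.Agent.S0816.result p f hf hF hpo n hn
    have h2 : Nat.card (MulAut S) = (2 * f) * Nat.card S := by
      rw [mulaut_congr e, h1, Nat.card_congr e.toEquiv]
    refine Bd.of _ (card_out_of_aut hna' h2) ?_ (fun hp2 => ?_)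
    · exact Dvd.dvd.mul_right (by norm_num) _
    · exact Dvd.dvd.mul_right (by norm_num) _
  | psu n p f =>
    obtain ⟨F, _, _, hF, ⟨e⟩⟩ := h
    have h1 := Cfsg.Agent.S0815.result p f hf rfl hF n hok.1 (fun h => by have := hok.2 h.1; omega)
    have h2 : Nat.card (MulAut S) = (2 * Nat.gcd n (p ^ f + 1) * f) * Nat.card S := by
      rw [mulaut_congr e, h1, Nat.card_congr e.toEquiv]; ring
    refine Bd.of _ (card_out_of_aut hna' h2) ?_ (fun _ => ?_)
    · exact Nat.mul_dvd_mul (by norm_num) (dvd_refl _)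
    · exact Nat.mul_dvd_mul (by norm_num) (dvd_refl _)
  | oplus n p f =>
    obtain ⟨F, _, _, hF, ⟨e⟩⟩ := h
    have h1 := Cfsg.Agent.S0817.result p f hf hF n hok
    have h2 : Nat.card (MulAut S) = (((if n = 4 then 3 else 1) *
        (if p = 2 then 2 else (if Even (n * (p ^ f - 1) / 2) then 8 else 4))) * f) * Nat.card S := by
      rw [mulaut_congr e, h1, Nat.card_congr e.toEquiv]
    refine Bd.of _ (card_out_of_aut hna' h2) ?_ (fun hp2 => ?_)
    · refine Dvd.dvd.mul_right ?_ _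
      split_ifs <;> norm_num
    · refine Dvd.dvd.mul_right ?_ _
      rw [if_pos hp2]
      split_ifs <;> norm_num
  | ominus n p f =>
    obtain ⟨F, _, _, a, b, hF, hab, ⟨e⟩⟩ := h
    have h1 := Cfsg.Agent.S0818.result p f hf hF n hok a b hab
    have h2 : Nat.card (MulAut S) = ((if p = 2 then 2 else (if Even (n * (p ^ f - 1) / 2) then 4 else 8)) * f) *
        Nat.card S := by
      rw [mulaut_congr e, h1, Nat.card_congr e.toEquiv]
    refine Bd.of _ (card_out_of_aut hna' h2) ?_ (fun hp2 => ?_)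
    · refine Dvd.dvd.mul_right ?_ _
      split_ifs <;> norm_num
    · refine Dvd.dvd.mul_right ?_ _
      rw [if_pos hp2]
      norm_num
  | g2 p f =>
    obtain ⟨F, _, _, hF, ⟨e⟩⟩ := h
    have := charP_of_card hp hf hF
    have h1 := Cfsg.Agent.S2121.result p f hF hok
    refine Bd.of (if p = 3 then 2 else 1) ?_ ?_ (fun hp2 => ?_)
    · rw [card_out_congr e, h1]; split_ifs <;> ring
    · refine Dvd.dvd.mul_right ?_ _
      split_ifs <;> norm_num
    · refine Dvd.dvd.mul_right ?_ _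
      split_ifs <;> norm_num
  | f4 p f =>
    obtain ⟨F, _, _, hF, ⟨e⟩⟩ := h
    have := charP_of_card hp hf hF
    have h1 := Cfsg.Agent.S2122.result p f hF
    refine Bd.of (Nat.gcd 2 p) (by rw [card_out_congr e, h1]) ?_ (fun hp2 => ?_)
    · exact ((Nat.gcd_dvd_left 2 p).trans (by norm_num)).mul_right _
    · exact ((Nat.gcd_dvd_left 2 p).trans (by norm_num)).mul_right _
  | e6 p f =>
    obtain ⟨F, _, _, hF, ⟨e⟩⟩ := h
    have := charP_of_card hp hf hF
    have h1 := Cfsg.Agent.S2123.result p f hF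
    refine Bd.of (2 * Nat.gcd 3 (p ^ f - 1)) (by rw [card_out_congr e, h1]) ?_ (fun hp2 => ?_)
    · exact Nat.mul_dvd_mul (by norm_num) (dvd_refl _)
    · exact Nat.mul_dvd_mul (by norm_num) (dvd_refl _)
  | e7 p f =>
    obtain ⟨F, _, _, hF, ⟨e⟩⟩ := h
    have := charP_of_card hp hf hF
    have h1 := Cfsg.Agent.S2124.result p f hF
    refine Bd.of (Nat.gcd 2 (p ^ f - 1)) (by rw [card_out_congr e, h1]) ?_ (fun hp2 => ?_)
    · exact Dvd.intro_left _ rfl
    · exact Dvd.intro_left _ rfl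
  | e8 p f =>
    obtain ⟨F, _, _, hF, ⟨e⟩⟩ := h
    have := charP_of_card hp hf hF
    have h1 := Cfsg.Agent.S2125.result p f hF
    exact Bd.of 1 (by rw [card_out_congr e, h1, one_mul]) (one_dvd _) (fun _ => one_dvd _)
  | te6 p f =>
    obtain ⟨F, _, _, hF, ⟨e⟩⟩ := h
    have hF' : Fintype.card F = p ^ (2 * f) := by rw [hF, ← pow_mul, mul_comm]
    have := charP_of_card hp (by omega) hF'
    have h1 := Cfsg.Agent.S2130.result p f hF' hf
    refine Bd.of (2 * Nat.gcd 3 (p ^ f + 1)) (by rw [card_out_congr e, h1]) ?_ (fun hp2 => ?_)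
    · exact Nat.mul_dvd_mul (by norm_num) (dvd_refl _)
    · exact Nat.mul_dvd_mul (by norm_num) (dvd_refl _)
  | td4 p f =>
    obtain ⟨F, _, _, hF, ⟨e⟩⟩ := h
    have hF' : Fintype.card F = p ^ (3 * f) := by rw [hF, ← pow_mul, mul_comm]
    have := charP_of_card hp (by omega) hF'
    have h1 := Cfsg.Agent.S2129.result p f hF' hf
    refine Bd.of 3 (by rw [card_out_congr e, h1]) ?_ (fun hp2 => ?_)
    · exact Dvd.dvd.mul_right (by norm_num) _
    · exact Dvd.dvd.mul_right (by norm_num) _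
  | sz p f =>
    obtain ⟨F, _, _, m, hm, hF, hq, ⟨e⟩⟩ := h
    obtain ⟨rfl, -, -⟩ := hok
    have hfm : f = 2 * m + 1 := Nat.pow_right_injective (le_refl 2) hq
    have h1 := Cfsg.Agent.S2126.result hm (hF.trans hq)
    exact Bd.of 1 (by rw [card_out_congr e, h1, one_mul, hfm]) (one_dvd _) (fun _ => one_dvd _)
  | ree p f =>
    obtain ⟨F, _, _, m, hm, hF, hq, ⟨e⟩⟩ := h
    obtain ⟨rfl, -, -⟩ := hok
    have hfm : f = 2 * m + 1 := Nat.pow_right_injective (by norm_num : 2 ≤ 3) hq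
    have h1 := Cfsg.Agent.S2127.result hm (hF.trans hq)
    exact Bd.of 1 (by rw [card_out_congr e, h1, one_mul, hfm]) (one_dvd _) (fun _ => one_dvd _)
  | tf4 p f =>
    obtain ⟨F, _, _, m, hm, hF, hq, ⟨e⟩⟩ := h
    obtain ⟨rfl, -, -⟩ := hok
    have hfm : f = 2 * m + 1 := Nat.pow_right_injective (le_refl 2) hq
    have h1 := Cfsg.Agent.S2128.result hm (hF.trans hq)
    exact Bd.of 1 (by rw [card_out_congr e, h1, one_mul, hfm]) (one_dvd _) (fun _ => one_dvd _)

end Cfsg.Agent.H364.OutLie
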