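import Mathlib
import Cfsg.Agent.H431.CS.Defs
import Cfsg.Agent.S0205
import Cfsg.Agent.S0144
import Cfsg.Agent.Lib.DihedralRecog
import Cfsg.Agent.Lib.MinNormal
import Cfsg.Agent.S0827
import Cfsg.Agent.S0280
import Cfsg.Agent.S0033
import Cfsg.Agent.FastGrp
import Cfsg.Agent.Prune
set_option linter.all false

section
prune_inst 0x7f00000000000000000000000000000000000000000000000000000000000000000000000000000000000000000000000000000000000000000000000000000000000000000000000000000000000000003fffffffffffffffffffffffffffbeffbdffffffff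

-- part: H364/Iso2
section
set_option linter.all false
open scoped Cfsg.Agent.FastGrp

-- part: H364/Iso
section
/-!
# Isolated cyclic Hall subgroups (helper364)
-/

set_option autoImplicit false

namespace Cfsg.Agent.H364

open Subgroup

/-- `T` is a cyclic Hall subgroup of order `m` and no element of prime order `r ∣ m` commutes with an element of
prime order `s ∤ m`. -/
structure Isol (G : Type*) [Group G] (T : Subgroup G) (m : ℕ) : Prop where
  cyc : IsCyclic T
  card : Nat.card T = m
  cop : m.Coprime (Nat.card G / m)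
  edge : ∀ r s : ℕ, r.Prime → s.Prime → r ∣ m → ¬ s ∣ m → NoEdge G r s

namespace Isol

variable {G : Type*} [Group G] [Finite G] {T : Subgroup G} {m : ℕ}

theorem pos (h : Isol G T m) : 0 < m := h.card ▸ Nat.card_pos

omit [Finite G] in
theorem dvd (h : Isol G T m) : m ∣ Nat.card G := h.card ▸ Subgroup.card_subgroup_dvd_card T

omit [Finite G] in
theorem comm (h : Isol G T m) {a b : G} (ha : a ∈ T) (hb : b ∈ T) : Commute a b := by
  have := h.cyc
  have h1 := (IsCyclic.isMulCommutative (α := T)).is_comm.comm ⟨a, ha⟩ ⟨b, hb⟩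
  exact congrArg Subtype.val h1

omit [Finite G] in
theorem mul_eq (h : Isol G T m) : m * (Nat.card G / m) = Nat.card G := Nat.mul_div_cancel' h.dvd

/-- A subgroup containing `T` with only primes dividing `m` is `T`. -/
theorem eq_of_primes (h : Isol G T m) {C : Subgroup G} (hTC : T ≤ C)
    (hp : ∀ s, s.Prime → s ∣ Nat.card C → s ∣ m) : C = T := by
  have h1 : Nat.card T * T.relIndex C = Nat.card C := by
    rw [← Subgroup.relIndex_bot_left T, ← Subgroup.relIndex_bot_left C]
    exact Subgroup.relIndex_mul_relIndex _ _ _ bot_le hTC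
  have h2 : Nat.card C ∣ Nat.card G := Subgroup.card_subgroup_dvd_card C
  have h3 : T.relIndex C ∣ Nat.card G / m := by
    rw [← h1, h.card, ← h.mul_eq] at h2
    exact Nat.dvd_of_mul_dvd_mul_left h.pos h2
  have h4 : T.relIndex C = 1 := by
    by_contra hne
    obtain ⟨s, hs, hsd⟩ := Nat.exists_prime_and_dvd hne
    have h5 : s ∣ m := hp s hs (hsd.trans (h1 ▸ Dvd.intro_left _ rfl))
    have h6 : s ∣ Nat.card G / m := hsd.trans h3
    have := Nat.dvd_gcd h5 h6
    rw [h.cop] at this
    exact hs.one_lt.ne' (Nat.dvd_one.1 this)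
  exact le_antisymm (Subgroup.relIndex_eq_one.1 h4) hTC

/-- The centralizer of a nontrivial element of `T` is `T`. -/
theorem commute_mem (h : Isol G T m) {t x : G} (ht : t ∈ T) (ht1 : t ≠ 1) (hx : Commute t x) : x ∈ T := by
  have hTC : T ≤ centralizer ({t} : Set G) := fun a ha => by
    rw [Subgroup.mem_centralizer_singleton_iff]
    exact (h.comm ha ht).eq
  have hC : centralizer ({t} : Set G) = T := by
    refine h.eq_of_primes hTC fun s hs hsd => ?_
    by_contra hsm
    have := Fact.mk hs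
    obtain ⟨b, hb⟩ := exists_prime_orderOf_dvd_card' s hsd
    have hn1 : orderOf t ≠ 1 := fun h => ht1 (orderOf_eq_one_iff.1 h)
    obtain ⟨r, hr, hrd⟩ := Nat.exists_prime_and_dvd hn1
    have hrm : r ∣ m := by
      rw [← h.card]
      refine hrd.trans ?_
      have := _root_.orderOf_dvd_natCard (⟨t, ht⟩ : T)
      rwa [← Subgroup.orderOf_coe] at this
    have hbt : Commute t (b : G) := by
      have := Subgroup.mem_centralizer_singleton_iff.1 b.2
      exact (show (b : G) * t = t * b from this).symm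
    refine (h.edge r s hr hs hrm hsm).false_of_dvd hr hs ?_ hbt hrd ?_
    · rintro rfl; exact hsm hrm
    · rw [Subgroup.orderOf_coe, hb]
  rw [← hC, Subgroup.mem_centralizer_singleton_iff]
  exact hx.eq.symm

/-- `N_G(A) ≤ N_G(T)` for a nontrivial subgroup `A` of `T`. -/
theorem normalizer_le (h : Isol G T m) {A : Subgroup G} (hA : A ≤ T) (hA1 : A ≠ ⊥) :
    normalizer (A : Set G) ≤ normalizer (T : Set G) := by
  obtain ⟨a, ha⟩ := Subgroup.ne_bot_iff_exists_ne_one.1 hA1
  obtain ⟨a, haA, ha1⟩ : ∃ a : G, a ∈ A ∧ a ≠ 1 := ⟨(a : G), a.2, fun h => ha (Subtype.ext h)⟩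
  have key : ∀ g ∈ normalizer (A : Set G), ∀ x ∈ T, g * x * g⁻¹ ∈ T := by
    intro g hg x hx
    have h1 : g * a * g⁻¹ ∈ A := (Subgroup.mem_normalizer_iff.1 hg a).1 haA
    refine h.commute_mem (hA h1) ?_ ?_
    · intro h2
      apply ha1
      have : g⁻¹ * (g * a * g⁻¹) * g = 1 := by rw [h2]; simp
      simpa [mul_assoc] using this
    · have h3 := h.comm (hA haA) hx
      change (g * a * g⁻¹) * (g * x * g⁻¹) = (g * x * g⁻¹) * (g * a * g⁻¹)
      have h4 : a * x = x * a := h3
      calc (g * a * g⁻¹) * (g * x * g⁻¹) = g * (a * x) * g⁻¹ := by group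
        _ = g * (x * a) * g⁻¹ := by rw [h4]
        _ = _ := by group
  intro g hg
  rw [Subgroup.mem_normalizer_iff]
  intro x
  refine ⟨key g hg x, fun hx => ?_⟩
  have := key g⁻¹ (inv_mem hg) _ hx
  simpa [mul_assoc] using this

theorem not_mem_conj (h : Isol G T m) {g t : G} (ht : t ∈ T) (ht1 : t ≠ 1) (hg : g ∉ T) : g * t * g⁻¹ ≠ t := by
  intro h1
  exact hg (h.commute_mem ht ht1 ((mul_inv_eq_iff_eq_mul.1 h1 : g * t = t * g)).symm)

/-- The order of the normaliser: `|N(T)| = m * n` with `n ∣ r - 1` for each prime `r ∣ m`. -/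
theorem exists_n (h : Isol G T m) : ∃ n, Nat.card (normalizer (T : Set G)) = m * n ∧
    ∀ r, r.Prime → r ∣ m → n ∣ r - 1 := by
  have hTN : T ≤ normalizer (T : Set G) := Subgroup.le_normalizer
  obtain ⟨n, hn⟩ : m ∣ Nat.card (normalizer (T : Set G)) := by
    rw [← h.card]; exact Subgroup.card_dvd_of_le hTN
  refine ⟨n, hn, fun r hr hrm => ?_⟩
  have := h.cyc
  have := Fact.mk hr
  have hmpos := h.pos
  -- nontrivial elements of order dividing `r`
  let Y : Type _ := {t : T // t ^ r = 1 ∧ t ≠ 1}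
  have hY : Nat.card Y = r - 1 := by
    have := Fintype.ofFinite T
    classical
    have h1 : (Finset.univ.filter fun t : T => t ^ r = 1).card = r := by
      have h2 := IsCyclic.card_pow_eq_one_le (α := T) (n := r) hr.pos
      refine le_antisymm h2 ?_
      obtain ⟨x, hx⟩ := exists_prime_orderOf_dvd_card' (G := T) r (by rw [h.card]; exact hrm)
      have h3 : (Finset.univ.filter fun t : T => t ∈ zpowers x).card = r := by
        rw [← hx, ← Nat.card_zpowers, Nat.card_eq_fintype_card, Fintype.card_subtype]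
      rw [← h3]
      apply Finset.card_le_card
      intro t ht
      simp only [Finset.mem_filter, Finset.mem_univ, true_and] at ht ⊢
      rw [h3]
      obtain ⟨k, rfl⟩ := ht
      change (x ^ k) ^ r = 1
      rw [← zpow_natCast, zpow_comm, zpow_natCast, ← hx, pow_orderOf_eq_one, one_zpow]
    rw [Nat.card_eq_fintype_card, Fintype.card_subtype]
    have h4 : (Finset.univ.filter fun t : T => t ^ r = 1 ∧ t ≠ 1) =
        (Finset.univ.filter fun t : T => t ^ r = 1).erase 1 := by
      ext t
      simp only [Finset.mem_filter, Finset.mem_univ, true_and, Finset.mem_erase]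
      (clear * -; tauto)
    rw [h4, Finset.card_erase_of_mem (by simp only [_root_.Finset.mem_filter, _root_.Finset.mem_univ, _root_.one_pow, _root_.and_self]), h1]
  have hN : ∀ (x : normalizer (T : Set G)) (t : T), (x : G) * t * (x : G)⁻¹ ∈ T := fun x t =>
    (Subgroup.mem_normalizer_iff.1 x.2 t).1 t.2
  have hact1 : ∀ (x : normalizer (T : Set G)) (t : Y),
      (⟨(x : G) * (t.1 : G) * (x : G)⁻¹, hN x t.1⟩ : T) ^ r = 1 ∧
      (⟨(x : G) * (t.1 : G) * (x : G)⁻¹, hN x t.1⟩ : T) ≠ 1 := by
    intro x t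
    constructor
    · apply Subtype.ext
      have h1 : ((t.1 : T) : G) ^ r = 1 := congrArg Subtype.val t.2.1
      change ((x : G) * (t.1 : G) * (x : G)⁻¹) ^ r = 1
      rw [conj_pow, h1]; simp
    · intro h1
      apply t.2.2
      apply Subtype.ext
      have h2 : (x : G) * (t.1 : G) * (x : G)⁻¹ = 1 := congrArg Subtype.val h1
      have : (x : G)⁻¹ * ((x : G) * (t.1 : G) * (x : G)⁻¹) * x = 1 := by rw [h2]; simp
      simpa only [mul_assoc, _root_.ne_eq, _root_.OneMemClass.coe_one, _root_.OneMemClass.coe_eq_one, _root_.inv_mul_cancel_left, _root_.inv_mul_cancel, _root_.mul_one] using this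
  let act : MulAction (normalizer (T : Set G)) Y :=
    { smul := fun x t => ⟨⟨(x : G) * (t.1 : G) * (x : G)⁻¹, hN x t.1⟩, hact1 x t⟩
      one_smul := fun t => Subtype.ext (Subtype.ext (by
        change ((1 : normalizer (T : Set G)) : G) * (t.1 : G) * ((1 : normalizer (T : Set G)) : G)⁻¹ = t.1
        simp only [_root_.OneMemClass.coe_one, _root_.ne_eq, _root_.one_mul, _root_.inv_one, _root_.mul_one]))
      mul_smul := fun x y t => Subtype.ext (Subtype.ext (by
        change ((x * y : normalizer (T : Set G)) : G) * (t.1 : G) * ((x * y : normalizer (T : Set G)) : G)⁻¹ =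
          (x : G) * ((y : G) * (t.1 : G) * (y : G)⁻¹) * (x : G)⁻¹
        simp only [mul_assoc, _root_.Subgroup.coe_mul, _root_.ne_eq, _root_.mul_inv_rev])) }
  have hstab : ∀ t : Y, Nat.card (MulAction.stabilizer (normalizer (T : Set G)) t) = m := by
    intro t
    have h1 : MulAction.stabilizer (normalizer (T : Set G)) t = T.subgroupOf (normalizer (T : Set G)) := by
      ext x
      rw [MulAction.mem_stabilizer_iff, Subgroup.mem_subgroupOf]
      have ht1 : ((t.1 : T) : G) ≠ 1 := fun h => t.2.2 (Subtype.ext h)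
      constructor
      · intro hx
        have h2 : (x : G) * (t.1 : G) * (x : G)⁻¹ = t.1 := congrArg (fun y : Y => ((y.1 : T) : G)) hx
        by_contra h3
        exact h.not_mem_conj t.1.2 ht1 h3 h2
      · intro hx
        apply Subtype.ext
        apply Subtype.ext
        change (x : G) * (t.1 : G) * (x : G)⁻¹ = t.1
        exact mul_inv_eq_iff_eq_mul.2 (h.comm hx t.1.2)
    rw [h1, Nat.card_congr (Subgroup.subgroupOfEquivOfLe hTN).toEquiv, h.card]
  obtain ⟨k, hk⟩ := Cfsg.Agent.Lib.ActCount.exists_card_mul (H := normalizer (T : Set G)) (Y := Y) m hstab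
  rw [hn, hY] at hk
  have hk2 : m * (r - 1) = m * (k * n) := by rw [hk]; ring
  have hk3 : r - 1 = k * n := Nat.eq_of_mul_eq_mul_left hmpos hk2
  exact Dvd.intro_left _ hk3.symm

omit [Finite G] in
theorem not_dvd_div (h : Isol G T m) {r : ℕ} (hr : r.Prime) (hrm : r ∣ m) : ¬ r ∣ Nat.card G / m := fun h3 => by
  have := Nat.dvd_gcd hrm h3
  rw [h.cop] at this
  exact hr.one_lt.ne' (Nat.dvd_one.1 this)

theorem div_ne_zero (h : Isol G T m) : Nat.card G / m ≠ 0 := fun h4 => by
  have := h.mul_eq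
  rw [h4, mul_zero] at this
  exact Nat.card_pos.ne this

theorem factorization_eq (h : Isol G T m) {r : ℕ} (hr : r.Prime) (hrm : r ∣ m) :
    m.factorization r = (Nat.card G).factorization r := by
  rw [← h.mul_eq, Nat.factorization_mul h.pos.ne' h.div_ne_zero, Finsupp.add_apply,
    Nat.factorization_eq_zero_of_not_dvd (h.not_dvd_div hr hrm), add_zero]

/-- `T` contains a Sylow `r`-subgroup of `G`. -/
theorem exists_sylow (h : Isol G T m) {r : ℕ} [hr : Fact r.Prime] (hrm : r ∣ m) :
    ∃ R : Sylow r G, (R : Subgroup G) ≤ T := by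
  obtain ⟨R⟩ : Nonempty (Sylow r T) := inferInstance
  have h1 : Nat.card ((R : Subgroup T).map T.subtype) = r ^ (Nat.card G).factorization r := by
    rw [Subgroup.card_map_of_injective T.subtype_injective, R.card_eq_multiplicity, h.card]
    rw [h.factorization_eq hr.out hrm]
  exact ⟨Sylow.ofCard _ h1, fun x hx => by
    obtain ⟨y, _, rfl⟩ := Subgroup.mem_map.1 hx
    exact y.2⟩

/-- The congruence `|G| / m ≡ n mod r`. -/
theorem modEq (h : Isol G T m) {n : ℕ} (hn : Nat.card (normalizer (T : Set G)) = m * n) {r : ℕ} (hr : r.Prime)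
    (hrm : r ∣ m) : Nat.card G / m ≡ n [MOD r] := by
  have := Fact.mk hr
  obtain ⟨R, hRT⟩ := h.exists_sylow hrm
  have := h.cyc
  have hR1 : (R : Subgroup G) ≠ ⊥ := R.ne_bot_of_dvd_card (hrm.trans h.dvd)
  -- `N(R) = N(T)`
  have h1 : normalizer ((R : Subgroup G) : Set G) = normalizer (T : Set G) := by
    apply le_antisymm (h.normalizer_le hRT hR1)
    have hR : ∀ x ∈ T, (x ∈ (R : Subgroup G) ↔ x ^ Nat.card R = 1) := by
      intro x hx
      constructor
      · intro hxR
        have := pow_card_eq_one' (G := (R : Subgroup G)) (x := ⟨x, hxR⟩)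
        exact congrArg Subtype.val this
      · intro hx1
        have hp : IsPGroup r (zpowers x) := by
          obtain ⟨k, hk⟩ := IsPGroup.iff_card.1 R.isPGroup'
          rw [hk] at hx1
          obtain ⟨j, -, hj⟩ := (Nat.dvd_prime_pow hr).1 (orderOf_dvd_of_pow_eq_one hx1)
          exact IsPGroup.of_card (n := j) (by rw [Nat.card_zpowers, hj])
        have h3 : x ∈ normalizer ((R : Subgroup G) : Set G) := by
          rw [Subgroup.mem_normalizer_iff]
          have hc : ∀ y ∈ T, x * y * x⁻¹ = y := fun y hy => mul_inv_eq_iff_eq_mul.2 (h.comm hx hy)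
          intro y
          constructor
          · intro hy; rw [hc y (hRT hy)]; exact hy
          · intro hy
            have h4 : x * y * x⁻¹ ∈ T := hRT hy
            have h5 : y ∈ T := by
              have := T.mul_mem (T.mul_mem (T.inv_mem hx) h4) hx
              simpa [mul_assoc] using this
            rwa [hc y h5] at hy
        have h4 := IsPGroup.inf_normalizer_sylow hp R
        have h5 : x ∈ zpowers x ⊓ normalizer ((R : Subgroup G) : Set G) := ⟨mem_zpowers x, h3⟩
        exact (show x ∈ zpowers x ⊓ (R : Subgroup G) from h4 ▸ h5).2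
    intro g hg
    rw [Subgroup.mem_normalizer_iff] at hg ⊢
    intro x
    constructor
    · intro hx
      have h2 := (hg x).1 (hRT hx)
      exact (hR _ h2).2 (by rw [conj_pow, (hR x (hRT hx)).1 hx]; simp)
    · intro hx
      have h2 := (hg x).2 (hRT hx)
      refine (hR _ h2).2 ?_
      have h3 := (hR _ (hRT hx)).1 hx
      rw [conj_pow] at h3
      have : g⁻¹ * (g * x ^ Nat.card R * g⁻¹) * g = 1 := by rw [h3]; simp
      simpa only [mul_assoc, _root_.inv_mul_cancel_left, _root_.inv_mul_cancel, _root_.mul_one] using this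
  have h2 := card_sylow_modEq_one r G
  rw [R.card_eq_index_normalizer] at h2
  change (normalizer ((R : Subgroup G) : Set G)).index ≡ 1 [MOD r] at h2
  rw [h1] at h2
  have h3 := Subgroup.card_mul_index (normalizer (T : Set G))
  rw [hn, mul_assoc] at h3
  have h4 : Nat.card G / m = n * (normalizer (T : Set G)).index := by
    rw [← h3]; exact Nat.mul_div_cancel_left _ h.pos
  rw [h4]
  simpa using h2.mul_left n

end Isol

end Cfsg.Agent.H364
end

-- part: H364/Iso2
section
/-!
# Structure of groups with an isolated cyclic Hall subgroup (helper364)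
-/

set_option autoImplicit false

namespace Cfsg.Agent.H364

open Subgroup

/-- A nonabelian finite simple group has even order. -/
theorem two_dvd_card {S : Type*} [Group S] [Finite S] [IsSimpleGroup S] (hna : ¬ ∀ a b : S, a * b = b * a) :
    2 ∣ Nat.card S := by
  by_contra h
  have hodd : Odd (Nat.card S) := Nat.odd_iff.2 (Nat.two_dvd_ne_zero.1 h)
  have : Group.IsSolvable S := Cfsg.Agent.S0205.result hodd
  exact hna fun a b => IsSimpleGroup.comm_iff_isSolvable.2 this a b

/-- The order of a supremum of an independent commuting family. -/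
theorem exists_dvd_of_prime_dvd {G : Type*} [Group G] [Finite G] {k : ℕ} (S : Fin k → Subgroup G) {N : Subgroup G}
    (hcomm : ∀ i j, i ≠ j → ∀ x ∈ S i, ∀ y ∈ S j, Commute x y) (hind : iSupIndep S) (hsup : ⨆ i, S i = N)
    {r : ℕ} (hr : r.Prime) (hrN : r ∣ Nat.card N) : ∃ i, r ∣ Nat.card (S i) := by
  obtain ⟨e⟩ := Cfsg.Agent.Lib.MinNormal.mulEquiv_pi_of_iSupIndep S
    (fun i j hij x y hx hy => hcomm i j hij x hx y hy) hind hsup
  rw [Nat.card_congr e.toEquiv, Nat.card_pi] at hrN
  obtain ⟨i, -, hi⟩ := (Prime.dvd_finsetProd_iff hr.prime _).1 hrN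
  exact ⟨i, hi⟩

/-- **Minimal normal subgroups in groups without elements of order `r s`.** -/
theorem minimal_normal_cases {G : Type*} [Group G] [Finite G] (N : Subgroup G) [hNn : N.Normal] (hN : N ≠ ⊥)
    (hmin : ∀ M : Subgroup G, M.Normal → M ≤ N → M = ⊥ ∨ M = N) {r : ℕ} (hr : r.Prime) (hrN : r ∣ Nat.card N) :
    IsPGroup r N ∨ ∃ (k : ℕ) (S : Fin k → Subgroup G), 0 < k ∧ (∀ i, S i ≤ N) ∧ (∀ i, IsSimpleGroup (S i)) ∧
      (∀ i, ¬ ∀ a b : S i, a * b = b * a) ∧ (∀ i, r ∣ Nat.card (S i)) ∧ (∀ i j, Nat.card (S i) = Nat.card (S j)) ∧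
      (∀ i j, i ≠ j → ∀ x ∈ S i, ∀ y ∈ S j, Commute x y) ∧ ⨆ i, S i = N := by
  obtain ⟨k, S, hk, hSN, hsimple, -, hconj, hcomm, -, hind, hsup⟩ :=
    Cfsg.Agent.Lib.MinNormal.exists_internal_decomposition N hN hmin
  obtain ⟨i0, hi0⟩ := exists_dvd_of_prime_dvd S hcomm hind hsup hr hrN
  have hiso : ∀ i j, Nonempty (S i ≃* S j) := fun i j => by
    obtain ⟨g, hg⟩ := hconj i j
    exact ⟨((S i).equivMapOfInjective _ (MulAut.conj g).injective).trans (MulEquiv.subgroupCongr hg.symm)⟩
  have hcard : ∀ i j, Nat.card (S i) = Nat.card (S j) := fun i j => by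
    obtain ⟨e⟩ := hiso i j
    exact Nat.card_congr e.toEquiv
  by_cases hab : ∀ a b : S i0, a * b = b * a
  · left
    have := hsimple i0
    have hp : ∀ i, Nat.card (S i) = r := by
      intro i
      rw [hcard i i0]
      have hcomm0 : ∀ a b : S i0, a * b = b * a := hab
      have hprime : (Nat.card (S i0)).Prime := by
        let : CommGroup (S i0) := { (inferInstance : Group (S i0)) with mul_comm := hcomm0 }
        exact IsSimpleGroup.prime_card
      exact ((Nat.prime_dvd_prime_iff_eq hr hprime).1 hi0).symm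
    obtain ⟨e⟩ := Cfsg.Agent.Lib.MinNormal.mulEquiv_pi_of_iSupIndep S
      (fun i j hij x y hx hy => hcomm i j hij x hx y hy) hind hsup
    have h1 : Nat.card N = r ^ k := by
      rw [Nat.card_congr e.toEquiv, Nat.card_pi, Finset.prod_congr rfl (fun i _ => hp i)]
      simp only [_root_.Finset.prod_const, _root_.Finset.card_univ, _root_.Fintype.card_fin]
    exact IsPGroup.of_card h1
  · right
    refine ⟨k, S, hk, hSN, hsimple, fun i h => hab fun a b => ?_, fun i => hcard i0 i ▸ hi0, hcard, hcomm, hsup⟩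
    obtain ⟨e⟩ := hiso i0 i
    apply e.injective
    rw [map_mul, map_mul, h]

theorem exists_minimal_normal (G : Type*) [Group G] [Finite G] [Nontrivial G] : ∃ N : Subgroup G, N.Normal ∧ N ≠ ⊥ ∧
    ∀ M : Subgroup G, M.Normal → M ≤ N → M = ⊥ ∨ M = N := by
  obtain ⟨N, hN⟩ := (Set.toFinite {N : Subgroup G | N.Normal ∧ N ≠ ⊥}).exists_minimal
    ⟨⊤, inferInstance, top_ne_bot⟩
  refine ⟨N, hN.1.1, hN.1.2, fun M hM hMN => ?_⟩
  by_cases h : M = ⊥
  · exact Or.inl h
  · exact Or.inr (le_antisymm hMN (hN.2 ⟨hM, h⟩ hMN))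

/-- The largest normal subgroup of order prime to `m`. -/
theorem exists_core (G : Type*) [Group G] [Finite G] (m : ℕ) : ∃ K : Subgroup G, K.Normal ∧
    (Nat.card K).Coprime m ∧ ∀ L : Subgroup G, L.Normal → (Nat.card L).Coprime m → L ≤ K := by
  obtain ⟨K, hK⟩ := (Set.toFinite {K : Subgroup G | K.Normal ∧ (Nat.card K).Coprime m}).exists_maximal
    ⟨⊥, inferInstance, by rw [Subgroup.card_bot]; exact Nat.coprime_one_left m⟩
  refine ⟨K, hK.1.1, hK.1.2, fun L hL hLm => ?_⟩
  have := hK.1.1
  have h1 : (K ⊔ L).Normal := inferInstance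
  have h2 : Nat.card (K ⊔ L : Subgroup G) ∣ Nat.card K * Nat.card L := by
    have h3 : Nat.card K * K.relIndex (K ⊔ L) = Nat.card (K ⊔ L : Subgroup G) := by
      rw [← Subgroup.relIndex_bot_left K, ← Subgroup.relIndex_bot_left (K ⊔ L)]
      exact Subgroup.relIndex_mul_relIndex _ _ _ bot_le le_sup_left
    rw [← h3, Subgroup.relIndex_sup_left]
    exact Nat.mul_dvd_mul_left _ (Subgroup.relIndex_dvd_card K L)
  have h4 : (Nat.card (K ⊔ L : Subgroup G)).Coprime m :=
    Nat.Coprime.coprime_dvd_left h2 (Nat.Coprime.mul_left hK.1.2 hLm)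
  exact le_trans le_sup_right (hK.2 ⟨h1, h4⟩ le_sup_left)

/-- In the quotient by the core there is no normal subgroup of order prime to `m`. -/
theorem core_quotient {G : Type*} [Group G] [Finite G] {m : ℕ} {K : Subgroup G} [K.Normal]
    (hKm : (Nat.card K).Coprime m) (hmax : ∀ L : Subgroup G, L.Normal → (Nat.card L).Coprime m → L ≤ K)
    (L : Subgroup (G ⧸ K)) (hL : L.Normal) (hLm : (Nat.card L).Coprime m) : L = ⊥ := by
  have h1 : Nat.card (L.comap (QuotientGroup.mk' K)) = Nat.card K * Nat.card L := by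
    have h2 := Subgroup.card_mul_index (L.comap (QuotientGroup.mk' K))
    have h3 := Subgroup.card_mul_index L
    have h4 := Subgroup.card_mul_index K
    rw [Subgroup.index_comap_of_surjective _ (QuotientGroup.mk'_surjective K)] at h2
    rw [Subgroup.index_eq_card K, ← h3] at h4
    have h5 : L.index ≠ 0 := Subgroup.index_ne_zero_of_finite
    apply Nat.eq_of_mul_eq_mul_right (Nat.pos_of_ne_zero h5)
    rw [h2, ← h4]; ring
  have h2 := hmax _ (hL.comap _) (by rw [h1]; exact Nat.Coprime.mul_left hKm hLm)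
  rw [eq_bot_iff]
  intro x hx
  obtain ⟨y, rfl⟩ := QuotientGroup.mk'_surjective K x
  have h3 : y ∈ K := h2 hx
  rw [Subgroup.mem_bot]
  exact (QuotientGroup.eq_one_iff y).2 h3

/-- Conjugates of isolated subgroups are isolated. -/
theorem Isol.conj {G : Type*} [Group G] {T : Subgroup G} {m : ℕ} (h : Isol G T m) (g : G) :
    Isol G (T.map (MulAut.conj g).toMonoidHom) m where
  cyc := by
    have := h.cyc
    exact isCyclic_of_surjective (T.equivMapOfInjective _ (MulAut.conj g).injective).toMonoidHom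
      (T.equivMapOfInjective _ (MulAut.conj g).injective).surjective
  card := by rw [Subgroup.card_map_of_injective (MulAut.conj g).injective, h.card]
  cop := h.cop
  edge := h.edge

theorem Isol.card_normalizer_conj {G : Type*} [Group G] [Finite G] {T : Subgroup G} {m n : ℕ} (h : Isol G T m)
    (hn : Nat.card (normalizer (T : Set G)) = m * n) (g : G) :
    Nat.card (normalizer ((T.map (MulAut.conj g).toMonoidHom : Subgroup G) : Set G)) = m * n := by
  rw [← hn]
  have h1 := Subgroup.map_equiv_normalizer_eq T (MulAut.conj g)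
  change (normalizer (T : Set G)).map (MulAut.conj g).toMonoidHom =
    normalizer ((T.map (MulAut.conj g).toMonoidHom : Subgroup G) : Set G) at h1
  rw [← h1, Subgroup.card_map_of_injective (MulAut.conj g).injective]

/-- **Structure theorem**, core free case. -/
theorem Isol.struct_core {G : Type*} [Group G] [Finite G] {T : Subgroup G} {m n : ℕ} (h : Isol G T m) (hm : 1 < m)
    (h2 : ¬ 2 ∣ m) (hn : Nat.card (normalizer (T : Set G)) = m * n)
    (hcor : ∀ L : Subgroup G, L.Normal → (Nat.card L).Coprime m → L = ⊥) :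
    Nat.card G = m * n ∨ ∃ N : Subgroup G, N.Normal ∧ IsSimpleGroup N ∧ (¬ ∀ a b : N, a * b = b * a) ∧
      centralizer (N : Set G) = ⊥ ∧ T ≤ N ∧ ∃ n', 1 < n' ∧ n' * N.index = n := by
  have hnt : Nontrivial G := by
    rw [← Finite.one_lt_card_iff_nontrivial]
    exact lt_of_lt_of_le hm (Nat.le_of_dvd Nat.card_pos h.dvd)
  obtain ⟨N, hNn, hN, hmin⟩ := exists_minimal_normal G
  obtain ⟨r, hr, hrN, hrm⟩ := Nat.Prime.not_coprime_iff_dvd.1 (fun hc => hN (hcor N hNn hc))
  have := Fact.mk hr
  rcases minimal_normal_cases N hN hmin hr hrN with hpg | ⟨k, S, hk, hSN, hS, hSna, hSr, hScard, hScomm, hSsup⟩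
  · left
    obtain ⟨R, hRT⟩ := h.exists_sylow hrm
    have h1 : N ≤ T := (hpg.le_sylow_of_normal R).trans hRT
    have h3 := h.normalizer_le h1 hN
    rw [Subgroup.normalizer_eq_top, top_le_iff] at h3
    rw [h3, Subgroup.card_top] at hn
    exact hn
  · right
    have hS2 : ∀ i, 2 ∣ Nat.card (S i) := fun i => by
      have := hS i
      exact two_dvd_card (hSna i)
    have hr2 : r ≠ 2 := by rintro rfl; exact h2 hrm
    have hk1 : k = 1 := by
      by_contra hne
      have h01 : (⟨0, hk⟩ : Fin k) ≠ ⟨1, by omega⟩ := by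
        intro h; simp at h
      exact (h.edge r 2 hr Nat.prime_two hrm h2).false_of_subgroups hr Nat.prime_two hr2
        (hScomm _ _ h01) (hSr _) (hS2 _)
    subst hk1
    have hNS : S 0 = N := by
      rw [← hSsup]
      exact (iSup_unique (f := S)).symm
    have hNs : IsSimpleGroup N := hNS ▸ hS 0
    have hNna : ¬ ∀ a b : N, a * b = b * a := hNS ▸ hSna 0
    have hN2 : 2 ∣ Nat.card N := hNS ▸ hS2 0
    have hcent : centralizer (N : Set G) = ⊥ := by
      refine hcor _ inferInstance ?_
      by_contra hc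
      obtain ⟨r', hr', hr'C, hr'm⟩ := Nat.Prime.not_coprime_iff_dvd.1 hc
      refine (h.edge r' 2 hr' Nat.prime_two hr'm h2).false_of_subgroups hr' Nat.prime_two
        (by rintro rfl; exact h2 hr'm) (A := centralizer (N : Set G)) (B := N) ?_ hr'C hN2
      intro a ha b hb
      exact (Subgroup.mem_centralizer_iff.1 ha b hb).symm
    obtain ⟨Q⟩ : Nonempty (Sylow r N) := inferInstance
    -- a conjugate `T'` of `T` containing the Sylow subgroup of `N`
    have hQp : IsPGroup r ((Q : Subgroup N).map N.subtype) := Q.isPGroup'.map _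
    obtain ⟨R, hRT⟩ := h.exists_sylow hrm
    obtain ⟨g, hg⟩ : ∃ g : G, (Q : Subgroup N).map N.subtype ≤ T.map (MulAut.conj g).toMonoidHom := by
      obtain ⟨R', hR'⟩ := hQp.exists_le_sylow
      obtain ⟨g, hg⟩ := MulAction.exists_smul_eq G R R'
      refine ⟨g, hR'.trans ?_⟩
      rw [← hg]
      exact Subgroup.map_mono hRT
    have h' := h.conj g
    set T' : Subgroup G := T.map (MulAut.conj g).toMonoidHom with hT'
    have hn' : Nat.card (normalizer (T' : Set G)) = m * n := h.card_normalizer_conj hn g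
    set Q' : Subgroup G := (Q : Subgroup N).map N.subtype with hQ'
    have hQ1 : (Q : Subgroup N) ≠ ⊥ := Q.ne_bot_of_dvd_card hrN
    have hQ'1 : Q' ≠ ⊥ := fun h => hQ1 ((Subgroup.map_eq_bot_iff_of_injective _ N.subtype_injective).1 h)
    have hle : normalizer (Q' : Set G) ≤ normalizer (T' : Set G) := h'.normalizer_le hg hQ'1
    have hsup : normalizer (T' : Set G) ⊔ N = ⊤ := by
      rw [eq_top_iff, ← Sylow.normalizer_sup_eq_top Q]
      exact sup_le_sup_right hle N
    obtain ⟨x, hxN, hxT, hxN'⟩ : ∃ x ∈ N, x ∉ T' ∧ x ∈ normalizer (T' : Set G) := by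
      by_contra hcon
      push Not at hcon
      have hle2 : normalizer ((Q : Subgroup N) : Set N) ≤ centralizer ((Q : Subgroup N) : Set N) := by
        intro x hx
        have h3 : (x : G) ∈ normalizer (Q' : Set G) := by
          rw [Subgroup.mem_normalizer_iff] at hx ⊢
          intro y
          rw [hQ', Subgroup.mem_map, Subgroup.mem_map]
          constructor
          · rintro ⟨z, hz, rfl⟩
            exact ⟨x * z * x⁻¹, (hx z).1 hz, rfl⟩
          · rintro ⟨z, hz, hzy⟩
            refine ⟨x⁻¹ * z * x, (hx _).2 (by simpa only [mul_assoc, _root_.mul_inv_cancel_left, _root_.mul_inv_cancel, _root_.mul_one] using hz), ?_⟩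
            have : (x : G)⁻¹ * (N.subtype z) * x = y := by rw [hzy]; simp [mul_assoc]
            rw [← this]; rfl
        have h4 : (x : G) ∈ T' := by
          by_contra h5
          exact hcon x x.2 h5 (hle h3)
        rw [Subgroup.mem_centralizer_iff]
        intro y hy
        apply Subtype.ext
        have h5 : (y : G) ∈ T' := hg ⟨y, hy, rfl⟩
        exact (h'.comm h5 h4).eq
      have hcompl := MonoidHom.ker_transferSylow_isComplement' Q hle2
      rcases (inferInstance : (MonoidHom.transferSylow Q hle2).ker.Normal).eq_bot_or_eq_top with h3 | h3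
      · rw [h3, Subgroup.isComplement'_bot_left] at hcompl
        apply hNna
        intro a b
        have ha : a ∈ (Q : Subgroup N) := hcompl ▸ Subgroup.mem_top a
        have hb : b ∈ (Q : Subgroup N) := hcompl ▸ Subgroup.mem_top b
        exact (Subgroup.mem_centralizer_iff.1 (hle2 (Subgroup.le_normalizer hb)) a ha)
      · rw [h3, Subgroup.isComplement'_top_left] at hcompl
        exact hQ1 hcompl
    have hT'N : T' ≤ N := by
      have hmem : ∀ t : T', x * t * x⁻¹ * (t : G)⁻¹ ∈ T' := fun t =>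
        T'.mul_mem ((Subgroup.mem_normalizer_iff.1 hxN' t).1 t.2) (T'.inv_mem t.2)
      let φ : T' → T' := fun t => ⟨x * t * x⁻¹ * (t : G)⁻¹, hmem t⟩
      have hinj : Function.Injective φ := by
        intro s t hst
        by_contra hne
        have h3 : x * s * x⁻¹ * (s : G)⁻¹ = x * t * x⁻¹ * (t : G)⁻¹ := congrArg Subtype.val hst
        have hu : ((t : G)⁻¹ * s) ∈ T' := T'.mul_mem (T'.inv_mem t.2) s.2
        have hu1 : ((t : G)⁻¹ * s) ≠ 1 := fun h5 => hne (Subtype.ext (inv_mul_eq_one.1 h5).symm)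
        apply h'.not_mem_conj hu hu1 hxT
        have h4 : Commute ((x : G) * t * x⁻¹) ((t : G)⁻¹) :=
          h'.comm ((Subgroup.mem_normalizer_iff.1 hxN' t).1 t.2) (T'.inv_mem t.2)
        calc x * ((t : G)⁻¹ * s) * x⁻¹ = (x * t * x⁻¹)⁻¹ * (x * s * x⁻¹ * (s : G)⁻¹) * s := by group
          _ = (x * t * x⁻¹)⁻¹ * ((x * t * x⁻¹) * (t : G)⁻¹) * s := by rw [h3]
          _ = (t : G)⁻¹ * s := by group
      have hsurj := Finite.surjective_of_injective hinj
      intro t ht
      obtain ⟨s, hs⟩ := hsurj ⟨t, ht⟩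
      have h3 : x * s * x⁻¹ * (s : G)⁻¹ = t := congrArg Subtype.val hs
      rw [← h3]
      have h4 : x * s * x⁻¹ * (s : G)⁻¹ = x * ((s : G) * x⁻¹ * (s : G)⁻¹) := by group
      rw [h4]
      exact N.mul_mem hxN (hNn.conj_mem _ (N.inv_mem hxN) _)
    have hTN : T ≤ N := by
      intro t ht
      have h3 : g * t * g⁻¹ ∈ N := hT'N ⟨t, ht, rfl⟩
      have := hNn.conj_mem _ h3 g⁻¹
      simpa [mul_assoc] using this
    refine ⟨N, hNn, hNs, hNna, hcent, hTN, ?_⟩
    -- indices
    have h3 : N.index = N.relIndex (normalizer (T' : Set G)) := by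
      rw [← Subgroup.relIndex_top_right, ← hsup, Subgroup.relIndex_sup_right]
    have h4 : Nat.card (N ⊓ normalizer (T' : Set G) : Subgroup G) * N.relIndex (normalizer (T' : Set G)) =
        Nat.card (normalizer (T' : Set G)) := by
      rw [← Subgroup.inf_relIndex_right N, ← Subgroup.relIndex_bot_left (N ⊓ normalizer (T' : Set G)),
        ← Subgroup.relIndex_bot_left (normalizer (T' : Set G))]
      exact Subgroup.relIndex_mul_relIndex _ _ _ bot_le inf_le_right
    have h5 : T' ≤ N ⊓ normalizer (T' : Set G) := le_inf hT'N Subgroup.le_normalizer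
    obtain ⟨n', hn''⟩ : m ∣ Nat.card (N ⊓ normalizer (T' : Set G) : Subgroup G) := by
      rw [← h'.card]; exact Subgroup.card_dvd_of_le h5
    refine ⟨n', ?_, ?_⟩
    · by_contra hlt
      have h6 : Nat.card (N ⊓ normalizer (T' : Set G) : Subgroup G) ≤ Nat.card T' := by
        rw [hn'', h'.card]
        calc m * n' ≤ m * 1 := Nat.mul_le_mul_left _ (by omega)
          _ = m := mul_one m
      have h7 := Subgroup.eq_of_le_of_card_ge h5 h6
      exact hxT (h7 ▸ (⟨hxN, hxN'⟩ : x ∈ N ⊓ normalizer (T' : Set G)))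
    · rw [hn', hn'', ← h3, mul_assoc] at h4
      exact Nat.eq_of_mul_eq_mul_left h.pos h4

end Cfsg.Agent.H364
end
end

-- part: H364/Iso3
section
set_option linter.all false
open scoped Cfsg.Agent.FastGrp

/-!
# Isolated cyclic Hall subgroups: the general structure theorem (helper364)
-/

set_option autoImplicit false

namespace Cfsg.Agent.H364

open Subgroup

theorem modEq_one_of_parts {m c : ℕ} (hc : c ≠ 0) (h : ∀ t, t.Prime → m ∣ t ^ c.factorization t - 1) :
    c ≡ 1 [MOD m] := by
  have h1 : c = c.factorization.prod fun p k => p ^ k := (Nat.prod_factorization_pow_eq_self hc).symm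
  rw [h1, Finsupp.prod]
  have : ∀ s : Finset ℕ, (∀ p ∈ s, p.Prime) → ∏ p ∈ s, p ^ c.factorization p ≡ 1 [MOD m] := by
    intro s
    induction s using Finset.induction_on with
    | empty => intro _; simp; rfl
    | insert a s ha ih =>
      intro hs
      rw [Finset.prod_insert ha]
      have h2 := ih fun p hp => hs p (Finset.mem_insert_of_mem hp)
      have hpa : a.Prime := hs a (Finset.mem_insert_self _ _)
      have h3 : a ^ c.factorization a ≡ 1 [MOD m] := by
        have h4 : 1 ≤ a ^ c.factorization a := Nat.one_le_pow _ _ hpa.pos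
        exact ((Nat.modEq_iff_dvd' h4).2 (h a hpa)).symm
      simpa using h3.mul h2
  exact this _ fun p hp => by
    rw [Nat.support_factorization] at hp
    exact Nat.prime_of_mem_primeFactors hp

theorem dvd_of_prime_parts {m x : ℕ} (hm : m ≠ 0) (h : ∀ r, r.Prime → r ∣ m → r ^ m.factorization r ∣ x) : m ∣ x := by
  rcases Nat.eq_zero_or_pos x with rfl | hx
  · exact dvd_zero m
  · rw [← Nat.factorization_le_iff_dvd hm hx.ne']
    intro r
    by_cases hr : r.Prime
    · by_cases hrm : r ∣ m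
      · exact (hr.pow_dvd_iff_le_factorization hx.ne').1 (h r hr hrm)
      · rw [Nat.factorization_eq_zero_of_not_dvd hrm]; exact Nat.zero_le _
    · rw [Nat.factorization_eq_zero_of_not_prime _ hr]; exact Nat.zero_le _

variable {G : Type*} [Group G] [Finite G] {T : Subgroup G} {m : ℕ}

theorem Isol.quotient (h : Isol G T m) {K : Subgroup G} [K.Normal] (hK : (Nat.card K).Coprime m) :
    Isol (G ⧸ K) (T.map (QuotientGroup.mk' K)) m := by
  have hdisj : T ⊓ K = ⊥ := by
    rw [← Subgroup.card_eq_one]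
    have h1 : Nat.card (T ⊓ K : Subgroup G) ∣ m := h.card ▸ Subgroup.card_dvd_of_le inf_le_left
    have h2 : Nat.card (T ⊓ K : Subgroup G) ∣ Nat.card K := Subgroup.card_dvd_of_le inf_le_right
    exact Nat.eq_one_of_dvd_coprimes hK h2 h1
  have hcard : Nat.card (T.map (QuotientGroup.mk' K)) = m := by
    rw [← h.card]
    refine (Nat.card_congr (Equiv.ofBijective (fun t : T => (⟨QuotientGroup.mk' K t, Subgroup.mem_map_of_mem _ t.2⟩ :
      T.map (QuotientGroup.mk' K))) ⟨?_, ?_⟩)).symm
    · intro s t hst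
      have h1 : QuotientGroup.mk' K (s : G) = QuotientGroup.mk' K (t : G) := congrArg Subtype.val hst
      have h2 : (s : G)⁻¹ * t ∈ K := QuotientGroup.eq.1 h1
      have h3 : (s : G)⁻¹ * t ∈ T ⊓ K := ⟨T.mul_mem (T.inv_mem s.2) t.2, h2⟩
      rw [hdisj, Subgroup.mem_bot] at h3
      exact Subtype.ext (inv_mul_eq_one.1 h3)
    · rintro ⟨x, hx⟩
      obtain ⟨t, ht, rfl⟩ := Subgroup.mem_map.1 hx
      exact ⟨⟨t, ht⟩, rfl⟩
  have hGK : Nat.card G = Nat.card K * Nat.card (G ⧸ K) := by
    rw [← Subgroup.card_mul_index K, Subgroup.index_eq_card]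
  have hm : m ∣ Nat.card (G ⧸ K) := hcard ▸ Subgroup.card_subgroup_dvd_card _
  refine ⟨?_, hcard, ?_, fun r s hr hs hrm hsm => noEdge_quotient K (h.edge r s hr hs hrm hsm)⟩
  · have := h.cyc
    let f : T →* T.map (QuotientGroup.mk' K) := (QuotientGroup.mk' K).subgroupMap T
    exact isCyclic_of_surjective f ((QuotientGroup.mk' K).subgroupMap_surjective T)
  · have h1 := h.cop
    rw [hGK, Nat.mul_div_assoc _ hm] at h1
    exact Nat.Coprime.coprime_dvd_right (Dvd.intro_left _ rfl) h1

/-- **General structure theorem** for a finite group with an isolated cyclic Hall subgroup of odd order `m > 1`. -/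
theorem Isol.struct (h : Isol G T m) (hm : 1 < m) (h2 : ¬ 2 ∣ m) :
    ∃ (K : Subgroup G) (_ : K.Normal) (n : ℕ), (Nat.card K).Coprime m ∧
      (∀ t, t.Prime → m ∣ t ^ (Nat.card K).factorization t - 1) ∧
      (∀ r, r.Prime → r ∣ m → n ∣ r - 1 ∧ Nat.card G / m ≡ n [MOD r]) ∧
      (Nat.card G = Nat.card K * (m * n) ∨
        ∃ N : Subgroup (G ⧸ K), N.Normal ∧ IsSimpleGroup N ∧ (¬ ∀ a b : N, a * b = b * a) ∧
          centralizer (N : Set (G ⧸ K)) = ⊥ ∧ m ∣ Nat.card N ∧ ∃ n', 1 < n' ∧ n' * N.index = n) := by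
  obtain ⟨K, hKn, hKm, hmax⟩ := exists_core G m
  have hGK : Nat.card G = Nat.card K * Nat.card (G ⧸ K) := by
    rw [← Subgroup.card_mul_index K, Subgroup.index_eq_card]
  have hq := h.quotient hKm
  obtain ⟨n, hn, hnr⟩ := hq.exists_n
  have hparts : ∀ t, t.Prime → m ∣ t ^ (Nat.card K).factorization t - 1 := by
    intro t ht
    by_cases htm : t ∣ m
    · have h3 : ¬ t ∣ Nat.card K := fun h4 => by
        have := Nat.dvd_gcd h4 htm
        rw [hKm] at this
        exact ht.one_lt.ne' (Nat.dvd_one.1 this)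
      rw [Nat.factorization_eq_zero_of_not_dvd h3, pow_zero, Nat.sub_self]
      exact dvd_zero m
    · apply dvd_of_prime_parts h.pos.ne'
      intro r hr hrm
      rw [h.factorization_eq hr hrm]
      refine congr_one K hr ht ?_ ?_ (h.edge r t hr ht hrm htm)
      · rintro rfl; exact htm hrm
      · intro h4
        have := Nat.dvd_gcd h4 hrm
        rw [hKm] at this
        exact hr.one_lt.ne' (Nat.dvd_one.1 this)
  have hK1 : Nat.card K ≡ 1 [MOD m] := modEq_one_of_parts Nat.card_pos.ne' hparts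
  refine ⟨K, hKn, n, hKm, hparts, fun r hr hrm => ⟨hnr r hr hrm, ?_⟩, ?_⟩
  · have h3 := hq.modEq hn hr hrm
    have h4 : Nat.card G / m = Nat.card K * (Nat.card (G ⧸ K) / m) := by
      rw [hGK, Nat.mul_div_assoc _ hq.dvd]
    rw [h4]
    have h5 : Nat.card K ≡ 1 [MOD r] := Nat.ModEq.of_dvd hrm hK1
    simpa using h5.mul h3
  · rcases hq.struct_core hm h2 hn (core_quotient hKm hmax) with h3 | ⟨N, h3, h4, h5, h6, h7, h8⟩
    · left
      rw [hGK, h3]
    · right
      refine ⟨N, h3, h4, h5, h6, ?_, h8⟩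
      rw [← hq.card]
      exact Subgroup.card_dvd_of_le h7

end Cfsg.Agent.H364
end

-- part: H364/PSUThreeTwo
section
set_option linter.all false
open scoped Cfsg.Agent.FastGrp

-- part: H364/SeventyTwo
section
/-!
# The groups of order 72 with element orders 1, 2, 3, 4 (helper364)

There is only one such group, `3² : Q₈`.
-/

set_option autoImplicit false

namespace Cfsg.Agent.H364.SeventyTwo

open Subgroup Cfsg Cfsg.Agent.H364

section additive

variable {A : Type*} [AddCommGroup A]

/-- The eigenvector lemma. -/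
theorem exists_vec (I J : A →+ A) (hI : ∀ u, I (I u) = -u) (hIJ : ∀ u, J (I u) = -(I (J u)))
    (hJ : ∀ u, J (J u) = -u) (h3 : ∀ u : A, u + u + u = 0) (hne : ∃ u : A, u ≠ 0) :
    ∃ v : A, v ≠ 0 ∧ J v = v + I v := by
  by_contra hcon
  push Not at hcon
  have h2 : ∀ u : A, u + u = 0 → u = 0 := fun u hu => by
    have := h3 u
    rwa [hu, zero_add] at this
  -- `D (D' u) = 0`
  have h4 : ∀ u, J u = I u - u := by
    intro u
    by_contra h5
    apply hcon (I u - u - J u)
    · intro h6
      apply h5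
      exact (sub_eq_zero.1 h6).symm
    · rw [← sub_eq_zero]
      calc J (I u - u - J u) - (I u - u - J u + I (I u - u - J u)) = u + u + u := by
            simp only [map_sub, hI, hJ, hIJ]
            abel
        _ = 0 := h3 u
  obtain ⟨u, hu⟩ := hne
  have h5 := h4 (I u)
  rw [hIJ, h4 u, map_sub, hI] at h5
  -- `-( -u - I u) = -u - I u`
  have h6 : (u + I u) + (u + I u) = 0 := by
    have h7 : -(-u - I u) - (-u - I u) = 0 := by rw [h5, sub_self]
    calc (u + I u) + (u + I u) = -(-u - I u) - (-u - I u) := by abel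
      _ = 0 := h7
  have h7 := h2 _ h6
  have h8 : I u = -u := by
    rw [eq_neg_iff_add_eq_zero, add_comm]; exact h7
  have h9 := hI u
  rw [h8, map_neg, h8, neg_neg] at h9
  apply hu
  apply h2
  nth_rewrite 1 [h9]
  exact neg_add_cancel u

end additive

/-! ### The model -/

/-- `3²` -/
abbrev V0 : Type := Multiplicative (ZMod 3 × ZMod 3)

/-- the automorphism `(a, b) ↦ (-b, a)` -/
def autI : MulAut V0 where
  toFun u := Multiplicative.ofAdd (-u.toAdd.2, u.toAdd.1)
  invFun u := Multiplicative.ofAdd (u.toAdd.2, -u.toAdd.1)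
  left_inv u := by
    apply Multiplicative.toAdd.injective
    ext <;> simp
  right_inv u := by
    apply Multiplicative.toAdd.injective
    ext <;> simp
  map_mul' u v := by
    apply Multiplicative.toAdd.injective
    ext <;> simp [add_comm]

/-- the automorphism `(a, b) ↦ (a + b, a - b)` -/
def autJ : MulAut V0 where
  toFun u := Multiplicative.ofAdd (u.toAdd.1 + u.toAdd.2, u.toAdd.1 - u.toAdd.2)
  invFun u := Multiplicative.ofAdd (-(u.toAdd.1 + u.toAdd.2), -(u.toAdd.1 - u.toAdd.2))
  left_inv := by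
    intro u
    revert u
    decide
  right_inv := by
    intro u
    revert u
    decide
  map_mul' := by
    decide

theorem autI_pow : autI ^ (2 * 2) = 1 := MulEquiv.ext fun u => by revert u; decide

theorem autJ_mul : autJ * autJ = autI ^ 2 := MulEquiv.ext fun u => by revert u; decide

theorem autJ_conj : autJ * autI * autJ⁻¹ = autI⁻¹ := MulEquiv.ext fun u => by revert u; decide

open Cfsg.Agent.Lib.DihedralRecog

/-- the action of the quaternion group -/
def φ0 : QuaternionGroup 2 →* MulAut V0 := quaternionHom autI autJ autI_pow autJ_mul autJ_conj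

/-- the model -/
abbrev M0 : Type := V0 ⋊[φ0] QuaternionGroup 2

theorem card_M0 : Nat.card M0 = 72 := by
  rw [SemidirectProduct.card, Nat.card_eq_fintype_card (α := QuaternionGroup 2), QuaternionGroup.card]
  have : Nat.card V0 = 9 := by
    rw [Nat.card_eq_fintype_card]; rfl
  rw [this]

theorem gen_quat : ∀ g : QuaternionGroup 2, ∃ k l : Fin 4,
    g = (QuaternionGroup.xa 0) ^ (k : ℕ) * (QuaternionGroup.a 1) ^ (l : ℕ) := by
  decide

theorem gen_V0 : ∀ u : V0, ∃ k l : Fin 3,
    u = (Multiplicative.ofAdd ((1, 0) : ZMod 3 × ZMod 3)) ^ (k : ℕ) *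
      (Multiplicative.ofAdd ((0, 1) : ZMod 3 × ZMod 3)) ^ (l : ℕ) := by
  decide

theorem hom_ext {X : Type*} [Group X] {f g : V0 →* X}
    (h1 : f (Multiplicative.ofAdd (1, 0)) = g (Multiplicative.ofAdd (1, 0)))
    (h2 : f (Multiplicative.ofAdd (0, 1)) = g (Multiplicative.ofAdd (0, 1))) : f = g := by
  refine MonoidHom.ext fun u => ?_
  obtain ⟨k, l, rfl⟩ := gen_V0 u
  rw [map_mul, map_mul, map_pow, map_pow, map_pow, map_pow, h1, h2]

theorem build {X : Type*} [Group X] [Finite X] (hX : Nat.card X = 72) (v w i j : X) (hv : v ^ 3 = 1)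
    (hw : w ^ 3 = 1) (hvw : Commute v w) (hi : i ^ (2 * 2) = 1) (hj : j * j = i ^ 2) (hij : j * i * j⁻¹ = i⁻¹)
    (h1 : i * v * i⁻¹ = w) (h2 : i * w * i⁻¹ = v⁻¹) (h3 : j * v * j⁻¹ = v * w) (h4 : j * w * j⁻¹ = v * w⁻¹)
    (hio : orderOf i = 2 * 2) (hjn : j ∉ zpowers i) (hvo : orderOf v = 3) (hwv : w ∉ zpowers v) :
    Nonempty (M0 ≃* X) := by
  let f1 : V0 →* X :=
    { toFun := fun u => zpw v hv u.toAdd.1 * zpw w hw u.toAdd.2
      map_one' := by
        change zpw v hv 0 * zpw w hw 0 = 1
        rw [zpw_zero, zpw_zero, mul_one]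
      map_mul' := fun u u' => by
        change zpw v hv (u.toAdd.1 + u'.toAdd.1) * zpw w hw (u.toAdd.2 + u'.toAdd.2) = _
        rw [zpw_add, zpw_add]
        have hc : ∀ a b, Commute (zpw v hv a) (zpw w hw b) := by
          intro a b
          obtain ⟨k, hk⟩ := zpw_mem v hv a
          obtain ⟨l, hl⟩ := zpw_mem w hw b
          rw [← hk, ← hl]
          exact (hvw.zpow_left k).zpow_right l
        calc zpw v hv u.toAdd.1 * zpw v hv u'.toAdd.1 * (zpw w hw u.toAdd.2 * zpw w hw u'.toAdd.2)
            = zpw v hv u.toAdd.1 * (zpw v hv u'.toAdd.1 * zpw w hw u.toAdd.2) * zpw w hw u'.toAdd.2 := by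
              simp only [mul_assoc]
          _ = zpw v hv u.toAdd.1 * (zpw w hw u.toAdd.2 * zpw v hv u'.toAdd.1) * zpw w hw u'.toAdd.2 := by
              rw [(hc _ _).eq]
          _ = _ := by simp only [mul_assoc] }
  have hf1 : ∀ a b : ZMod 3, f1 (Multiplicative.ofAdd (a, b)) = zpw v hv a * zpw w hw b := fun a b => rfl
  let ψ : QuaternionGroup 2 →* X := quaternionHom i j hi hj hij
  have hψa : ψ (QuaternionGroup.a 1) = i := by
    rw [quaternionHom_a]
    exact zpw_one i hi
  have hψx : ψ (QuaternionGroup.xa 0) = j := by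
    rw [quaternionHom_xa, zpw_zero, mul_one]
  have hφa : φ0 (QuaternionGroup.a 1) = autI := by
    rw [φ0, quaternionHom_a]
    exact zpw_one autI autI_pow
  have hφx : φ0 (QuaternionGroup.xa 0) = autJ := by
    rw [φ0, quaternionHom_xa, zpw_zero, mul_one]
  have hmul : ∀ g h : QuaternionGroup 2, (∀ u, f1 (φ0 g u) = ψ g * f1 u * (ψ g)⁻¹) →
      (∀ u, f1 (φ0 h u) = ψ h * f1 u * (ψ h)⁻¹) → ∀ u, f1 (φ0 (g * h) u) = ψ (g * h) * f1 u * (ψ (g * h))⁻¹ := by
    intro g h hg hh u
    rw [map_mul, map_mul, MulAut.mul_apply, hg, hh]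
    group
  have hpow : ∀ (g : QuaternionGroup 2) (k : ℕ), (∀ u, f1 (φ0 g u) = ψ g * f1 u * (ψ g)⁻¹) →
      ∀ u, f1 (φ0 (g ^ k) u) = ψ (g ^ k) * f1 u * (ψ (g ^ k))⁻¹ := by
    intro g k hg
    induction k with
    | zero => intro u; simp
    | succ k ih => rw [pow_succ]; exact hmul _ _ ih hg
  have hone : ∀ (x : X) (σ : MulAut V0), f1 (σ (Multiplicative.ofAdd (1, 0))) = x * f1 (Multiplicative.ofAdd (1, 0)) * x⁻¹ →
      f1 (σ (Multiplicative.ofAdd (0, 1))) = x * f1 (Multiplicative.ofAdd (0, 1)) * x⁻¹ →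
      ∀ u, f1 (σ u) = x * f1 u * x⁻¹ := by
    intro x σ h5 h6 u
    have h7 : f1.comp σ.toMonoidHom = (MulAut.conj x).toMonoidHom.comp f1 := by
      apply hom_ext
      · exact h5
      · exact h6
    exact DFunLike.congr_fun h7 u
  have h10 : f1 (Multiplicative.ofAdd (1, 0)) = v := by rw [hf1, zpw_zero, mul_one]; exact zpw_one v hv
  have h01 : f1 (Multiplicative.ofAdd (0, 1)) = w := by rw [hf1, zpw_zero, one_mul]; exact zpw_one w hw
  have hgen1 : ∀ u, f1 (φ0 (QuaternionGroup.a 1) u) = ψ (QuaternionGroup.a 1) * f1 u * (ψ (QuaternionGroup.a 1))⁻¹ := by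
    rw [hφa, hψa]
    apply hone
    · rw [h10, h1]
      have : autI (Multiplicative.ofAdd (1, 0)) = Multiplicative.ofAdd (0, 1) := by decide
      rw [this, h01]
    · rw [h01, h2]
      have : autI (Multiplicative.ofAdd (0, 1)) = Multiplicative.ofAdd (-1, 0) := by decide
      rw [this, hf1, zpw_zero, mul_one, zpw_neg]
      congr 1
      exact zpw_one v hv
  have hgen2 : ∀ u, f1 (φ0 (QuaternionGroup.xa 0) u) = ψ (QuaternionGroup.xa 0) * f1 u * (ψ (QuaternionGroup.xa 0))⁻¹ := by
    rw [hφx, hψx]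
    apply hone
    · rw [h10, h3]
      have : autJ (Multiplicative.ofAdd (1, 0)) = Multiplicative.ofAdd (1, 1) := by decide
      rw [this, hf1]
      congr 1
      · exact zpw_one v hv
      · exact zpw_one w hw
    · rw [h01, h4]
      have : autJ (Multiplicative.ofAdd (0, 1)) = Multiplicative.ofAdd (1, -1) := by decide
      rw [this, hf1, zpw_neg]
      congr 1
      · exact zpw_one v hv
      · congr 1
        exact zpw_one w hw
  have hall : ∀ g u, f1 (φ0 g u) = ψ g * f1 u * (ψ g)⁻¹ := by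
    intro g
    obtain ⟨k, l, rfl⟩ := gen_quat g
    exact hmul _ _ (hpow _ _ hgen2) (hpow _ _ hgen1)
  let Φ : M0 →* X := SemidirectProduct.lift f1 ψ (fun g => MonoidHom.ext fun u => hall g u)
  have hinj : Function.Injective Φ := by
    rw [injective_iff_map_eq_one]
    intro x hx
    have h5 : f1 x.left * ψ x.right = 1 := hx
    have h6 : (f1 x.left) ^ 3 = 1 := by
      rw [← map_pow]
      have : ∀ u : V0, u ^ 3 = 1 := by decide
      rw [this, map_one]
    have h7 : (f1 x.left) ^ 8 = 1 := by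
      rw [eq_inv_of_mul_eq_one_left h5, inv_pow, ← map_pow]
      have : ∀ u : QuaternionGroup 2, u ^ 8 = 1 := by decide
      rw [this, map_one, inv_one]
    have h8 : f1 x.left = 1 := by
      calc f1 x.left = (f1 x.left) ^ 9 * ((f1 x.left) ^ 8)⁻¹ := by group
        _ = ((f1 x.left) ^ 3) ^ 3 * ((f1 x.left) ^ 8)⁻¹ := by rw [← pow_mul]
        _ = 1 := by rw [h6, h7, one_pow, inv_one, mul_one]
    have h9 : ψ x.right = 1 := by rwa [h8, one_mul] at h5
    have h11 : x.right = 1 := by
      have hinj := quaternionHom_injective i j hi hj hij hio hjn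
      exact hinj (h9.trans (map_one _).symm)
    have h12 : x.left = 1 := by
      obtain ⟨a, b, hab⟩ : ∃ a b : ZMod 3, x.left = Multiplicative.ofAdd (a, b) := ⟨_, _, rfl⟩
      rw [hab, hf1] at h8
      rw [hab]
      have hb : b = 0 := by
        by_contra hb
        apply hwv
        have h13 : zpw w hw b ∈ zpowers v := by
          rw [eq_inv_of_mul_eq_one_right h8]
          exact inv_mem (zpw_mem v hv a)
        have hb12 : ∀ b : ZMod 3, b ≠ 0 → b = 1 ∨ b = -1 := by decide
        rcases hb12 b hb with rfl | rfl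
        · have h14 := zpw_one w hw
          exact h14 ▸ h13
        · rw [zpw_neg] at h13
          have h14 := zpw_one w hw
          have h15 := inv_mem h13
          rw [inv_inv] at h15
          exact h14 ▸ h15
      rw [hb, zpw_zero, mul_one] at h8
      have ha : a = 0 := zpw_inj v hv hvo a 0 (by rw [h8, zpw_zero])
      rw [ha, hb]; rfl
    exact SemidirectProduct.ext h12 h11
  have hbij : Function.Bijective Φ := by
    rw [Nat.bijective_iff_injective_and_card]
    exact ⟨hinj, by rw [card_M0, hX]⟩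
  exact ⟨MulEquiv.ofBijective Φ hbij⟩

end Cfsg.Agent.H364.SeventyTwo
end

-- part: H364/SeventyTwoB
section
/-!
# Uniqueness of the group of order 72 with element orders 1, 2, 3, 4 (helper364)
-/

set_option autoImplicit false

namespace Cfsg.Agent.H364.SeventyTwo

open Subgroup Cfsg Cfsg.Agent.H364

variable {X : Type*} [Group X] [Finite X]

theorem fact_aux {n p k : ℕ} (hp : p.Prime) (hn : n ≠ 0) (h1 : p ^ k ∣ n) (h2 : ¬ p ^ (k + 1) ∣ n) :
    n.factorization p = k := by
  have h3 := (hp.pow_dvd_iff_le_factorization hn).1 h1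
  have h4 : ¬ (k + 1 ≤ n.factorization p) := fun h => h2 ((hp.pow_dvd_iff_le_factorization hn).2 h)
  omega

theorem fact2 : Nat.factorization 72 2 = 3 :=
  fact_aux Nat.prime_two (by norm_num) (by norm_num) (by norm_num)

theorem fact3 : Nat.factorization 72 3 = 2 :=
  fact_aux Nat.prime_three (by norm_num) (by norm_num) (by norm_num)

theorem fact_le {n p : ℕ} (h : n ∣ 72) : n.factorization p ≤ Nat.factorization 72 p :=
  (Nat.factorization_le_iff_dvd (by rintro rfl; norm_num at h) (by norm_num)).2 h p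

/-- the normal subgroup of order 9 -/
theorem exists_nine (hX : Nat.card X = 72) (h6 : NoEdge X 2 3) : ∃ V : Subgroup X, V.Normal ∧ Nat.card V = 9 := by
  have hnt : Nontrivial X := by
    rw [← Finite.one_lt_card_iff_nontrivial, hX]; norm_num
  have hsol : Group.IsSolvable X := Cfsg.Agent.S0144.result 2 3 3 2 Nat.prime_two Nat.prime_three (by rw [hX]; norm_num)
  obtain ⟨N, hNn, hN, hmin⟩ := exists_minimal_normal X
  have hN1 : Nat.card N ≠ 1 := fun h => hN (Subgroup.card_eq_one.1 h)
  obtain ⟨r, hr, hrN⟩ := Nat.exists_prime_and_dvd hN1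
  have hNd : Nat.card N ∣ 72 := hX ▸ Subgroup.card_subgroup_dvd_card N
  refine ⟨N, hNn, ?_⟩
  rcases minimal_normal_cases N hN hmin hr hrN with h | ⟨k, S, hk, -, hS, hSna, -⟩
  swap
  · exfalso
    have := hS ⟨0, hk⟩
    apply hSna ⟨0, hk⟩
    have h1 : Group.IsSolvable (S ⟨0, hk⟩) := inferInstance
    exact (IsSimpleGroup.comm_iff_isSolvable).2 h1
  have := Fact.mk hr
  obtain ⟨a, ha⟩ := IsPGroup.iff_card.1 h
  have ha0 : a ≠ 0 := by rintro rfl; exact hN1 (by rw [ha, pow_zero])
  have hr72 : r ∣ 2 ^ 3 * 3 ^ 2 := hrN.trans hNd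
  have hr23 : r = 2 ∨ r = 3 := by
    rcases (Nat.Prime.dvd_mul hr).1 hr72 with h1 | h1
    · left; exact (Nat.prime_dvd_prime_iff_eq hr Nat.prime_two).1 (hr.dvd_of_dvd_pow h1)
    · right; exact (Nat.prime_dvd_prime_iff_eq hr Nat.prime_three).1 (hr.dvd_of_dvd_pow h1)
  have hfa : (Nat.card N).factorization r = a := by
    rw [ha, Nat.Prime.factorization_pow hr]; simp
  rcases hr23 with rfl | rfl
  · exfalso
    have h1 : ¬ 3 ∣ Nat.card N := by
      rw [ha]; intro h2
      have := Nat.prime_three.dvd_of_dvd_pow h2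
      norm_num at this
    have h2 := congr_one N Nat.prime_three Nat.prime_two (by norm_num) h1 h6.symm
    have h3 := fact_le (p := 2) hNd
    rw [hfa, fact2] at h3
    rw [hX, fact3, hfa] at h2
    have ha1 : 1 ≤ a := Nat.one_le_iff_ne_zero.2 ha0
    interval_cases a <;> norm_num at h2
  · have h1 : ¬ 2 ∣ Nat.card N := by
      rw [ha]; intro h2
      have := Nat.prime_two.dvd_of_dvd_pow h2
      norm_num at this
    have h2 := congr_one N Nat.prime_two Nat.prime_three (by norm_num) h1 h6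
    have h3 := fact_le (p := 3) hNd
    rw [hfa, fact3] at h3
    rw [hX, fact2, hfa] at h2
    rw [ha]
    interval_cases a
    · exact absurd rfl ha0
    · norm_num at h2
    · norm_num

theorem main (hX : Nat.card X = 72) (h6 : NoEdge X 2 3) (h8 : ∀ x : X, orderOf x ≠ 8) (h9 : ∀ x : X, orderOf x ≠ 9) :
    Nonempty (M0 ≃* X) := by
  have h2p : Fact (Nat.Prime 2) := ⟨Nat.prime_two⟩
  have h3p : Fact (Nat.Prime 3) := ⟨Nat.prime_three⟩
  obtain ⟨V, hVn, hV⟩ := exists_nine hX h6
  -- `V` is elementary abelian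
  have hVp : IsPGroup 3 V := IsPGroup.of_card (n := 2) (by rw [hV]; norm_num)
  have hVcomm : ∀ a b : V, a * b = b * a := by
    have := IsPGroup.isMulCommutative_of_card_eq_prime_sq (p := 3) (G := V) (by rw [hV]; norm_num)
    exact fun a b => this.is_comm.comm a b
  have hVc : ∀ a ∈ V, ∀ b ∈ V, Commute a b := fun a ha b hb =>
    congrArg Subtype.val (hVcomm ⟨a, ha⟩ ⟨b, hb⟩)
  have hV3 : ∀ a ∈ V, a ^ 3 = 1 := by
    intro a ha
    have h1 : orderOf a ∣ 3 ^ 2 := by
      have := orderOf_dvd_natCard (⟨a, ha⟩ : V)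
      rw [hV, Subgroup.orderOf_mk] at this
      exact this
    obtain ⟨k, hk, hk2⟩ := (Nat.dvd_prime_pow Nat.prime_three).1 h1
    rw [← orderOf_dvd_iff_pow_eq_one, hk2]
    interval_cases k
    · norm_num
    · norm_num
    · exact absurd hk2 (h9 a)
  have hV3' : ∀ a ∈ V, a ≠ 1 → orderOf a = 3 := fun a ha h1 => orderOf_eq_prime (hV3 a ha) h1
  obtain ⟨Q⟩ : Nonempty (Sylow 2 X) := inferInstance
  have hQ : Nat.card Q = 8 := by rw [Q.card_eq_multiplicity, hX, fact2]; norm_num
  -- no element of `Q` commutes with an element of `V`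
  have hQ8 : ∀ x ∈ (Q : Subgroup X), x ^ 4 = 1 := by
    intro x hx
    have h1 : orderOf x ∣ 2 ^ 3 := by
      have := orderOf_dvd_natCard (⟨x, hx⟩ : (Q : Subgroup X))
      rw [hQ, Subgroup.orderOf_mk] at this
      exact this
    obtain ⟨k, hk, hk2⟩ := (Nat.dvd_prime_pow Nat.prime_two).1 h1
    rw [← orderOf_dvd_iff_pow_eq_one, hk2]
    interval_cases k
    · norm_num
    · norm_num
    · norm_num
    · exact absurd hk2 (h8 x)
  have hfree : ∀ x ∈ (Q : Subgroup X), ∀ u ∈ V, u ≠ 1 → Commute x u → x = 1 := by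
    intro x hx u hu hu1 hxu
    by_contra hx1
    have h1 : 2 ∣ orderOf x := by
      have h2 : orderOf x ∣ 2 ^ 2 := orderOf_dvd_of_pow_eq_one (hQ8 x hx)
      obtain ⟨k, hk, hk2⟩ := (Nat.dvd_prime_pow Nat.prime_two).1 h2
      rw [hk2]
      rcases Nat.eq_zero_or_pos k with h3 | h3
      · rw [h3, pow_zero] at hk2
        exact absurd (orderOf_eq_one_iff.1 hk2) hx1
      · exact dvd_pow_self 2 h3.ne'
    exact h6.false_of_dvd Nat.prime_two Nat.prime_three (by norm_num) hxu h1 (by rw [hV3' u hu hu1])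
  have hconj : ∀ x : X, ∀ u ∈ V, x * u * x⁻¹ ∈ V := fun x u hu => hVn.conj_mem u hu x
  obtain ⟨u₀, hu₀, hu₀1⟩ : ∃ u ∈ V, u ≠ 1 := by
    by_contra h
    push Not at h
    have : V = ⊥ := (Subgroup.eq_bot_iff_forall V).2 h
    rw [this] at hV
    simp at hV
  -- involutions invert `V`
  have hinv : ∀ t ∈ (Q : Subgroup X), t * t = 1 → t ≠ 1 → ∀ u ∈ V, t * u * t⁻¹ = u⁻¹ := by
    intro t ht htt ht1 u hu
    have htinv : t⁻¹ = t := inv_eq_of_mul_eq_one_right htt
    have h1 : Commute t (u * (t * u * t⁻¹)) := by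
      have h2 : t * (u * (t * u * t⁻¹)) * t⁻¹ = u * (t * u * t⁻¹) := by
        calc t * (u * (t * u * t⁻¹)) * t⁻¹ = (t * u * t⁻¹) * ((t * t) * u * (t * t)⁻¹) := by group
          _ = (t * u * t⁻¹) * u := by rw [htt]; group
          _ = u * (t * u * t⁻¹) := (hVc _ (hconj t u hu) _ hu).eq
      exact mul_inv_eq_iff_eq_mul.1 h2
    by_contra h2
    have h3 : u * (t * u * t⁻¹) ≠ 1 := fun h4 => h2 (eq_inv_of_mul_eq_one_right h4)
    exact ht1 (hfree t ht _ (mul_mem hu (hconj t u hu)) h3 h1)
  have huniq : ∀ t ∈ (Q : Subgroup X), ∀ t' ∈ (Q : Subgroup X), t * t = 1 → t ≠ 1 → t' * t' = 1 → t' ≠ 1 → t = t' := by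
    intro t ht t' ht' htt ht1 htt' ht1'
    have h1 : t * t'⁻¹ = 1 := by
      apply hfree _ (mul_mem ht (inv_mem ht')) u₀ hu₀ hu₀1
      have h2 := hinv t' ht' htt' ht1' u₀ hu₀
      have h3 := hinv t ht htt ht1 _ (inv_mem hu₀)
      have htinv : t'⁻¹ = t' := inv_eq_of_mul_eq_one_right htt'
      have h4 : (t * t'⁻¹) * u₀ * (t * t'⁻¹)⁻¹ = u₀ := by
        rw [htinv]
        calc t * t' * u₀ * (t * t')⁻¹ = t * (t' * u₀ * t'⁻¹) * t⁻¹ := by group
          _ = u₀ := by rw [h2, h3, inv_inv]
      exact mul_inv_eq_iff_eq_mul.1 h4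
    exact mul_inv_eq_one.1 h1
  -- `i`
  obtain ⟨i, hiQ, hi2⟩ : ∃ i ∈ (Q : Subgroup X), i * i ≠ 1 := by
    by_contra h
    push Not at h
    obtain ⟨z, hzQ, hz1⟩ : ∃ z ∈ (Q : Subgroup X), z ≠ 1 := by
      by_contra h'
      push Not at h'
      have : (Q : Subgroup X) = ⊥ := (Subgroup.eq_bot_iff_forall _).2 h'
      have h2 : Nat.card (Q : Subgroup X) = 8 := hQ
      rw [this] at h2
      simp at h2
    have h1 : (Q : Subgroup X) ≤ zpowers z := by
      intro x hx
      by_cases hx1 : x = 1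
      · rw [hx1]; exact one_mem _
      · rw [huniq x hx z hzQ (h x hx) hx1 (h z hzQ) hz1]; exact mem_zpowers z
    have h2 := Subgroup.card_dvd_of_le h1
    rw [Nat.card_zpowers, show Nat.card (Q : Subgroup X) = 8 from hQ, orderOf_eq_prime (p := 2) (by rw [pow_two, h z hzQ]) hz1] at h2
    norm_num at h2
  have hio : orderOf i = 2 * 2 := by
    have h1 : orderOf i = 2 ^ (1 + 1) := orderOf_eq_prime_pow (by rw [pow_one, pow_two]; exact hi2) (hQ8 i hiQ)
    rw [h1]; norm_num
  have hz2 : (i * i) * (i * i) = 1 := by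
    rw [← hQ8 i hiQ]; simp only [pow_succ, pow_zero, one_mul, mul_assoc]
  -- `j`
  obtain ⟨j, hjQ, hjn⟩ : ∃ j ∈ (Q : Subgroup X), j ∉ zpowers i := by
    by_contra h
    push Not at h
    have h2 := Subgroup.card_dvd_of_le (show (Q : Subgroup X) ≤ zpowers i from h)
    rw [Nat.card_zpowers, show Nat.card (Q : Subgroup X) = 8 from hQ, hio] at h2
    norm_num at h2
  have hiz : i * i ∈ zpowers i := mul_mem (mem_zpowers i) (mem_zpowers i)
  have hj2 : j * j ≠ 1 := by
    intro h1
    have hj1 : j ≠ 1 := fun h2 => hjn (h2 ▸ one_mem _)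
    have := huniq j hjQ (i * i) (mul_mem hiQ hiQ) h1 hj1 hz2 hi2
    exact hjn (this ▸ hiz)
  have hjj : j * j = i * i := by
    apply huniq _ (mul_mem hjQ hjQ) _ (mul_mem hiQ hiQ) _ hj2 hz2 hi2
    rw [← hQ8 j hjQ]; simp only [pow_succ, pow_zero, one_mul, mul_assoc]
  -- `j i j⁻¹ = i⁻¹`
  have hij : j * i * j⁻¹ = i⁻¹ := by
    have hidx : ((zpowers i).subgroupOf (Q : Subgroup X)).index = 2 := by
      have h1 := Subgroup.card_mul_index ((zpowers i).subgroupOf (Q : Subgroup X))
      have h2 : zpowers i ≤ (Q : Subgroup X) := by rw [zpowers_le]; exact hiQ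
      rw [Nat.card_congr (Subgroup.subgroupOfEquivOfLe h2).toEquiv, Nat.card_zpowers, hio,
        show Nat.card (Q : Subgroup X) = 8 from hQ] at h1
      omega
    have hnorm := Subgroup.normal_of_index_eq_two hidx
    have h1 : j * i * j⁻¹ ∈ zpowers i := by
      have := hnorm.conj_mem ⟨i, hiQ⟩ (by rw [Subgroup.mem_subgroupOf]; exact mem_zpowers i) ⟨j, hjQ⟩
      rw [Subgroup.mem_subgroupOf] at this
      exact this
    have h2 : (j * i * j⁻¹) * (j * i * j⁻¹) = i * i := by
      calc (j * i * j⁻¹) * (j * i * j⁻¹) = j * (i * i) * j⁻¹ := by group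
        _ = j * (j * j) * j⁻¹ := by rw [hjj]
        _ = i * i := by rw [← hjj]; group
    -- elements of `⟨i⟩` with square `i²`
    have h3 : ∀ c ∈ zpowers i, c * c = i * i → c = i ∨ c = i⁻¹ := by
      rintro c ⟨k, rfl⟩ hc
      have hc' : i ^ (2 * k) = i ^ (2 : ℤ) := by
        calc i ^ (2 * k) = i ^ k * i ^ k := by rw [two_mul, zpow_add]
          _ = i * i := hc
          _ = i ^ (2 : ℤ) := by rw [show (2 : ℤ) = ((2 : ℕ) : ℤ) from rfl, zpow_natCast, pow_two]
      rw [zpow_eq_zpow_iff_modEq, hio] at hc'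
      have h4 : k % 4 = 1 ∨ k % 4 = 3 := by
        have : (2 * k) % 4 = 2 % 4 := hc'
        omega
      rcases h4 with h4 | h4
      · left
        calc i ^ k = i ^ (1 : ℤ) := by
              rw [zpow_eq_zpow_iff_modEq, hio]; exact h4
          _ = i := zpow_one i
      · right
        calc i ^ k = i ^ (-1 : ℤ) := by
              rw [zpow_eq_zpow_iff_modEq, hio]; exact h4
          _ = i⁻¹ := zpow_neg_one i
    rcases h3 _ h1 h2 with h4 | h4
    swap
    · exact h4
    · exfalso
      have hcomm : j * i = i * j := mul_inv_eq_iff_eq_mul.1 h4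
      have h5 : (i * j) * (i * j) = 1 := by
        calc (i * j) * (i * j) = i * (j * i) * j := by group
          _ = i * (i * j) * j := by rw [hcomm]
          _ = (i * i) * (j * j) := by group
          _ = 1 := by rw [hjj, hz2]
      by_cases h6' : i * j = 1
      · exact hjn ((eq_inv_of_mul_eq_one_right h6').symm ▸ inv_mem (mem_zpowers i))
      · have h7 := huniq _ (mul_mem hiQ hjQ) _ (mul_mem hiQ hiQ) h5 h6' hz2 hi2
        exact hjn (mul_left_cancel h7 ▸ mem_zpowers i)
  -- the vector `v`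
  let cI : V →* V := (MulAut.conjNormal i : MulAut V).toMonoidHom
  let cJ : V →* V := (MulAut.conjNormal j : MulAut V).toMonoidHom
  have hcI : ∀ u : V, ((cI u : V) : X) = i * u * i⁻¹ := fun u => MulAut.conjNormal_apply i u
  have hcJ : ∀ u : V, ((cJ u : V) : X) = j * u * j⁻¹ := fun u => MulAut.conjNormal_apply j u
  let _ : CommGroup V := { (inferInstance : Group V) with mul_comm := hVcomm }
  obtain ⟨v', hv'0, hv'⟩ := exists_vec (A := Additive V) (MonoidHom.toAdditive cI) (MonoidHom.toAdditive cJ)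
    (fun u => by
      apply Additive.toMul.injective
      apply Subtype.ext
      change ((cI (cI u.toMul) : V) : X) = ((u.toMul : V) : X)⁻¹
      rw [hcI, hcI, ← hinv (i * i) (mul_mem hiQ hiQ) hz2 hi2 _ u.toMul.2]
      group)
    (fun u => by
      apply Additive.toMul.injective
      apply Subtype.ext
      change ((cJ (cI u.toMul) : V) : X) = ((cI (cJ u.toMul) : V) : X)⁻¹
      rw [hcI, hcJ, hcI, hcJ]
      have h1 : j * ((u.toMul : V) : X) * j⁻¹ ∈ V := hconj j _ u.toMul.2
      have h2 := hinv (i * i) (mul_mem hiQ hiQ) hz2 hi2 _ (hconj i _ h1)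
      rw [← h2]
      have h3 : j * i = i⁻¹ * j := mul_inv_eq_iff_eq_mul.1 hij
      have h4 : i * i * i = i⁻¹ := by
        rw [eq_inv_iff_mul_eq_one, ← hz2]; group
      calc j * (i * ((u.toMul : V) : X) * i⁻¹) * j⁻¹ = (j * i) * ((u.toMul : V) : X) * (j * i)⁻¹ := by group
        _ = (i * i * i * j) * ((u.toMul : V) : X) * (i * i * i * j)⁻¹ := by rw [h3, h4]
        _ = _ := by group)
    (fun u => by
      apply Additive.toMul.injective
      apply Subtype.ext
      change ((cJ (cJ u.toMul) : V) : X) = ((u.toMul : V) : X)⁻¹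
      rw [hcJ, hcJ, ← hinv (i * i) (mul_mem hiQ hiQ) hz2 hi2 _ u.toMul.2, ← hjj]
      group)
    (fun u => by
      apply Additive.toMul.injective
      apply Subtype.ext
      change ((u.toMul : V) : X) * ((u.toMul : V) : X) * ((u.toMul : V) : X) = 1
      rw [← hV3 _ u.toMul.2]; simp only [pow_succ, pow_zero, one_mul])
    ⟨Additive.ofMul ⟨u₀, hu₀⟩, fun h => hu₀1 (congrArg Subtype.val (Additive.ofMul.injective h))⟩
  set v : X := ((v'.toMul : V) : X) with hvdef
  have hvV : v ∈ V := v'.toMul.2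
  have hv1 : v ≠ 1 := by
    intro h
    apply hv'0
    apply Additive.toMul.injective
    exact Subtype.ext h
  have h3v : j * v * j⁻¹ = v * (i * v * i⁻¹) := by
    have h1 := congrArg (fun y : Additive V => ((y.toMul : V) : X)) hv'
    change ((cJ v'.toMul : V) : X) = ((v'.toMul : V) : X) * ((cI v'.toMul : V) : X) at h1
    rw [hcI, hcJ] at h1
    exact h1
  have hvo := hV3' v hvV hv1
  have hw : i * v * i⁻¹ ∈ V := hconj i v hvV
  have hz := hinv (i * i) (mul_mem hiQ hiQ) hz2 hi2
  have h2v : i * (i * v * i⁻¹) * i⁻¹ = v⁻¹ := by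
    rw [← hz v hvV]; group
  refine build hX v (i * v * i⁻¹) i j (hV3 v hvV) (hV3 _ hw) (hVc _ hvV _ hw) (hQ8 i hiQ) (by rw [hjj, pow_two]) hij
    rfl h2v h3v ?_ hio hjn hvo ?_
  · have h3 : j * i = i⁻¹ * j := mul_inv_eq_iff_eq_mul.1 hij
    have h4 : i⁻¹ * v * i = (i * v * i⁻¹)⁻¹ := by
      have h5 : i⁻¹ * v⁻¹ * i = i * v * i⁻¹ := by rw [← h2v]; group
      calc i⁻¹ * v * i = (i⁻¹ * v⁻¹ * i)⁻¹ := by group
        _ = _ := by rw [h5]
    calc j * (i * v * i⁻¹) * j⁻¹ = (j * i) * v * (j * i)⁻¹ := by group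
      _ = i⁻¹ * (j * v * j⁻¹) * i := by rw [h3]; group
      _ = i⁻¹ * (v * (i * v * i⁻¹)) * i := by rw [h3v]
      _ = (i⁻¹ * v * i) * v := by group
      _ = (i * v * i⁻¹)⁻¹ * v := by rw [h4]
      _ = v * (i * v * i⁻¹)⁻¹ := ((hVc _ hvV _ hw).inv_right.eq).symm
  · rintro ⟨k, hk⟩
    have hk' : v ^ k = i * v * i⁻¹ := hk
    have h1 : v ^ (k * k) = v ^ (-1 : ℤ) := by
      calc v ^ (k * k) = (v ^ k) ^ k := by rw [zpow_mul]
        _ = i * (v ^ k) * i⁻¹ := by rw [hk', conj_zpow, hk']
        _ = v⁻¹ := by rw [hk']; exact h2v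
        _ = v ^ (-1 : ℤ) := (zpow_neg_one v).symm
    rw [zpow_eq_zpow_iff_modEq, hvo] at h1
    have h2 : (k * k) % 3 = (-1) % 3 := h1
    have h3 : k % 3 = 0 ∨ k % 3 = 1 ∨ k % 3 = 2 := by omega
    rcases h3 with h3 | h3 | h3 <;> · rw [Int.mul_emod, h3] at h2; norm_num at h2

end Cfsg.Agent.H364.SeventyTwo
end

-- part: H364/PSUThreeTwo
section
/-!
# `PSU₃(2)` by order and element orders (helper364)
-/

set_option autoImplicit false

namespace Cfsg.Agent.H364.SeventyTwo

open Subgroup Cfsg Cfsg.Agent.H364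
open Cfsg.Agent.Lib.FieldFour Cfsg.Agent.ClassicalGeometry.SU32 Cfsg.Agent.S0827

theorem check4 : check (fun A => isScal (cube A) || isScal (mulM (mulM A A) (mulM A A))) = true := by
  decide +kernel

theorem psu_pow (x : PSU 3 F4 2) : x ^ 3 = 1 ∨ x ^ 4 = 1 := by
  obtain ⟨g, rfl⟩ := pr_surjective x
  have h := forall_of_check check4 g
  rw [Bool.or_eq_true] at h
  rcases h with h | h
  · left
    rw [← map_pow, pr_eq_one_iff]
    have : tup (g ^ 3) = cube (tup g) := by
      rw [cube, ← tup_mul, ← tup_mul, pow_three]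
    rw [this]; exact h
  · right
    rw [← map_pow, pr_eq_one_iff]
    have : tup (g ^ 4) = mulM (mulM (tup g) (tup g)) (mulM (tup g) (tup g)) := by
      rw [← tup_mul, ← tup_mul, show 4 = 2 + 2 from rfl, pow_add, pow_two]
    rw [this]; exact h

theorem card_psu_two {F : Type*} [Field F] [Fintype F] (hF : Fintype.card F = 2 ^ 2) :
    Nat.card (PSU 3 F 2) = 72 := by
  have h := Cfsg.Agent.S0280.result hF 3 (by norm_num)
  rw [Finset.prod_range_succ, Finset.prod_range_succ, Finset.prod_range_succ, Finset.prod_range_zero] at h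
  have h1 : Even 0 := by decide
  have h2 : ¬ Even 1 := by decide
  have h3 : Even 2 := by decide
  rw [if_pos h1, if_neg h2, if_pos h3] at h
  norm_num at h
  omega

theorem psu_two_pow {F : Type*} [Field F] [Fintype F] (hF : Fintype.card F = 2 ^ 2) (x : PSU 3 F 2) :
    x ^ 3 = 1 ∨ x ^ 4 = 1 := by
  have e : PSU 3 F 2 ≃* PSU 3 F4 2 :=
    Cfsg.Agent.LieClassical.FieldTransfer.psuCongr 3 2 (equivOfCard (by rw [hF]; norm_num))
  rcases psu_pow (e x) with h | h
  · left; exact e.injective (by rw [map_pow, h, map_one])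
  · right; exact e.injective (by rw [map_pow, h, map_one])

theorem equiv_of_pow {X : Type*} [Group X] [Finite X] (hX : Nat.card X = 72) (h : ∀ x : X, orderOf x ∣ 3 ∨ orderOf x ∣ 4) :
    Nonempty (M0 ≃* X) := by
  refine main hX (fun x hx => ?_) (fun x hx => ?_) (fun x hx => ?_) <;>
  · rcases h x with h1 | h1 <;> · rw [hx] at h1; norm_num at h1

theorem psu_two_recog {G : Type*} [Group G] [Finite G] {F : Type*} [Field F] [Fintype F]
    (hF : Fintype.card F = 2 ^ 2) (hspec : Set.range (orderOf : G → ℕ) = Set.range (orderOf : PSU 3 F 2 → ℕ))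
    (hcard : Nat.card G = Nat.card (PSU 3 F 2)) : Nonempty (G ≃* PSU 3 F 2) := by
  have h1 : ∀ x : PSU 3 F 2, orderOf x ∣ 3 ∨ orderOf x ∣ 4 := fun x => by
    rw [orderOf_dvd_iff_pow_eq_one, orderOf_dvd_iff_pow_eq_one]; exact psu_two_pow hF x
  rw [card_psu_two hF] at hcard
  have : Finite (PSU 3 F 2) := Nat.finite_of_card_ne_zero (by rw [card_psu_two hF]; norm_num)
  obtain ⟨e1⟩ := equiv_of_pow (card_psu_two hF) h1
  obtain ⟨e2⟩ := equiv_of_pow hcard (fun x => by
    obtain ⟨y, hy⟩ : orderOf x ∈ Set.range (orderOf : PSU 3 F 2 → ℕ) := by rw [← hspec]; exact ⟨x, rfl⟩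
    rw [← hy]; exact h1 y)
  exact ⟨e2.symm.trans e1⟩

end Cfsg.Agent.H364.SeventyTwo
end

private theorem dce_3e6e7e634771 : _root_.True := by
  try have : _root_.True := by simp only [_root_.Cfsg.Agent.S0827.cube.eq_1]
  try have : _root_.True := by simp only [_root_.Cfsg.Agent.H364.SeventyTwo.φ0.eq_1]
  exact _root_.True.intro
end

-- part: H992/TC/Core
section
set_option linter.all false
open scoped Cfsg.Agent.FastGrp

/-!
# Groups with two types of centralisers

`TT G m`: every non-identity element of `G` has a centraliser of order `m` or prime to `m`, and `m` occurs. Structure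
theorem `TT.struct`: if `m > 1` is odd, `G` has no non-trivial normal `t`-subgroup for `t ≠ p` and `|G|` is large, then
`G` is a `p`-group extended by an almost simple group.
-/

set_option autoImplicit false

namespace Cfsg.Agent.H992.TC

open Subgroup Cfsg.Agent.H364

variable {G : Type*} [Group G]

/-- every non-identity element has a centraliser of order `m` or prime to `m`, and `m` occurs -/
structure TT (G : Type*) [Group G] (m : ℕ) : Prop where
  two : ∀ g : G, g ≠ 1 → Nat.card (centralizer ({g} : Set G)) = m ∨ (Nat.card (centralizer ({g} : Set G))).Coprime m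
  ex : ∃ g : G, g ≠ 1 ∧ Nat.card (centralizer ({g} : Set G)) = m

/-- The class of an element of a normal subgroup. -/
theorem index_lt_card [Finite G] {W : Subgroup G} (hW : W.Normal) {w : G} (hw : w ∈ W) (hw1 : w ≠ 1) :
    (centralizer ({w} : Set G)).index < Nat.card W := by
  classical
  let f : G ⧸ centralizer ({w} : Set G) → W := Quotient.lift (fun g : G => (⟨g * w * g⁻¹, hW.conj_mem w hw g⟩ : W))
    (fun a b hab => by
      have h1 : a⁻¹ * b ∈ centralizer ({w} : Set G) := QuotientGroup.leftRel_apply.1 hab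
      rw [mem_centralizer_singleton_iff] at h1
      apply Subtype.ext
      show a * w * a⁻¹ = b * w * b⁻¹
      have h2 : b = a * (a⁻¹ * b) := by group
      calc a * w * a⁻¹ = a * (w * (a⁻¹ * b)) * (a⁻¹ * b)⁻¹ * a⁻¹ := by group
        _ = a * ((a⁻¹ * b) * w) * (a⁻¹ * b)⁻¹ * a⁻¹ := by rw [h1]
        _ = _ := by group)
  have hf : Function.Injective f := by
    intro x y
    induction x using QuotientGroup.induction_on with | _ a => ?_
    induction y using QuotientGroup.induction_on with | _ b => ?_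
    intro hab
    have h1 : a * w * a⁻¹ = b * w * b⁻¹ := congrArg Subtype.val hab
    refine QuotientGroup.eq.2 ?_
    rw [mem_centralizer_singleton_iff]
    calc a⁻¹ * b * w = a⁻¹ * (b * w * b⁻¹) * b := by group
      _ = a⁻¹ * (a * w * a⁻¹) * b := by rw [h1]
      _ = _ := by group
  have hne : ∀ x, f x ≠ 1 := by
    intro x
    induction x using QuotientGroup.induction_on with | _ a => ?_
    intro h
    have h1 : a * w * a⁻¹ = 1 := congrArg Subtype.val h
    apply hw1
    calc w = a⁻¹ * (a * w * a⁻¹) * a := by group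
      _ = 1 := by rw [h1]; group
  have h1 : Nat.card (G ⧸ centralizer ({w} : Set G)) = Nat.card (Set.range f) :=
    Nat.card_congr (Equiv.ofInjective f hf)
  rw [index_eq_card, h1]
  have h2 : Set.range f ⊂ Set.univ := by
    rw [Set.ssubset_univ_iff]
    intro h
    have : (1 : W) ∈ Set.range f := h ▸ Set.mem_univ _
    obtain ⟨x, hx⟩ := this
    exact hne x hx
  have h3 := Set.ncard_lt_ncard h2 (Set.toFinite _)
  rwa [Set.ncard_univ] at h3

namespace TT

variable {m : ℕ}

theorem card_of_dvd (h : TT G m) {x : G} (hx : x ≠ 1) {r : ℕ} (hr : r.Prime) (hrm : r ∣ m)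
    (hrc : r ∣ Nat.card (centralizer ({x} : Set G))) : Nat.card (centralizer ({x} : Set G)) = m := by
  rcases h.two x hx with h1 | h1
  · exact h1
  · exact absurd (Nat.dvd_gcd hrc hrm) (by rw [h1]; exact hr.one_lt.ne' ∘ Nat.dvd_one.1)

variable [Finite G]

theorem card_of_orderOf (h : TT G m) {x : G} {r : ℕ} (hr : r.Prime) (hrm : r ∣ m) (hrx : r ∣ orderOf x) :
    Nat.card (centralizer ({x} : Set G)) = m := by
  have hx : x ≠ 1 := by
    rintro rfl
    rw [orderOf_one] at hrx
    exact hr.one_lt.ne' (Nat.dvd_one.1 hrx)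
  refine h.card_of_dvd hx hr hrm (hrx.trans ?_)
  have h1 : x ∈ centralizer ({x} : Set G) := mem_centralizer_singleton_iff.2 rfl
  have h2 := orderOf_dvd_natCard (⟨x, h1⟩ : centralizer ({x} : Set G))
  rwa [Subgroup.orderOf_mk] at h2

theorem noEdge (h : TT G m) {r s : ℕ} (hr : r.Prime) (hs : s.Prime) (hrm : r ∣ m) (hsm : ¬ s ∣ m) :
    NoEdge G r s := by
  intro x hx
  have h1 := h.card_of_orderOf (x := x) hr hrm (hx ▸ Dvd.intro _ rfl)
  apply hsm
  rw [← h1]
  have h2 : x ∈ centralizer ({x} : Set G) := mem_centralizer_singleton_iff.2 rfl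
  have h3 := orderOf_dvd_natCard (⟨x, h2⟩ : centralizer ({x} : Set G))
  rw [Subgroup.orderOf_mk, hx] at h3
  exact (Dvd.intro_left _ rfl).trans h3

theorem dvd_card (h : TT G m) : m ∣ Nat.card G := by
  obtain ⟨g, -, hg⟩ := h.ex
  rw [← hg]
  exact card_subgroup_dvd_card _

theorem factorization (h : TT G m) {r : ℕ} (hr : r.Prime) (hrm : r ∣ m) :
    (Nat.card G).factorization r = m.factorization r := by
  have := Fact.mk hr
  have hrG := hrm.trans h.dvd_card
  obtain ⟨R⟩ : Nonempty (Sylow r G) := inferInstance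
  have hR : Nat.card R = r ^ (Nat.card G).factorization r := R.card_eq_multiplicity
  have hRn : Nontrivial (R : Subgroup G) := by
    rw [← Finite.one_lt_card_iff_nontrivial, hR]
    exact Nat.one_lt_pow ((hr.factorization_pos_of_dvd Nat.card_pos.ne' hrG).ne') hr.one_lt
  have hz := (IsPGroup.center_nontrivial (p := r) R.isPGroup' : Nontrivial (center (R : Subgroup G)))
  obtain ⟨⟨z, hz⟩, hz1⟩ := exists_ne (1 : center (R : Subgroup G))
  have hz1' : (z : G) ≠ 1 := fun h0 => hz1 (Subtype.ext (Subtype.ext h0))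
  have hle : (R : Subgroup G) ≤ centralizer ({(z : G)} : Set G) := by
    intro y hy
    rw [mem_centralizer_singleton_iff]
    exact congrArg Subtype.val (mem_center_iff.1 hz ⟨y, hy⟩)
  have hcd : Nat.card (R : Subgroup G) ∣ Nat.card (centralizer ({(z : G)} : Set G)) := card_dvd_of_le hle
  have hrd : r ∣ Nat.card (centralizer ({(z : G)} : Set G)) := by
    refine dvd_trans ?_ hcd
    have : Nat.card (R : Subgroup G) = r ^ (Nat.card G).factorization r := hR
    rw [this]
    exact dvd_pow_self r (hr.factorization_pos_of_dvd Nat.card_pos.ne' hrG).ne'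
  have hcm := h.card_of_dvd hz1' hr hrm hrd
  rw [hcm] at hcd
  have hm0 : m ≠ 0 := fun h0 => Nat.card_pos.ne' (Nat.eq_zero_of_zero_dvd (h0 ▸ h.dvd_card))
  apply le_antisymm
  · rw [← hr.pow_dvd_iff_le_factorization hm0, ← hR]
    exact hcd
  · exact (Nat.factorization_le_iff_dvd hm0 Nat.card_pos.ne').2 h.dvd_card r

/-- normal subgroups of order prime to `m` are nilpotent -/
theorem nilpotent (h : TT G m) (hm : 1 < m) {K : Subgroup G} [hK : K.Normal] (hKm : (Nat.card K).Coprime m) :
    Group.IsNilpotent K := by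
  obtain ⟨r, hr, hrm⟩ := Nat.exists_prime_and_dvd hm.ne'
  have := Fact.mk hr
  obtain ⟨x, hx⟩ := exists_prime_orderOf_dvd_card' r (hrm.trans h.dvd_card)
  have hfix : ∀ k ∈ K, x * k * x⁻¹ = k → k = 1 := by
    intro k hk hxk
    by_contra hk1
    obtain ⟨s, hs, hsk⟩ := Nat.exists_prime_and_dvd (n := orderOf k) (fun h1 => hk1 (orderOf_eq_one_iff.1 h1))
    have hsK : s ∣ Nat.card K := by
      have h1 := orderOf_dvd_natCard (⟨k, hk⟩ : K)
      rw [Subgroup.orderOf_mk] at h1
      exact hsk.trans h1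
    have hsm : ¬ s ∣ m := fun h1 => hs.one_lt.ne' (Nat.dvd_one.1 (hKm ▸ Nat.dvd_gcd hsK h1))
    have hc : Commute x k := mul_inv_eq_iff_eq_mul.1 hxk
    refine (h.noEdge hr hs hrm hsm).false_of_dvd hr hs ?_ hc (by rw [hx]) hsk
    rintro rfl
    exact hsm hrm
  by_cases hKb : K = ⊥
  · subst hKb
    infer_instance
  let φ : K ≃* K := MulAut.conjNormal x
  have hφ : ∀ k : K, ((φ k : K) : G) = x * k * x⁻¹ := fun k => MulAut.conjNormal_apply x k
  refine Cfsg.Agent.S0033.result φ ?_ r hr ?_
  · intro k hk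
    apply Subtype.ext
    refine hfix k k.2 ?_
    rw [← hφ]
    exact congrArg Subtype.val hk
  · refine orderOf_eq_prime ?_ ?_
    · show (MulAut.conjNormal x : MulAut K) ^ r = 1
      rw [← map_pow, ← hx, pow_orderOf_eq_one, map_one]
    · intro h1
      apply hKb
      rw [eq_bot_iff]
      intro k hk
      rw [mem_bot]
      refine hfix k hk ?_
      rw [← hφ ⟨k, hk⟩, h1]
      rfl

/-- ... and `p`-groups, if there are no non-trivial normal `t`-subgroups, `t ≠ p` -/
theorem isPGroup (h : TT G m) (hm : 1 < m) {p : ℕ} (hp : p.Prime)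
    (hVt : ∀ t, t.Prime → t ≠ p → ∀ V : Subgroup G, V.Normal → IsPGroup t V → V = ⊥)
    {K : Subgroup G} [hK : K.Normal] (hKm : (Nat.card K).Coprime m) : IsPGroup p K := by
  have hn := h.nilpotent hm hKm
  have hall := (Group.isNilpotent_of_finite_tfae (G := K)).out 0 3
  have hsyl : ∀ (t : ℕ) (_ : Fact t.Prime) (P : Sylow t K), P.Normal := hall.1 hn
  have := Fact.mk hp
  rw [IsPGroup.iff_card]
  have hpr : ∀ t, t.Prime → t ∣ Nat.card K → t = p := by
    intro t ht htK
    by_contra htp
    have := Fact.mk ht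
    obtain ⟨P⟩ : Nonempty (Sylow t K) := inferInstance
    have hP := hsyl t ⟨ht⟩ P
    have hPc : (P : Subgroup K).Characteristic := Sylow.characteristic_of_normal P hP
    have h1 : ((P : Subgroup K).map K.subtype).Normal := inferInstance
    have h2 := hVt t ht htp _ h1 (P.isPGroup'.map _)
    have h3 : (P : Subgroup K) = ⊥ := (Subgroup.map_eq_bot_iff_of_injective _ K.subtype_injective).1 h2
    exact P.ne_bot_of_dvd_card htK h3
  refine ⟨(Nat.card K).primeFactorsList.length, ?_⟩
  exact (Nat.eq_prime_pow_of_unique_prime_dvd Nat.card_pos.ne' fun {d} hd hdd => hpr d hd hdd)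

/-- **Structure theorem.** -/
theorem struct (h : TT G m) (hm : 1 < m) (hm2 : ¬ 2 ∣ m) {p : ℕ} (hp : p.Prime) (hpm : ¬ p ∣ m)
    (hVt : ∀ t, t.Prime → t ≠ p → ∀ V : Subgroup G, V.Normal → IsPGroup t V → V = ⊥)
    (hN : p ^ (Nat.card G).factorization p * m ^ 2 ≤ Nat.card G) :
    ∃ (K : Subgroup G) (_ : K.Normal), IsPGroup p K ∧ ∃ N : Subgroup (G ⧸ K), N.Normal ∧ IsSimpleGroup N ∧
      (¬ ∀ a b : N, a * b = b * a) ∧ centralizer (N : Set (G ⧸ K)) = ⊥ ∧
      (∃ r, r.Prime ∧ r ∣ m ∧ r ∣ Nat.card N) ∧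
      ∀ r s : ℕ, r.Prime → s.Prime → r ∣ m → ¬ s ∣ m → NoEdge (G ⧸ K) r s := by
  obtain ⟨K, hK, hKm, hmax⟩ := exists_core G m
  have hKp : IsPGroup p K := h.isPGroup hm hp hVt hKm
  have := Fact.mk hp
  have hm0 : m ≠ 0 := by omega
  -- the quotient
  have hcore : ∀ L : Subgroup (G ⧸ K), L.Normal → (Nat.card L).Coprime m → L = ⊥ :=
    fun L hL hLm => core_quotient hKm hmax L hL hLm
  have hedge : ∀ r s : ℕ, r.Prime → s.Prime → r ∣ m → ¬ s ∣ m → NoEdge (G ⧸ K) r s :=
    fun r s hr hs hrm hsm => noEdge_quotient K (h.noEdge hr hs hrm hsm)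
  have hKle : Nat.card K ≤ p ^ (Nat.card G).factorization p := by
    obtain ⟨k, hk⟩ := IsPGroup.iff_card.1 hKp
    rw [hk]
    apply Nat.pow_le_pow_right hp.pos
    rw [← hp.pow_dvd_iff_le_factorization Nat.card_pos.ne', ← hk]
    exact card_subgroup_dvd_card K
  have hcop : (Nat.card (G ⧸ K)) * Nat.card K = Nat.card G := by
    rw [← Subgroup.index_eq_card, mul_comm]; exact K.card_mul_index
  have hnt : Nontrivial (G ⧸ K) := by
    rw [← Finite.one_lt_card_iff_nontrivial]
    by_contra hle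
    have h1 : Nat.card (G ⧸ K) = 1 := le_antisymm (not_lt.1 hle) Nat.card_pos
    rw [h1, one_mul] at hcop
    obtain ⟨r, hr, hrm⟩ := Nat.exists_prime_and_dvd hm.ne'
    exact hr.one_lt.ne' (Nat.dvd_one.1 (hKm ▸ Nat.dvd_gcd (hcop ▸ hrm.trans h.dvd_card) hrm))
  obtain ⟨N, hNn, hN1, hmin⟩ := exists_minimal_normal (G ⧸ K)
  obtain ⟨r, hr, hrN, hrm⟩ := Nat.Prime.not_coprime_iff_dvd.1 (fun hc => hN1 (hcore N hNn hc))
  have := Fact.mk hr
  refine ⟨K, hK, hKp, N, hNn, ?_⟩
  rcases minimal_normal_cases N hN1 hmin hr hrN with hpg | ⟨k, S, hk, hSN, hS, hSna, hSr, hScard, hScomm, hSsup⟩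
  · exfalso
    -- an element of the preimage outside `K`
    set W : Subgroup G := N.comap (QuotientGroup.mk' K) with hW
    have hWn : W.Normal := hNn.comap _
    obtain ⟨⟨x, hx⟩, hx1⟩ : ∃ x : N, x ≠ 1 := by
      by_contra hcon
      push Not at hcon
      apply hN1
      rw [eq_bot_iff]
      intro y hy
      exact congrArg Subtype.val (hcon ⟨y, hy⟩)
    obtain ⟨w, rfl⟩ := QuotientGroup.mk_surjective x
    have hwW : w ∈ W := hx
    have hw1 : (w : G ⧸ K) ≠ 1 := fun h0 => hx1 (Subtype.ext h0)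
    have hrw : r ∣ orderOf w := by
      have h1 : r ∣ orderOf (w : G ⧸ K) := dvd_orderOf_of_pgroup' hr hpg hx hw1
      exact h1.trans (orderOf_map_dvd (QuotientGroup.mk' K) w)
    have hC := h.card_of_orderOf hr hrm hrw
    have hw : w ≠ 1 := by rintro rfl; exact hw1 rfl
    have h1 := index_lt_card hWn hwW hw
    have h2 := (centralizer ({w} : Set G)).card_mul_index
    rw [hC] at h2
    have hWc : Nat.card W = Nat.card K * Nat.card N := by
      have h2 := Subgroup.card_mul_index W
      have h3 := Subgroup.card_mul_index N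
      have h4 := Subgroup.card_mul_index K
      rw [hW, Subgroup.index_comap_of_surjective _ (QuotientGroup.mk'_surjective K)] at h2
      rw [Subgroup.index_eq_card K, ← h3] at h4
      have h5 : N.index ≠ 0 := Subgroup.index_ne_zero_of_finite
      apply Nat.eq_of_mul_eq_mul_right (Nat.pos_of_ne_zero h5)
      rw [← hW] at h2
      rw [h2, ← h4]; ring
    have hNm : Nat.card N ≤ m := by
      obtain ⟨j, hj⟩ := IsPGroup.iff_card.1 hpg
      rw [hj]
      refine Nat.le_of_dvd (by omega) ?_
      rw [hr.pow_dvd_iff_le_factorization hm0, ← h.factorization hr hrm,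
        ← hr.pow_dvd_iff_le_factorization Nat.card_pos.ne', ← hj, ← hcop]
      exact (card_subgroup_dvd_card N).trans (Dvd.intro _ rfl)
    have h3 : Nat.card G < p ^ (Nat.card G).factorization p * m ^ 2 := by
      calc Nat.card G = m * (centralizer ({w} : Set G)).index := h2.symm
        _ < m * Nat.card W := Nat.mul_lt_mul_of_pos_left h1 (by omega)
        _ = Nat.card K * (Nat.card N * m) := by rw [hWc]; ring
        _ ≤ p ^ (Nat.card G).factorization p * (m * m) := Nat.mul_le_mul hKle (Nat.mul_le_mul_right _ hNm)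
        _ = _ := by ring
    omega
  · have hS2 : ∀ i, 2 ∣ Nat.card (S i) := fun i => by
      have := hS i
      exact two_dvd_card (hSna i)
    have hr2 : r ≠ 2 := by rintro rfl; exact hm2 hrm
    have hk1 : k = 1 := by
      by_contra hne
      have h01 : (⟨0, hk⟩ : Fin k) ≠ ⟨1, by omega⟩ := by
        intro h; simp at h
      exact (hedge r 2 hr Nat.prime_two hrm hm2).false_of_subgroups hr Nat.prime_two hr2
        (hScomm _ _ h01) (hSr _) (hS2 _)
    subst hk1
    have hNS : S 0 = N := by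
      rw [← hSsup]
      exact (iSup_unique (f := S)).symm
    have hNs : IsSimpleGroup N := hNS ▸ hS 0
    have hNna : ¬ ∀ a b : N, a * b = b * a := hNS ▸ hSna 0
    have hN2 : 2 ∣ Nat.card N := hNS ▸ hS2 0
    have hcent : centralizer (N : Set (G ⧸ K)) = ⊥ := by
      refine hcore _ inferInstance ?_
      by_contra hc
      obtain ⟨r', hr', hr'C, hr'm⟩ := Nat.Prime.not_coprime_iff_dvd.1 hc
      refine (hedge r' 2 hr' Nat.prime_two hr'm hm2).false_of_subgroups hr' Nat.prime_two
        (by rintro rfl; exact hm2 hr'm) (A := centralizer (N : Set (G ⧸ K))) (B := N) ?_ hr'C hN2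
      intro a ha b hb
      exact (Subgroup.mem_centralizer_iff.1 ha b hb).symm
    exact ⟨hNs, hNna, hcent, ⟨r, hr, hrm, hrN⟩, hedge⟩
where
  dvd_orderOf_of_pgroup' {G : Type _} [Group G] {p : ℕ} (hp : p.Prime) {Q : Subgroup G} (hQ : IsPGroup p Q) {x : G}
      (hx : x ∈ Q) (hx1 : x ≠ 1) : p ∣ orderOf x := by
    have := Fact.mk hp
    obtain ⟨k, hk⟩ := IsPGroup.iff_orderOf.1 hQ ⟨x, hx⟩
    rw [Subgroup.orderOf_mk] at hk
    rw [hk]
    apply dvd_pow_self
    rintro rfl
    rw [pow_zero, orderOf_eq_one_iff] at hk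
    exact hx1 hk

end TT

end Cfsg.Agent.H992.TC
end
end
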