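import Mathlib
import Cfsg.Agent.H365.Zsig
import Cfsg.Agent.H902.Zs_m3
import Cfsg.Agent.H902.Enum
import Cfsg.Agent.H902.EntsFast
import Cfsg.Agent.Lib.RingK
import Cfsg.Agent.H431.CS.Defs
import Cfsg.Agent.H72.Task106
import Cfsg.Agent.H365.Near
import Cfsg.Agent.H364.OutLie
import Cfsg.Agent.H365.SpFourA
import Cfsg.Agent.H902.AltLie
import Cfsg.Agent.Prune
set_option linter.all false

section
prune_inst 0x7ffffffcbfbb67ffffff7e7ffff9dffc3b97dfffefdffb4bffed6bff9fdfa37b19e5fb8d1de478fe8e16c4b618b97853fb7eceffee6bdc7ffffd5ff45ffbee5ff7ffbd0911d78934cf7c6ffffbf07f8e7f3fffffffffffffffffffffffffffffffffffffffff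

-- part: H364/SpSmall
section
prune_inst 0x1400490000000000000042000004000001000000000029000602010842208042200008001406020012000800000002100000400000000a003000000200000028020001640200280000001006000000000000000000000000000000000000000000000
set_option linter.all false
open scoped Cfsg.Agent.FastGrp

-- part: H364/SpTot
section
/-!
# Sums of values of Euler's function over `(n/2, n]` (helper364)
-/

set_option autoImplicit false

namespace Cfsg.Agent.H364.SpTot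

open Finset

theorem two_mul_sum (n : ℕ) : 2 * ∑ d ∈ Icc 1 n, d.totient * (n / d) = n * (n + 1) := by
  induction n with
  | zero => simp
  | succ n ih =>
    have h1 : ∑ d ∈ Icc 1 (n + 1), d.totient * ((n + 1) / d) =
        ∑ d ∈ Icc 1 (n + 1), d.totient * (n / d) + ∑ d ∈ Icc 1 (n + 1), (if d ∣ n + 1 then d.totient else 0) := by
      rw [← Finset.sum_add_distrib]
      apply Finset.sum_congr rfl
      intro d _
      rw [Nat.succ_div]
      split_ifs <;> ring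
    have h2 : ∑ d ∈ Icc 1 (n + 1), d.totient * (n / d) = ∑ d ∈ Icc 1 n, d.totient * (n / d) := by
      rw [Finset.sum_Icc_succ_top (by omega), Nat.div_eq_of_lt (Nat.lt_succ_self n), mul_zero, add_zero]
    have h3 : ∑ d ∈ Icc 1 (n + 1), (if d ∣ n + 1 then d.totient else 0) = n + 1 := by
      rw [← Finset.sum_filter]
      have h4 : (Icc 1 (n + 1)).filter (fun d => d ∣ n + 1) = (n + 1).divisors := by
        ext d
        simp only [Finset.mem_filter, Finset.mem_Icc, Nat.mem_divisors]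
        constructor
        · rintro ⟨-, h⟩
          exact ⟨h, by omega⟩
        · rintro ⟨h, -⟩
          exact ⟨⟨Nat.pos_of_dvd_of_pos h (by omega), Nat.le_of_dvd (by omega) h⟩, h⟩
      rw [h4]
      exact Nat.sum_totient (n + 1)
    rw [h1, h2, h3]
    have : 2 * (∑ d ∈ Icc 1 n, d.totient * (n / d) + (n + 1)) = 2 * ∑ d ∈ Icc 1 n, d.totient * (n / d) + 2 * (n + 1) := by
      ring
    rw [this, ih]
    ring

/-- the sum of the values of Euler's function over `(n/2, n]` -/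
def ss (n : ℕ) : ℕ := ∑ d ∈ Ioc (n / 2) n, d.totient

theorem div_le (n d : ℕ) (hd : 1 ≤ d) :
    n / d ≤ 2 * (n / 2 / d) + (if n / 2 < d then 1 else 0) + (if d ≤ n / 3 then 1 else 0) := by
  rcases Nat.lt_or_ge (n / 2) d with h | h
  · rw [if_pos h]
    have h1 : n / d < 2 := by
      rw [Nat.div_lt_iff_lt_mul (by omega)]
      omega
    omega
  · rw [if_neg (by omega)]
    -- `n = d k + b`
    set a := n / 2 / d with ha
    have h1 : d * a ≤ n / 2 := Nat.mul_div_le _ _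
    have h2 : n / 2 < d * (a + 1) := by
      have := Nat.lt_mul_div_succ (n / 2) (show 0 < d by omega)
      exact this
    have h3 : n < d * (2 * a + 2) := by
      have e : d * (2 * a + 2) = 2 * (d * (a + 1)) := by ring
      omega
    have h4 : n / d < 2 * a + 2 := by
      rw [Nat.div_lt_iff_lt_mul (by omega), mul_comm]
      exact h3
    have h5 : 1 ≤ a := by
      rw [ha, Nat.le_div_iff_mul_le (by omega)]
      omega
    by_cases h6 : n / d = 2 * a + 1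
    · have h7 : d ≤ n / 3 := by
        rw [Nat.le_div_iff_mul_le (by norm_num)]
        have h8 : 3 ≤ n / d := by omega
        rw [Nat.le_div_iff_mul_le (by omega)] at h8
        omega
      rw [if_pos h7]
      omega
    · omega

theorem sum_totient_le (t : ℕ) : 2 * ∑ d ∈ Icc 1 t, d.totient ≤ t * (t + 1) := by
  rw [← two_mul_sum t]
  apply Nat.mul_le_mul_left
  apply Finset.sum_le_sum
  intro d hd
  rw [Finset.mem_Icc] at hd
  apply Nat.le_mul_of_pos_right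
  exact Nat.div_pos hd.2 (by omega)

theorem ss_ge (n : ℕ) :
    n * (n + 1) ≤ 2 * (n / 2 * (n / 2 + 1)) + 2 * ss n + n / 3 * (n / 3 + 1) := by
  rw [← two_mul_sum n, ← two_mul_sum (n / 2)]
  have h1 : ∑ d ∈ Icc 1 n, d.totient * (n / d) ≤ ∑ d ∈ Icc 1 n, (2 * (d.totient * (n / 2 / d)) +
      (if n / 2 < d then d.totient else 0) + (if d ≤ n / 3 then d.totient else 0)) := by
    apply Finset.sum_le_sum
    intro d hd
    rw [Finset.mem_Icc] at hd
    calc d.totient * (n / d) ≤ d.totient * (2 * (n / 2 / d) + (if n / 2 < d then 1 else 0) +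
          (if d ≤ n / 3 then 1 else 0)) := Nat.mul_le_mul_left _ (div_le n d hd.1)
      _ = _ := by
        rw [mul_add, mul_add]
        congr 1
        · congr 1
          · ring
          · split_ifs <;> simp
        · split_ifs <;> simp
  rw [Finset.sum_add_distrib, Finset.sum_add_distrib, ← Finset.mul_sum] at h1
  have h2 : ∑ d ∈ Icc 1 n, d.totient * (n / 2 / d) = ∑ d ∈ Icc 1 (n / 2), d.totient * (n / 2 / d) := by
    symm
    apply Finset.sum_subset
    · intro d hd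
      rw [Finset.mem_Icc] at hd ⊢
      exact ⟨hd.1, hd.2.trans (Nat.div_le_self n 2)⟩
    · intro d hd hd2
      rw [Finset.mem_Icc] at hd hd2
      rw [Nat.div_eq_of_lt (by omega), mul_zero]
  have h3 : ∑ d ∈ Icc 1 n, (if n / 2 < d then d.totient else 0) = ss n := by
    rw [← Finset.sum_filter, ss]
    apply Finset.sum_congr _ (fun _ _ => rfl)
    ext d
    simp only [Finset.mem_filter, Finset.mem_Icc, Finset.mem_Ioc]
    omega
  have h4 : ∑ d ∈ Icc 1 n, (if d ≤ n / 3 then d.totient else 0) = ∑ d ∈ Icc 1 (n / 3), d.totient := by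
    rw [← Finset.sum_filter]
    apply Finset.sum_congr _ (fun _ _ => rfl)
    ext d
    simp only [Finset.mem_filter, Finset.mem_Icc]
    omega
  rw [h2, h3, h4] at h1
  have h5 := sum_totient_le (n / 3)
  omega

theorem ss_bound (n : ℕ) : 7 * n ^ 2 ≤ 36 * ss n + 6 * n := by
  have h := ss_ge n
  have h1 : 3 * (n / 3) ≤ n := Nat.mul_div_le n 3
  have h2 : n = 2 * (n / 2) ∨ n = 2 * (n / 2) + 1 := by omega
  generalize n / 3 = t at *
  generalize n / 2 = m at *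
  generalize ss n = s at *
  have h3 : 9 * (t * (t + 1)) ≤ n ^ 2 + 3 * n := by nlinarith only [h1]
  rcases h2 with h2 | h2
  · subst h2
    linarith only [h, h3]
  · subst h2
    linarith only [h, h3]

end Cfsg.Agent.H364.SpTot
end

-- part: H364/SpPrim
section
/-!
# Primitive parts of `∏ (Q ^ j - 1)` (helper364)
-/

set_option autoImplicit false

namespace Cfsg.Agent.H364.SpPrim

open Finset Cfsg.Agent.H365.Zsig Cfsg.Agent.H364.SpTot

/-- the primitive part of `Φ_j(Q)` -/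
noncomputable def pk (j Q : ℕ) : ℕ := Ph j Q / Nat.gcd (Ph j Q) j

theorem pk_mul (j Q : ℕ) : pk j Q * Nat.gcd (Ph j Q) j = Ph j Q := Nat.div_mul_cancel (Nat.gcd_dvd_left _ _)

theorem Ph_le {j Q : ℕ} (hj : 0 < j) : Ph j Q ≤ pk j Q * j := by
  conv_lhs => rw [← pk_mul j Q]
  exact Nat.mul_le_mul_left _ (Nat.gcd_le_right _ hj)

theorem order_of_dvd_pk {j Q r : ℕ} (hj : 3 ≤ j) (hQ : 2 ≤ Q) (hr : r.Prime) (h : r ∣ pk j Q) :
    orderOf (Q : ZMod r) = j := by
  have h1 : r ∣ Ph j Q := h.trans (Dvd.intro _ (pk_mul j Q))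
  rcases prime_dvd_Ph (by omega) hQ hr h1 with h2 | ⟨k, m, h2, h3, h4, h5, h6⟩
  · exact h2
  · exfalso
    apply sq_not_dvd hj hQ hr h2 h3 h4 h5 h6
    have h7 : r ∣ Nat.gcd (Ph j Q) j := Nat.dvd_gcd h1 (by rw [h2, pow_succ]; exact ⟨r ^ k * m, by ring⟩)
    rw [← pk_mul j Q, sq]
    exact Nat.mul_dvd_mul h h7

theorem pow_totient_le {j Q : ℕ} (hQ : 2 ≤ Q) : (Q - 1) ^ j.totient ≤ Ph j Q := by
  have h1 : (1 : ℝ) < (Q : ℝ) := by exact_mod_cast (show 1 < Q by omega)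
  have h2 := Polynomial.sub_one_pow_totient_le_cyclotomic_eval h1 j
  rw [Ph_real (by omega)] at h2
  have h3 : ((((Q - 1) ^ j.totient : ℕ)) : ℝ) ≤ ((Ph j Q : ℕ) : ℝ) := by
    push_cast [Nat.cast_sub (show 1 ≤ Q by omega)]
    exact h2
  exact_mod_cast h3

/-- the product of the primitive parts -/
noncomputable def tt (n Q : ℕ) : ℕ := ∏ j ∈ Ioc (n / 2) n, pk j Q

/-- the loss -/
def lam (n : ℕ) : ℕ := ∏ j ∈ Ioc (n / 2) n, j

theorem tt_dvd {n Q : ℕ} (hQ : 1 ≤ Q) : tt n Q ∣ ∏ i ∈ range n, (Q ^ (i + 1) - 1) := by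
  have h1 : ∏ i ∈ range n, (Q ^ (i + 1) - 1) = ∏ j ∈ Ioc 0 n, (Q ^ j - 1) := by
    rw [Finset.range_eq_Ico, Finset.prod_Ico_add' (fun j => Q ^ j - 1) 0 n 1]
    apply Finset.prod_congr _ (fun _ _ => rfl)
    ext x
    simp only [Finset.mem_Ico, Finset.mem_Ioc]
    omega
  rw [h1]
  refine (Finset.prod_dvd_prod_of_dvd _ (fun j => Q ^ j - 1) ?_).trans (Finset.prod_dvd_prod_of_subset _ _ _ ?_)
  · intro j hj
    rw [Finset.mem_Ioc] at hj
    exact (Dvd.intro _ (pk_mul j Q)).trans (Ph_dvd (by omega) hQ)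
  · intro j hj
    rw [Finset.mem_Ioc] at hj ⊢
    omega

theorem order_of_dvd_tt {n Q r : ℕ} (hn : 4 ≤ n) (hQ : 2 ≤ Q) (hr : r.Prime) (h : r ∣ tt n Q) :
    n / 2 < orderOf (Q : ZMod r) ∧ orderOf (Q : ZMod r) ≤ n := by
  obtain ⟨j, hj, hd⟩ := (hr.prime.dvd_finsetProd_iff _).1 h
  rw [Finset.mem_Ioc] at hj
  rw [order_of_dvd_pk (by omega) hQ hr hd]
  exact hj

theorem tt_ge {n Q : ℕ} (hQ : 2 ≤ Q) : (Q - 1) ^ ss n ≤ tt n Q * lam n := by
  rw [ss, ← Finset.prod_pow_eq_pow_sum, tt, lam, ← Finset.prod_mul_distrib]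
  apply Finset.prod_le_prod'
  intro j hj
  rw [Finset.mem_Ioc] at hj
  exact (pow_totient_le hQ).trans (Ph_le (by omega))

theorem lam_le (n : ℕ) : lam n ≤ n ^ (n - n / 2) := by
  have h1 : lam n ≤ ∏ _j ∈ Ioc (n / 2) n, n := by
    apply Finset.prod_le_prod'
    intro j hj
    rw [Finset.mem_Ioc] at hj
    exact hj.2
  rw [Finset.prod_const, Nat.card_Ioc] at h1
  exact h1

theorem lam_pos (n : ℕ) : 0 < lam n := by
  apply Finset.prod_pos
  intro j hj
  rw [Finset.mem_Ioc] at hj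
  omega

end Cfsg.Agent.H364.SpPrim
end

-- part: H364/SpIneq
section
/-!
# The main numerical inequality, `n ≥ 5` (helper364)
-/

set_option autoImplicit false

namespace Cfsg.Agent.H364.SpIneq

open Finset Cfsg.Agent.H364.SpTot Cfsg.Agent.H364.SpPrim

theorem mono {s c C D q0 q : ℕ} (h0 : 2 ≤ q0) (hq : q0 ≤ q) (hE : D ≤ 6 * s + 3 * c)
    (h : C * (q0 + 1) ^ D < ((q0 ^ 2 - 1) ^ s) ^ 3 * (q0 ^ c) ^ 3) :
    C * (q + 1) ^ D < ((q ^ 2 - 1) ^ s) ^ 3 * (q ^ c) ^ 3 := by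
  have e : ∀ x : ℕ, 1 ≤ x → x ^ 2 - 1 = (x - 1) * (x + 1) := by
    intro x hx
    obtain ⟨y, rfl⟩ := Nat.exists_eq_add_of_le' hx
    rw [Nat.add_sub_cancel]
    have : (y + 1) ^ 2 = y * (y + 1 + 1) + 1 := by ring
    rw [this, Nat.add_sub_cancel]
  rw [e q (by omega)]
  rw [e q0 (by omega)] at h
  -- the ratio is increasing
  have h1 : (q0 - 1) * (q + 1) ≤ (q - 1) * (q0 + 1) := by
    obtain ⟨a, rfl⟩ := Nat.exists_eq_add_of_le' (show 1 ≤ q0 by omega)
    obtain ⟨b, rfl⟩ := Nat.exists_eq_add_of_le' (show 1 ≤ q by omega)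
    rw [Nat.add_sub_cancel, Nat.add_sub_cancel]
    linarith only [hq]
  have h2 : q0 * (q + 1) ≤ q * (q0 + 1) := by linarith only [hq]
  have h3 : (((q0 - 1) * (q0 + 1)) ^ s) ^ 3 * (q0 ^ c) ^ 3 * (q + 1) ^ (6 * s + 3 * c) ≤
      (((q - 1) * (q + 1)) ^ s) ^ 3 * (q ^ c) ^ 3 * (q0 + 1) ^ (6 * s + 3 * c) := by
    have e1 : (((q0 - 1) * (q0 + 1)) ^ s) ^ 3 * (q0 ^ c) ^ 3 * (q + 1) ^ (6 * s + 3 * c) =
        ((q0 - 1) * (q + 1)) ^ (3 * s) * ((q0 + 1) * (q + 1)) ^ (3 * s) * (q0 * (q + 1)) ^ (3 * c) := by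
      simp only [mul_pow, ← pow_mul]
      rw [show s * 3 = 3 * s by ring, show c * 3 = 3 * c by ring, show 6 * s + 3 * c = 3 * s + 3 * s + 3 * c by ring,
        pow_add, pow_add]
      ring
    have e2 : (((q - 1) * (q + 1)) ^ s) ^ 3 * (q ^ c) ^ 3 * (q0 + 1) ^ (6 * s + 3 * c) =
        ((q - 1) * (q0 + 1)) ^ (3 * s) * ((q0 + 1) * (q + 1)) ^ (3 * s) * (q * (q0 + 1)) ^ (3 * c) := by
      simp only [mul_pow, ← pow_mul]
      rw [show s * 3 = 3 * s by ring, show c * 3 = 3 * c by ring, show 6 * s + 3 * c = 3 * s + 3 * s + 3 * c by ring,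
        pow_add, pow_add]
      ring
    rw [e1, e2]
    exact Nat.mul_le_mul (Nat.mul_le_mul_right _ (Nat.pow_le_pow_left h1 _)) (Nat.pow_le_pow_left h2 _)
  have hpos : 0 < (q0 + 1) ^ (6 * s + 3 * c) := pow_pos (by omega) _
  refine lt_of_mul_lt_mul_right ?_ (Nat.zero_le ((q0 + 1) ^ (6 * s + 3 * c)))
  calc C * (q + 1) ^ D * (q0 + 1) ^ (6 * s + 3 * c)
      = C * (q0 + 1) ^ D * ((q + 1) ^ D * (q0 + 1) ^ (6 * s + 3 * c - D)) := by
        conv_lhs => rw [show 6 * s + 3 * c = D + (6 * s + 3 * c - D) by omega, pow_add]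
        ring
    _ ≤ C * (q0 + 1) ^ D * ((q + 1) ^ D * (q + 1) ^ (6 * s + 3 * c - D)) := by
        apply Nat.mul_le_mul_left
        apply Nat.mul_le_mul_left
        exact Nat.pow_le_pow_left (by omega) _
    _ = C * (q0 + 1) ^ D * (q + 1) ^ (6 * s + 3 * c) := by
        rw [← pow_add]
        congr 2
        omega
    _ < (((q0 - 1) * (q0 + 1)) ^ s) ^ 3 * (q0 ^ c) ^ 3 * (q + 1) ^ (6 * s + 3 * c) :=
        Nat.mul_lt_mul_of_pos_right h (pow_pos (by omega) _)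
    _ ≤ _ := h3

/-- the exponent of the `p`-part -/
def cn (n : ℕ) : ℕ := if n % 2 = 1 then n else 0

/-- the start of the range of `q` -/
def q0 (n : ℕ) : ℕ :=
  if n = 5 then 6 else if n = 7 ∨ n = 12 then 4 else if n = 10 then 5 else if n = 19 ∨ n = 21 ∨ 23 ≤ n then 2 else 3

/-- the check -/
def chk (n : ℕ) : Bool :=
  (lam n ^ 3 * 4 ^ (5 * n) * n ^ 3 * (q0 n + 1) ^ (5 * n + 3) < ((q0 n ^ 2 - 1) ^ ss n) ^ 3 * (q0 n ^ cn n) ^ 3) &&
  (lam n ^ 3 * n ^ 3 * (q0 n + 1) ^ (8 * n + 3) < ((q0 n ^ 2 - 1) ^ ss n) ^ 3 * (q0 n ^ cn n) ^ 3) &&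
  (8 * n + 3 ≤ 6 * ss n + 3 * cn n)

theorem chk_all : ∀ n ∈ List.range 48, n < 5 ∨ n = 6 ∨ n = 8 ∨ chk n = true := by
  decide +kernel

theorem pow8 {n : ℕ} (hn : 48 ≤ n) : n ^ 8 ≤ 3 ^ n := by
  induction n, hn using Nat.le_induction with
  | base => norm_num
  | succ n hn ih =>
    have h1 : (n + 1) ^ 8 * 48 ^ 8 ≤ 3 * n ^ 8 * 48 ^ 8 := by
      calc (n + 1) ^ 8 * 48 ^ 8 = ((n + 1) * 48) ^ 8 := by rw [mul_pow]
        _ ≤ (49 * n) ^ 8 := Nat.pow_le_pow_left (by omega) 8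
        _ = 49 ^ 8 * n ^ 8 := by rw [mul_pow]
        _ ≤ (3 * 48 ^ 8) * n ^ 8 := Nat.mul_le_mul_right _ (by norm_num)
        _ = _ := by ring
    have h2 : (n + 1) ^ 8 ≤ 3 * n ^ 8 := Nat.le_of_mul_le_mul_right h1 (by norm_num)
    calc (n + 1) ^ 8 ≤ 3 * n ^ 8 := h2
      _ ≤ 3 * 3 ^ n := Nat.mul_le_mul_left 3 ih
      _ = 3 ^ (n + 1) := by ring

theorem gen {n : ℕ} (hn : 48 ≤ n) :
    lam n ^ 3 * 4 ^ (5 * n) * n ^ 3 * (2 + 1) ^ (8 * n + 3) < ((2 ^ 2 - 1) ^ ss n) ^ 3 * (2 ^ 0) ^ 3 := by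
  have hl := lam_le n
  have hs := ss_bound n
  generalize lam n = L at *
  generalize ss n = s at *
  set K := 3 * (n - n / 2) + 3 with hK
  have hK2 : 2 * K ≤ 3 * n + 9 := by omega
  have h1 : L ^ 3 * n ^ 3 ≤ n ^ K := by
    calc L ^ 3 * n ^ 3 ≤ (n ^ (n - n / 2)) ^ 3 * n ^ 3 := Nat.mul_le_mul_right _ (Nat.pow_le_pow_left hl 3)
      _ = n ^ K := by rw [← pow_mul, ← pow_add, hK]; congr 1; ring
  have h2 : (L ^ 3 * n ^ 3) ^ 8 ≤ 3 ^ (n * K) := by
    calc (L ^ 3 * n ^ 3) ^ 8 ≤ (n ^ K) ^ 8 := Nat.pow_le_pow_left h1 8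
      _ = (n ^ 8) ^ K := by rw [← pow_mul, ← pow_mul, mul_comm]
      _ ≤ (3 ^ n) ^ K := Nat.pow_le_pow_left (pow8 hn) K
      _ = _ := by rw [← pow_mul]
  have h3 : 4 ^ (5 * n) ≤ 3 ^ (7 * n) := by
    rw [pow_mul, pow_mul]
    exact Nat.pow_le_pow_left (by norm_num) n
  have h4 : n * K + 120 * n + 24 < 24 * s := by
    have h5 : 2 * (n * K) ≤ n * (3 * n + 9) := by
      calc 2 * (n * K) = n * (2 * K) := by ring
        _ ≤ _ := Nat.mul_le_mul_left n hK2
    nlinarith only [hn, hs, h5]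
  have e : ((2 ^ 2 - 1) ^ s) ^ 3 * (2 ^ 0) ^ 3 = 3 ^ (3 * s) := by
    rw [pow_zero, one_pow, mul_one, ← pow_mul, mul_comm s 3, show (2 : ℕ) ^ 2 - 1 = 3 from rfl]
  rw [e]
  refine lt_of_pow_lt_pow_left₀ 8 (Nat.zero_le _) ?_
  calc (L ^ 3 * 4 ^ (5 * n) * n ^ 3 * (2 + 1) ^ (8 * n + 3)) ^ 8
      = (L ^ 3 * n ^ 3) ^ 8 * (4 ^ (5 * n)) ^ 8 * (3 ^ (8 * n + 3)) ^ 8 := by
        rw [show (2 + 1 : ℕ) = 3 from rfl]
        simp only [mul_pow]
        ring
    _ ≤ 3 ^ (n * K) * (3 ^ (7 * n)) ^ 8 * (3 ^ (8 * n + 3)) ^ 8 :=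
        Nat.mul_le_mul_right _ (Nat.mul_le_mul h2 (Nat.pow_le_pow_left h3 8))
    _ = 3 ^ (n * K + 120 * n + 24) := by
        rw [← pow_mul, ← pow_mul, ← pow_add, ← pow_add]
        congr 1
        ring
    _ < 3 ^ (24 * s) := Nat.pow_lt_pow_right (by norm_num) h4
    _ = (3 ^ (3 * s)) ^ 8 := by rw [← pow_mul]; congr 1; ring

/-- **The inequalities.** -/
theorem ineq {n q : ℕ} (hn : 5 ≤ n) (h6 : n ≠ 6) (h8 : n ≠ 8) (hq : q0 n ≤ q) :
    lam n ^ 3 * 4 ^ (5 * n) * n ^ 3 * (q + 1) ^ (5 * n + 3) < ((q ^ 2 - 1) ^ ss n) ^ 3 * (q ^ cn n) ^ 3 ∧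
    lam n ^ 3 * n ^ 3 * (q + 1) ^ (8 * n + 3) < ((q ^ 2 - 1) ^ ss n) ^ 3 * (q ^ cn n) ^ 3 := by
  have hq02 : 2 ≤ q0 n := by
    rw [q0]
    split_ifs <;> norm_num
  rcases Nat.lt_or_ge n 48 with h | h
  · rcases chk_all n (List.mem_range.2 h) with h1 | h1 | h1 | h1
    · omega
    · omega
    · omega
    · simp only [chk, Bool.and_eq_true, decide_eq_true_eq] at h1
      obtain ⟨⟨h2, h3⟩, h4⟩ := h1
      exact ⟨mono hq02 hq (by omega) h2, mono hq02 hq (by omega) h3⟩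
  · have hs := ss_bound n
    have hE : 8 * n + 3 ≤ 6 * ss n + 3 * 0 := by nlinarith only [h, hs]
    have h1 := mono (le_refl 2) (hq02.trans hq) hE (gen h)
    rw [pow_zero, one_pow, mul_one] at h1
    have h2 : 1 ≤ (q ^ cn n) ^ 3 := Nat.one_le_pow _ _ (pow_pos (by omega) _)
    have h3 : lam n ^ 3 * 4 ^ (5 * n) * n ^ 3 * (q + 1) ^ (8 * n + 3) < ((q ^ 2 - 1) ^ ss n) ^ 3 * (q ^ cn n) ^ 3 :=
      h1.trans_le (Nat.le_mul_of_pos_right _ h2)
    constructor
    · refine lt_of_le_of_lt ?_ h3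
      apply Nat.mul_le_mul_left
      exact Nat.pow_le_pow_right (by omega) (by omega)
    · refine lt_of_le_of_lt ?_ h3
      apply Nat.mul_le_mul_right
      apply Nat.mul_le_mul_right
      exact Nat.le_mul_of_pos_right _ (pow_pos (by norm_num) _)

end Cfsg.Agent.H364.SpIneq
end

-- part: H364/SpVal
section
/-!
# Bounds for the parts of `∏ (q ^ (2 i) - 1)` (helper364)
-/

set_option autoImplicit false

namespace Cfsg.Agent.H364.SpVal

open Finset Cfsg.Agent.H902.Lte Cfsg.Agent.H902.Art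

/-- the symplectic product -/
def AA (n q : ℕ) : ℕ := ∏ i ∈ range n, (q ^ (2 * (i + 1)) - 1)

theorem AA_ne {n q : ℕ} (hq : 2 ≤ q) : AA n q ≠ 0 := by
  refine Finset.prod_ne_zero_iff.2 fun i _ => ?_
  have : q ^ 1 ≤ q ^ (2 * (i + 1)) := Nat.pow_le_pow_right (by omega) (by omega)
  rw [pow_one] at this
  omega

theorem cast_sq (q r : ℕ) : (((q : ℤ) ^ 2 : ℤ) : ZMod r) = ((q ^ 2 : ℕ) : ZMod r) := by push_cast; rfl

theorem PC_odd' {r q : ℕ} (hr : r.Prime) (hr2 : r ≠ 2) (hq : 2 ≤ q) (hrq : ¬ r ∣ q) (m : ℕ) :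
    1 ≤ orderOf ((q ^ 2 : ℕ) : ZMod r) ∧ ((m < orderOf ((q ^ 2 : ℕ) : ZMod r) ∧ P r (AA m q) = 1) ∨
      (orderOf ((q ^ 2 : ℕ) : ZMod r) ≤ m ∧ (P r (AA m q)) ^ 2 ≤
        ((q ^ orderOf ((q ^ 2 : ℕ) : ZMod r) + 1) ^ 2) ^ (m / orderOf ((q ^ 2 : ℕ) : ZMod r)) *
          3 ^ (m / orderOf ((q ^ 2 : ℕ) : ZMod r) - 1))) := by
  have hx := abs_sq_ge hq
  have hrx := not_dvd_sq hr hrq
  rw [← cast_sq]
  set x : ℤ := (q : ℤ) ^ 2 with hxdef
  have he := order_pos (q := q) hr hrx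
  refine ⟨he, ?_⟩
  rcases Nat.lt_or_ge m (orderOf (x : ZMod r)) with h | h
  · left
    refine ⟨h, ?_⟩
    rw [AA, ← W_sq hq]
    exact PW_zero hr hr2 hx hrx m (Nat.div_eq_of_lt h)
  · right
    refine ⟨h, ?_⟩
    rw [AA, ← W_sq hq]
    apply PW_odd_sq hr hr2 hx hrx
    · apply Nat.pow_le_pow_left
      have h1 : (x ^ orderOf (x : ZMod r) - 1).natAbs = q ^ (2 * orderOf (x : ZMod r)) - 1 := by
        have h2 : x ^ orderOf (x : ZMod r) - 1 = ((q ^ (2 * orderOf (x : ZMod r)) - 1 : ℕ) : ℤ) := by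
          rw [Nat.cast_sub (Nat.one_le_pow _ _ (by omega)), hxdef, ← pow_mul]; push_cast; rfl
        rw [h2, Int.natAbs_natCast]
      rw [h1]
      exact P_sq_sub_one_le hr hr2 hq he
    · exact (Nat.div_pos h (by omega)).ne'

/-- a prime whose order is more than half of `n` -/
theorem P_le_of_order {r q n : ℕ} (hr : r.Prime) (hr2 : r ≠ 2) (hq : 2 ≤ q) (hrq : ¬ r ∣ q)
    (h1 : n / 2 < orderOf ((q ^ 2 : ℕ) : ZMod r)) :
    P r (AA n q) ≤ q ^ orderOf ((q ^ 2 : ℕ) : ZMod r) + 1 := by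
  obtain ⟨he, h | ⟨h2, h3⟩⟩ := PC_odd' hr hr2 hq hrq n
  · rw [h.2]; omega
  · have h4 : n / orderOf ((q ^ 2 : ℕ) : ZMod r) = 1 := by
      have h5 : n / orderOf ((q ^ 2 : ℕ) : ZMod r) < 2 := by
        rw [Nat.div_lt_iff_lt_mul (by omega)]; omega
      have h6 := Nat.div_pos h2 (by omega)
      omega
    rw [h4, pow_one, Nat.sub_self, pow_zero, mul_one] at h3
    exact le_of_sq_le h3

/-- the general bound -/
theorem P_odd_sq_le {r q n : ℕ} (hr : r.Prime) (hr2 : r ≠ 2) (hq : 2 ≤ q) (hrq : ¬ r ∣ q) :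
    (P r (AA n q)) ^ 2 ≤ 3 ^ n * (q + 1) ^ (2 * n) := by
  obtain ⟨he, h | ⟨h2, h3⟩⟩ := PC_odd' hr hr2 hq hrq n
  · rw [h.2, one_pow]
    exact Nat.mul_pos (pow_pos (by norm_num) _) (pow_pos (by omega) _)
  · refine h3.trans ?_
    generalize orderOf ((q ^ 2 : ℕ) : ZMod r) = e at *
    have h5 : ∀ e : ℕ, 1 ≤ e → q ^ e + 1 ≤ (q + 1) ^ e := by
      intro e he
      induction e, he using Nat.le_induction with
      | base => simp
      | succ k hk ih =>
        rw [pow_succ, pow_succ]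
        have h6 : 1 ≤ q ^ k := Nat.one_le_pow _ _ (by omega)
        nlinarith only [ih, h6]
    calc ((q ^ e + 1) ^ 2) ^ (n / e) * 3 ^ (n / e - 1) ≤ (((q + 1) ^ e) ^ 2) ^ (n / e) * 3 ^ n := by
          apply Nat.mul_le_mul
          · exact Nat.pow_le_pow_left (Nat.pow_le_pow_left (h5 e he) 2) _
          · apply Nat.pow_le_pow_right (by norm_num)
            have := Nat.div_le_self n e
            omega
      _ = (q + 1) ^ (2 * (e * (n / e))) * 3 ^ n := by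
          rw [← pow_mul, ← pow_mul]
          congr 2
          ring
      _ ≤ (q + 1) ^ (2 * n) * 3 ^ n := by
          apply Nat.mul_le_mul_right
          apply Nat.pow_le_pow_right (by omega)
          have := Nat.mul_div_le n e
          omega
      _ = _ := mul_comm _ _

theorem P_le_gen {r q n : ℕ} (hr : r.Prime) (hq : 2 ≤ q) (hrq : ¬ r ∣ q) (hn : 1 ≤ n) :
    P r (AA n q) ≤ (4 * (q + 1)) ^ n := by
  by_cases hr2 : r = 2
  · subst hr2
    have hodd : Odd q := Nat.not_even_iff_odd.1 fun h => hrq h.two_dvd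
    have hq3 : 3 ≤ q := by
      rcases hodd with ⟨k, hk⟩; omega
    have := PC_two hq3 hodd hn
    rw [AA]
    omega
  · apply le_of_sq_le
    refine (P_odd_sq_le hr hr2 hq hrq).trans ?_
    rw [← pow_mul, mul_comm n 2, mul_pow 4]
    apply Nat.mul_le_mul_right
    rw [pow_mul]
    exact Nat.pow_le_pow_left (by norm_num) n

theorem four_le {q v : ℕ} (hv : 2 ≤ v) (h : 3 ≤ q ∨ (2 ≤ q ∧ 3 ≤ v)) : 4 * (q + 1) ≤ v ^ (q + 1) := by
  rcases h with h | ⟨h, h'⟩
  · have h1 : 4 * (q + 1) ≤ 2 ^ (q + 1) := by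
      induction q, h using Nat.le_induction with
      | base => norm_num
      | succ k hk ih =>
        rw [pow_succ]
        omega
    exact h1.trans (Nat.pow_le_pow_left hv _)
  · have h1 : 4 * (q + 1) ≤ 3 ^ (q + 1) := by
      induction q, h using Nat.le_induction with
      | base => norm_num
      | succ k hk ih =>
        rw [pow_succ]
        omega
    exact h1.trans (Nat.pow_le_pow_left h' _)

/-- the exponent -/
theorem exp_le {q v n N : ℕ} (hv : 2 ≤ v) (h : 3 ≤ q ∨ (2 ≤ q ∧ 3 ≤ v)) (hN : v ^ N ≤ (4 * (q + 1)) ^ n) :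
    N ≤ n * (q + 1) := by
  by_contra hcon
  have h1 : v ^ (n * (q + 1)) < v ^ N := Nat.pow_lt_pow_right (by omega) (by omega)
  have h2 : (4 * (q + 1)) ^ n ≤ v ^ (n * (q + 1)) := by
    rw [mul_comm n, pow_mul]
    exact Nat.pow_le_pow_left (four_le hv h) n
  omega

end Cfsg.Agent.H364.SpVal
end

-- part: H364/SpCross
section
/-!
# Simple groups of Lie type in cross characteristic: the estimate (helper364)
-/

set_option autoImplicit false

namespace Cfsg.Agent.H364.SpCross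

open Finset Cfsg.Agent.H902.Lte Cfsg.Agent.H902.Art Cfsg.Agent.H364.SpVal Cfsg.Agent.H364.SpIneq Cfsg.Agent.H364.SpPrim
  Cfsg.Agent.H364.SpTot

section

variable {X : Sh} {v g MS I D : ℕ}

/-- a divisor of `I * MS` prime to `v` -/
theorem le_num (hX : Real X v g MS) (hI : I ≤ dd X (v ^ g) * NN X * g) (hI0 : 0 < I) (hv : Nat.Coprime D v)
    (hd : D ∣ I * MS) : D ≤ num X (v ^ g) * (g * NN X) := by
  have hM0 := hX.M_ne
  have hP := hX.P_self
  have hPd : P v MS ∣ MS := P_dvd v MS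
  rw [hP] at hPd
  obtain ⟨m', hm'⟩ := hPd
  have hq0 : 0 < (v ^ g) ^ NN X := pow_pos (pow_pos hX.hp.pos _) _
  have h1 : dd X (v ^ g) * m' = num X (v ^ g) := by
    have h2 := hX.eq
    rw [hm', ← mul_assoc, mul_comm (dd X (v ^ g)), mul_assoc] at h2
    exact Nat.eq_of_mul_eq_mul_left hq0 h2
  have h2 : D ∣ I * m' := by
    have h3 : D ∣ (v ^ g) ^ NN X * (I * m') := by
      rw [hm'] at hd
      have e : (v ^ g) ^ NN X * (I * m') = I * ((v ^ g) ^ NN X * m') := by ring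
      rw [e]; exact hd
    exact (Nat.Coprime.pow_right _ (Nat.Coprime.pow_right _ hv)).dvd_of_dvd_mul_left h3
  have hm0 : 0 < m' := by
    rcases Nat.eq_zero_or_pos m' with h | h
    · rw [h, mul_zero] at hm'
      exact absurd hm' hM0
    · exact h
  calc D ≤ I * m' := Nat.le_of_dvd (Nat.mul_pos hI0 hm0) h2
    _ ≤ (dd X (v ^ g) * NN X * g) * m' := Nat.mul_le_mul_right _ hI
    _ = (dd X (v ^ g) * m') * (g * NN X) := by ring
    _ = _ := by rw [h1]

/-- an arbitrary divisor of `I * MS` -/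
theorem le_all (hX : Real X v g MS) (hI : I ≤ dd X (v ^ g) * NN X * g) (hI0 : 0 < I) (hd : D ∣ I * MS) :
    D ≤ v ^ (g * NN X) * num X (v ^ g) * (g * NN X) := by
  have hM0 := hX.M_ne
  calc D ≤ I * MS := Nat.le_of_dvd (Nat.mul_pos hI0 (Nat.pos_of_ne_zero hM0)) hd
    _ ≤ (dd X (v ^ g) * NN X * g) * MS := Nat.mul_le_mul_right _ hI
    _ = (dd X (v ^ g) * MS) * (g * NN X) := by ring
    _ = _ := by rw [hX.eq, ← pow_mul]

theorem cube_num (hX : Real X v g MS) (hX2 : X ≠ .L 2) (hI : I ≤ dd X (v ^ g) * NN X * g) (hI0 : 0 < I)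
    (hv : Nat.Coprime D v) (hd : D ∣ I * MS) : D ^ 3 ≤ (v ^ (g * NN X)) ^ 5 * (g * NN X) ^ 3 := by
  have h1 := le_num hX hI hI0 hv hd
  have h2 := hX.num_cube hX2
  rw [← pow_mul v] at h2
  calc D ^ 3 ≤ (num X (v ^ g) * (g * NN X)) ^ 3 := Nat.pow_le_pow_left h1 3
    _ = num X (v ^ g) ^ 3 * (g * NN X) ^ 3 := mul_pow _ _ _
    _ ≤ _ := Nat.mul_le_mul_right _ h2

theorem cube_all (hX : Real X v g MS) (hX2 : X ≠ .L 2) (hI : I ≤ dd X (v ^ g) * NN X * g) (hI0 : 0 < I)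
    (hd : D ∣ I * MS) : D ^ 3 ≤ (v ^ (g * NN X)) ^ 8 * (g * NN X) ^ 3 := by
  have h1 := le_all hX hI hI0 hd
  have h2 := hX.num_cube hX2
  rw [← pow_mul v] at h2
  calc D ^ 3 ≤ (v ^ (g * NN X) * num X (v ^ g) * (g * NN X)) ^ 3 := Nat.pow_le_pow_left h1 3
    _ = (v ^ (g * NN X)) ^ 3 * num X (v ^ g) ^ 3 * (g * NN X) ^ 3 := by rw [mul_pow, mul_pow]
    _ ≤ (v ^ (g * NN X)) ^ 3 * (v ^ (g * NN X)) ^ 5 * (g * NN X) ^ 3 :=
        Nat.mul_le_mul_right _ (Nat.mul_le_mul_left _ h2)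
    _ = _ := by rw [← pow_add]

theorem pow_le_P {Y : Sh} {p f M : ℕ} (hX : Real X v g MS) (hY : Real Y p f M) (hMS : MS ∣ M) :
    v ^ (g * NN X) ≤ P v M := by
  have h1 := P_mono hX.hp hY.M_ne hMS
  rw [hX.P_self, ← pow_mul] at h1
  exact h1

end

/-- **No simple group of Lie type in cross characteristic**, the general case. -/
theorem cross_gen {n p f M : ℕ} (hY : Real (.C n) p f M) (hn : 5 ≤ n) (h6 : n ≠ 6) (h8 : n ≠ 8) (hq : q0 n ≤ p ^ f)
    {X : Sh} {v g MS I : ℕ} (hX : Real X v g MS) (hX2 : X ≠ .L 2) (hvp : v ≠ p) (hMS : MS ∣ M)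
    (hI : I ≤ dd X (v ^ g) * NN X * g) (hI0 : 0 < I)
    (hd : (p ^ f) ^ cn n * tt n ((p ^ f) ^ 2) ∣ I * MS) : False := by
  have hv := hX.hp
  have hq2 := hY.q_ge
  have hvq := hY.not_dvd_q hv hvp
  obtain ⟨i1, i2⟩ := ineq hn h6 h8 hq
  set q := p ^ f with hqdef
  have hQ : 2 ≤ q ^ 2 := by nlinarith only [hq2]
  have h1 := pow_le_P hX hY hMS
  have h2 : P v M ≤ P v (AA n q) := hY.P_other_le hv hvp
  have hlb := tt_ge (n := n) hQ
  have hlam := lam_pos n
  set N := g * NN X with hN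
  -- the common end
  have fin : ∀ B : ℕ, (q ^ cn n * tt n (q ^ 2)) ^ 3 ≤ B →
      lam n ^ 3 * B < ((q ^ 2 - 1) ^ ss n) ^ 3 * (q ^ cn n) ^ 3 → False := by
    intro B hB h3
    have h4 : ((q ^ 2 - 1) ^ ss n) ^ 3 * (q ^ cn n) ^ 3 ≤ lam n ^ 3 * (q ^ cn n * tt n (q ^ 2)) ^ 3 := by
      calc ((q ^ 2 - 1) ^ ss n) ^ 3 * (q ^ cn n) ^ 3 ≤ (tt n (q ^ 2) * lam n) ^ 3 * (q ^ cn n) ^ 3 :=
            Nat.mul_le_mul_right _ (Nat.pow_le_pow_left hlb 3)
        _ = _ := by simp only [mul_pow]; ring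
    have h5 := Nat.mul_le_mul_left (lam n ^ 3) hB
    omega
  have h34 : 3 ≤ q ∨ (2 ≤ q ∧ 3 ≤ v) := by
    by_cases hv2 : v = 2
    · left
      subst hv2
      by_contra hcon
      have : q = 2 := by omega
      rw [this] at hvq
      exact hvq (dvd_refl 2)
    · right
      have := hv.two_le
      exact ⟨hq2, by omega⟩
  have hNle : N ≤ n * (q + 1) := exp_le hv.two_le h34 ((h1.trans h2).trans (P_le_gen hv hq2 hvq (by omega)))
  by_cases hvt : v ∣ tt n (q ^ 2)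
  · -- `v` is one of the primitive primes
    obtain ⟨ho1, ho2⟩ := order_of_dvd_tt (by omega) hQ hv hvt
    have hv2 : v ≠ 2 := by
      intro h
      subst h
      have h3 : orderOf ((q ^ 2 : ℕ) : ZMod 2) ≤ 1 := by
        have hodd : ¬ 2 ∣ q ^ 2 := fun h => hvq (Nat.prime_two.dvd_of_dvd_pow h)
        have h4 : ((q ^ 2 : ℕ) : ZMod 2) = 1 := by
          rw [← Nat.cast_one, ZMod.natCast_eq_natCast_iff]
          show q ^ 2 % 2 = 1 % 2
          omega
        rw [h4, orderOf_one]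
      omega
    have h3 := P_le_of_order hv hv2 hq2 hvq ho1
    have h4 : v ^ N ≤ (q + 1) ^ n := by
      have h5 : q ^ orderOf ((q ^ 2 : ℕ) : ZMod v) + 1 ≤ q ^ n + 1 := by
        have := Nat.pow_le_pow_right (show 0 < q by omega) ho2
        omega
      have h6 : q ^ n + 1 ≤ (q + 1) ^ n := by
        have h7 : ∀ e : ℕ, 1 ≤ e → q ^ e + 1 ≤ (q + 1) ^ e := by
          intro e he
          induction e, he using Nat.le_induction with
          | base => simp
          | succ k hk ih =>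
            rw [pow_succ, pow_succ]
            have h6 : 1 ≤ q ^ k := Nat.one_le_pow _ _ (by omega)
            nlinarith only [ih, h6]
        exact h7 n (by omega)
      exact (h1.trans h2).trans (h3.trans (h5.trans h6))
    apply fin _ (cube_all hX hX2 hI hI0 hd)
    refine lt_of_le_of_lt ?_ i2
    calc lam n ^ 3 * ((v ^ N) ^ 8 * N ^ 3) ≤ lam n ^ 3 * (((q + 1) ^ n) ^ 8 * (n * (q + 1)) ^ 3) := by
          apply Nat.mul_le_mul_left
          exact Nat.mul_le_mul (Nat.pow_le_pow_left h4 8) (Nat.pow_le_pow_left hNle 3)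
      _ = _ := by
          rw [← pow_mul, mul_pow n, show 8 * n + 3 = n * 8 + 3 by ring, pow_add]
          ring
  · have hcop : Nat.Coprime (q ^ cn n * tt n (q ^ 2)) v := by
      apply Nat.Coprime.mul_left
      · apply Nat.Coprime.pow_left
        exact (Nat.Coprime.symm ((Nat.Prime.coprime_iff_not_dvd hv).2 hvq))
      · exact (Nat.Coprime.symm ((Nat.Prime.coprime_iff_not_dvd hv).2 hvt))
    have h4 : v ^ N ≤ (4 * (q + 1)) ^ n := (h1.trans h2).trans (P_le_gen hv hq2 hvq (by omega))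
    apply fin _ (cube_num hX hX2 hI hI0 hcop hd)
    refine lt_of_le_of_lt ?_ i1
    calc lam n ^ 3 * ((v ^ N) ^ 5 * N ^ 3) ≤ lam n ^ 3 * (((4 * (q + 1)) ^ n) ^ 5 * (n * (q + 1)) ^ 3) := by
          apply Nat.mul_le_mul_left
          exact Nat.mul_le_mul (Nat.pow_le_pow_left h4 5) (Nat.pow_le_pow_left hNle 3)
      _ = _ := by
          rw [← pow_mul, mul_pow n, mul_pow 4, show 5 * n + 3 = n * 5 + 3 by ring, show 5 * n = n * 5 by ring, pow_add]
          ring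

end Cfsg.Agent.H364.SpCross
end

-- part: H364/SpSmall
section
/-!
# Simple groups of Lie type in cross characteristic: the small cases (helper364)
-/

set_option autoImplicit false

namespace Cfsg.Agent.H364.SpSmall

open Finset Cfsg.Agent.H902.Lte Cfsg.Agent.H902.Art Cfsg.Agent.H364.SpVal Cfsg.Agent.H364.SpIneq Cfsg.Agent.H364.SpPrim
  Cfsg.Agent.H364.SpTot Cfsg.Agent.H364.SpCross

/-- remove the common factors with `y` -/
def strip : ℕ → ℕ → ℕ → ℕ
  | 0, x, _ => x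
  | k + 1, x, y => let g := Nat.gcd x y; if g = 1 then x else strip k (x / g) y

/-- the part with orders larger than `n / 2` -/
def te (n q : ℕ) : ℕ := strip 40 (AA n q) (AA (n / 2) q)

/-- the bound for the square of the part of a prime of order `e` -/
def Be (n q e : ℕ) : ℕ := ((q ^ e + 1) ^ 2) ^ (n / e) * 3 ^ (n / e - 1)

def ck (n q D e : ℕ) : Bool :=
  (Be n q e < 9 ^ 64) && (List.range 64).all fun N => decide (Be n q e < 9 ^ N) || decide (Be n q e ^ 5 * N ^ 6 < D ^ 6)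

def ck2 (b D : ℕ) : Bool :=
  (b < 3 ^ 64) && (List.range 64).all fun N => decide (b < 3 ^ N) || decide (b ^ 8 * N ^ 3 < D ^ 3)

def ck3 (P D : ℕ) : Bool :=
  (P < 2 ^ 150) && (List.range 150).all fun N => decide (P < 2 ^ N) || decide (P ^ 5 * N ^ 3 < D ^ 3)

def good (n q t : ℕ) : Bool := (AA n q % t == 0) && (Nat.gcd t (AA (n / 2) q) == 1)

/-- what is known about `|S|` and the index -/
def Fr (n q I MS : ℕ) : Prop :=
  ∀ t : ℕ, t ∣ AA n q → (∀ r : ℕ, r.Prime → r ∣ t → n / 2 < orderOf ((q ^ 2 : ℕ) : ZMod r)) → q ^ cn n * t ∣ I * MS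

theorem tt_dvd_AA {n q : ℕ} (hq : 1 ≤ q) : tt n (q ^ 2) ∣ AA n q := by
  have h := tt_dvd (n := n) (Q := q ^ 2) (Nat.one_le_pow _ _ hq)
  have e : ∏ i ∈ range n, ((q ^ 2) ^ (i + 1) - 1) = AA n q := by
    rw [AA]
    apply Finset.prod_congr rfl
    intro i _
    rw [← pow_mul]
  rwa [e] at h

theorem Fr.gen {n q I MS : ℕ} (h : Fr n q I MS) (hq : 2 ≤ q) (hn : 4 ≤ n) : q ^ cn n * tt n (q ^ 2) ∣ I * MS := by
  refine h _ (tt_dvd_AA (by omega)) fun r hr hd => ?_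
  exact (order_of_dvd_tt hn (by nlinarith) hr hd).1

theorem not_dvd_of_AA {n q r : ℕ} (hq : 2 ≤ q) (hr : r.Prime) (h : r ∣ AA n q) : ¬ r ∣ q := by
  intro h1
  rw [AA] at h
  obtain ⟨i, -, hi⟩ := (hr.prime.dvd_finsetProd_iff _).1 h
  have h2 : r ∣ q ^ (2 * (i + 1)) := dvd_pow h1 (by omega)
  have h3 : 1 ≤ q ^ (2 * (i + 1)) := Nat.one_le_pow _ _ (by omega)
  have h4 : r ∣ 1 := by
    have := Nat.dvd_sub h2 hi
    rwa [Nat.sub_sub_self h3] at this
  exact hr.one_lt.ne' (Nat.dvd_one.1 h4)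

theorem order_pos' {q r : ℕ} (hr : r.Prime) (h : ¬ r ∣ q) : 1 ≤ orderOf ((q ^ 2 : ℕ) : ZMod r) := by
  rw [← cast_sq]
  exact order_pos (q := q) hr (not_dvd_sq hr h)

theorem order_of_good {n q r t : ℕ} (hq : 2 ≤ q) (hr : r.Prime) (hg : good n q t = true) (h : r ∣ t) :
    n / 2 < orderOf ((q ^ 2 : ℕ) : ZMod r) := by
  simp only [good, Bool.and_eq_true, beq_iff_eq] at hg
  obtain ⟨h1, h2⟩ := hg
  have h3 : r ∣ AA n q := h.trans (Nat.dvd_of_mod_eq_zero h1)
  have h4 := not_dvd_of_AA hq hr h3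
  have h5 := order_pos' hr h4
  by_contra hcon
  have h6 : r ∣ AA (n / 2) q := by
    set o := orderOf ((q ^ 2 : ℕ) : ZMod r) with ho
    have h7 : r ∣ (q ^ 2) ^ o - 1 := by
      rw [Cfsg.Agent.Lib.Zsigmondy.dvd_pow_sub_one_iff (Nat.one_le_pow _ _ (by omega))]
    rw [← pow_mul] at h7
    refine h7.trans ?_
    rw [AA]
    have h8 := Finset.dvd_prod_of_mem (fun i => q ^ (2 * (i + 1)) - 1) (show o - 1 ∈ range (n / 2) by
      rw [Finset.mem_range]; omega)
    rwa [show o - 1 + 1 = o by omega] at h8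
  have h7 : r ∣ 1 := by
    rw [← h2]
    exact Nat.dvd_gcd h h6
  exact hr.one_lt.ne' (Nat.dvd_one.1 h7)

theorem Fr.good {n q I MS t : ℕ} (h : Fr n q I MS) (hq : 2 ≤ q) (hg : good n q t = true) : q ^ cn n * t ∣ I * MS := by
  refine h t ?_ fun r hr hd => order_of_good hq hr hg hd
  simp only [SpSmall.good, Bool.and_eq_true, beq_iff_eq] at hg
  exact Nat.dvd_of_mod_eq_zero hg.1

section

variable {n p f q M : ℕ} {X : Sh} {v g MS I t : ℕ}

/-- `v` odd, not dividing `t`, of order `e` -/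
theorem ck_false (hY : Real (.C n) p f M) (hq : p ^ f = q) (hX : Real X v g MS) (hX2 : X ≠ .L 2)
    (hvp : v ≠ p) (hMS : MS ∣ M) (hI : I ≤ dd X (v ^ g) * NN X * g) (hI0 : 0 < I) (hd : q ^ cn n * t ∣ I * MS)
    (hv2 : v ≠ 2) (hvt : ¬ v ∣ t)
    (hck : ∀ e, 1 ≤ e → e ≤ n → e = orderOf ((q ^ 2 : ℕ) : ZMod v) → ck n q (q ^ cn n * t) e = true) : False := by
  have hv := hX.hp
  have hq2 := hY.q_ge
  have hvq := hY.not_dvd_q hv hvp
  have h1 := pow_le_P hX hY hMS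
  have h2 : P v M ≤ P v (AA n (p ^ f)) := hY.P_other_le hv hvp
  rw [hq] at hq2 hvq h2
  have hN1 : 1 ≤ g * NN X := Nat.mul_pos hX.hf (NN_pos hX)
  have hv3 : 3 ≤ v := by have := hv.two_le; omega
  have hcop : Nat.Coprime (q ^ cn n * t) v := by
    apply Nat.Coprime.mul_left
    · apply Nat.Coprime.pow_left
      exact (Nat.Coprime.symm ((Nat.Prime.coprime_iff_not_dvd hv).2 hvq))
    · exact (Nat.Coprime.symm ((Nat.Prime.coprime_iff_not_dvd hv).2 hvt))
  have h3 := cube_num hX hX2 hI hI0 hcop hd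
  obtain ⟨he, h4 | ⟨h4, h5⟩⟩ := PC_odd' hv hv2 hq2 hvq n
  · rw [h4.2] at h2
    have h6 : v ^ 1 ≤ v ^ (g * NN X) := Nat.pow_le_pow_right (by omega) hN1
    rw [pow_one] at h6
    omega
  · have h6 := hck _ he h4 rfl
    have h7 : (v ^ (g * NN X)) ^ 2 ≤ Be n q (orderOf ((q ^ 2 : ℕ) : ZMod v)) :=
      (Nat.pow_le_pow_left (h1.trans h2) 2).trans h5
    generalize orderOf ((q ^ 2 : ℕ) : ZMod v) = e at *
    generalize g * NN X = N at *
    rw [ck, Bool.and_eq_true, decide_eq_true_eq, List.all_eq_true] at h6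
    obtain ⟨h8, h9⟩ := h6
    have h10 : 9 ^ N ≤ Be n q e := by
      calc 9 ^ N = (3 ^ N) ^ 2 := by rw [← pow_mul, mul_comm, pow_mul]; norm_num
        _ ≤ (v ^ N) ^ 2 := Nat.pow_le_pow_left (Nat.pow_le_pow_left hv3 N) 2
        _ ≤ _ := h7
    have h11 : N < 64 := by
      by_contra hcon
      have := Nat.pow_le_pow_right (show 0 < 9 by norm_num) (show 64 ≤ N by omega)
      omega
    have h12 := h9 N (List.mem_range.2 h11)
    rw [Bool.or_eq_true, decide_eq_true_eq, decide_eq_true_eq] at h12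
    rcases h12 with h12 | h12
    · omega
    · have h13 : (q ^ cn n * t) ^ 6 ≤ Be n q e ^ 5 * N ^ 6 := by
        calc (q ^ cn n * t) ^ 6 = ((q ^ cn n * t) ^ 3) ^ 2 := by rw [← pow_mul]
          _ ≤ ((v ^ N) ^ 5 * N ^ 3) ^ 2 := Nat.pow_le_pow_left h3 2
          _ = ((v ^ N) ^ 2) ^ 5 * N ^ 6 := by rw [mul_pow]; ring
          _ ≤ _ := Nat.mul_le_mul_right _ (Nat.pow_le_pow_left h7 5)
      omega

/-- `v` divides `t` -/
theorem ck2_false {b : ℕ} (hY : Real (.C n) p f M) (hX : Real X v g MS) (hX2 : X ≠ .L 2)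
    (hMS : MS ∣ M) (hI : I ≤ dd X (v ^ g) * NN X * g) (hI0 : 0 < I) (hd : q ^ cn n * t ∣ I * MS)
    (hv2 : v ≠ 2) (hb : P v M ≤ b) (hck : ck2 b (q ^ cn n * t) = true) : False := by
  have hv := hX.hp
  have h1 := (pow_le_P hX hY hMS).trans hb
  have hv3 : 3 ≤ v := by have := hv.two_le; omega
  have h3 := cube_all hX hX2 hI hI0 hd
  generalize g * NN X = N at *
  rw [ck2, Bool.and_eq_true, decide_eq_true_eq, List.all_eq_true] at hck
  obtain ⟨h8, h9⟩ := hck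
  have h10 : 3 ^ N ≤ b := (Nat.pow_le_pow_left hv3 N).trans h1
  have h11 : N < 64 := by
    by_contra hcon
    have := Nat.pow_le_pow_right (show 0 < 3 by norm_num) (show 64 ≤ N by omega)
    omega
  have h12 := h9 N (List.mem_range.2 h11)
  rw [Bool.or_eq_true, decide_eq_true_eq, decide_eq_true_eq] at h12
  rcases h12 with h12 | h12
  · omega
  · have h13 : (v ^ N) ^ 8 * N ^ 3 ≤ b ^ 8 * N ^ 3 := Nat.mul_le_mul_right _ (Nat.pow_le_pow_left h1 8)
    omega

/-- `v = 2` -/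
theorem ck3_false {b : ℕ} (hY : Real (.C n) p f M) (hq : p ^ f = q) (hX : Real X v g MS) (hX2 : X ≠ .L 2)
    (hvp : v ≠ p) (hMS : MS ∣ M) (hI : I ≤ dd X (v ^ g) * NN X * g) (hI0 : 0 < I) (hd : q ^ cn n * t ∣ I * MS)
    (hvt : ¬ v ∣ t) (hb : P v M ≤ b) (hck : ck3 b (q ^ cn n * t) = true) : False := by
  have hv := hX.hp
  have hvq := hY.not_dvd_q hv hvp
  rw [hq] at hvq
  have h1 := (pow_le_P hX hY hMS).trans hb
  have hcop : Nat.Coprime (q ^ cn n * t) v := by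
    apply Nat.Coprime.mul_left
    · apply Nat.Coprime.pow_left
      exact (Nat.Coprime.symm ((Nat.Prime.coprime_iff_not_dvd hv).2 hvq))
    · exact (Nat.Coprime.symm ((Nat.Prime.coprime_iff_not_dvd hv).2 hvt))
  have h3 := cube_num hX hX2 hI hI0 hcop hd
  generalize g * NN X = N at *
  rw [ck3, Bool.and_eq_true, decide_eq_true_eq, List.all_eq_true] at hck
  obtain ⟨h8, h9⟩ := hck
  have h10 : 2 ^ N ≤ b := (Nat.pow_le_pow_left hv.two_le N).trans h1
  have h11 : N < 150 := by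
    by_contra hcon
    have := Nat.pow_le_pow_right (show 0 < 2 by norm_num) (show 150 ≤ N by omega)
    omega
  have h12 := h9 N (List.mem_range.2 h11)
  rw [Bool.or_eq_true, decide_eq_true_eq, decide_eq_true_eq] at h12
  rcases h12 with h12 | h12
  · omega
  · have h13 : (v ^ N) ^ 5 * N ^ 3 ≤ b ^ 5 * N ^ 3 := Nat.mul_le_mul_right _ (Nat.pow_le_pow_left h1 5)
    omega

/-- the `2`-part of the order -/
theorem P_two_le (hY : Real (.C n) p f M) (hq : p ^ f = q) (hp2 : 2 ≠ p) (hn : 1 ≤ n) :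
    P 2 M ≤ (4 * (q + 1)) ^ n / 4 := by
  have hq2 := hY.q_ge
  have hvq := hY.not_dvd_q Nat.prime_two hp2
  have h2 := hY.P_other Nat.prime_two hp2
  have h3 : num (.C n) (p ^ f) = AA n (p ^ f) := rfl
  rw [h3] at h2
  rw [hq] at hq2 hvq h2
  have hodd : Odd q := Nat.not_even_iff_odd.1 fun h => hvq h.two_dvd
  have hq3 : 3 ≤ q := by
    rcases hodd with ⟨k, hk⟩; omega
  have hdd : dd (.C n) q = 2 := by
    show Nat.gcd 2 (q - 1) = 2
    apply Nat.gcd_eq_left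
    obtain ⟨k, hk⟩ := hodd
    exact ⟨k, by (clear * - hk; omega)⟩
  have h4 : P 2 2 = 2 := by
    have := P_pow_self (r := 2) (k := 1) (a := 1) Nat.prime_two (by norm_num)
    simpa using this
  rw [hdd, h4] at h2
  have h5 := PC_two hq3 hodd hn
  have h6 : AA n q = ∏ i ∈ range n, (q ^ (2 * (i + 1)) - 1) := rfl
  rw [← h6] at h5
  rw [Nat.le_div_iff_mul_le (by norm_num)]
  omega

theorem two_not_dvd (hY : Real (.C n) p f M) (hq : p ^ f = q) (hn : 2 ≤ n) (hg : good n q t = true) : ¬ 2 ∣ t := by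
  intro h
  have hq2 := hY.q_ge
  rw [hq] at hq2
  have h1 := order_of_good hq2 Nat.prime_two hg h
  have h3 : orderOf ((q ^ 2 : ℕ) : ZMod 2) ≤ 1 := by
    have h2 : ¬ 2 ∣ q := by
      apply not_dvd_of_AA hq2 Nat.prime_two (n := n)
      simp only [good, Bool.and_eq_true, beq_iff_eq] at hg
      exact h.trans (Nat.dvd_of_mod_eq_zero hg.1)
    have hodd : ¬ 2 ∣ q ^ 2 := fun h => h2 (Nat.prime_two.dvd_of_dvd_pow h)
    have h4 : ((q ^ 2 : ℕ) : ZMod 2) = 1 := by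
      rw [← Nat.cast_one, ZMod.natCast_eq_natCast_iff]
      show q ^ 2 % 2 = 1 % 2
      omega
    rw [h4, orderOf_one]
  omega

/-- the bound for the primes dividing `t` -/
theorem P_le_good (hY : Real (.C n) p f M) (hq : p ^ f = q) (hn : 2 ≤ n) (hv : v.Prime) (hvp : v ≠ p)
    (hg : good n q t = true) (hvt : v ∣ t) : P v M ≤ q ^ n + 1 := by
  have hq2 := hY.q_ge
  have hvq := hY.not_dvd_q hv hvp
  have h2 : P v M ≤ P v (AA n (p ^ f)) := hY.P_other_le hv hvp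
  rw [hq] at hq2 hvq h2
  have hv2 : v ≠ 2 := by
    rintro rfl
    exact two_not_dvd hY hq hn hg hvt
  have h1 := order_of_good hq2 hv hg hvt
  obtain ⟨he, h4 | ⟨h4, h5⟩⟩ := PC_odd' hv hv2 hq2 hvq n
  · rw [h4.2] at h2
    have := Nat.one_le_pow n q (by omega)
    omega
  · have h6 := P_le_of_order hv hv2 hq2 hvq h1
    have := Nat.pow_le_pow_right (show 0 < q by omega) h4
    omega

end

end Cfsg.Agent.H364.SpSmall
end

private theorem dce_20b5f58c81d6 : _root_.True := by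
  try have : _root_.True := by simp only [_root_.Cfsg.Agent.H364.SpSmall.ck3.eq_1]
  try have : _root_.True := by simp only [_root_.Cfsg.Agent.H364.SpTot.ss.eq_1]
  try have : _root_.True := by simp only [_root_.Cfsg.Agent.H364.SpPrim.tt.eq_1]
  try have : _root_.True := by simp only [_root_.Cfsg.Agent.H364.SpSmall.ck.eq_1]
  try have : _root_.True := by simp only [_root_.Cfsg.Agent.H364.SpVal.AA.eq_1]
  try have : _root_.True := by simp only [_root_.Cfsg.Agent.H364.SpSmall.good.eq_1]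
  try have : _root_.True := by simp only [_root_.Cfsg.Agent.H364.SpPrim.lam.eq_1]
  try have : _root_.True := by simp only [_root_.Cfsg.Agent.H364.SpIneq.q0.eq_1]
  try have : _root_.True := by simp only [_root_.Cfsg.Agent.H364.SpSmall.ck2.eq_1]
  try have : _root_.True := by simp only [_root_.Cfsg.Agent.H364.SpIneq.chk.eq_1]
  exact _root_.True.intro
end

-- part: H364/DCross
section
prune_inst 0x40049000000000000004200000400000100000000002900040201084220804220000800140c022012000800000002100010400000000a00300000020000002a020001640300280000001006000000000000000000000000000000000000000000000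
set_option linter.all false
open scoped Cfsg.Agent.FastGrp

-- part: H364/DIneq
section
/-!
# The numerical inequality for `D_n`, `n ≥ 8` even (helper364)
-/

set_option autoImplicit false

namespace Cfsg.Agent.H364.DIneq

open Finset Cfsg.Agent.H365.Zsig Cfsg.Agent.H364.SpTot Cfsg.Agent.H364.SpPrim Cfsg.Agent.H364.SpIneq

/-- the product of the primitive parts -/
noncomputable def tD (n Q : ℕ) : ℕ := ∏ j ∈ Ioc (n / 2) (n - 1), pk j Q

/-- the loss -/
def lD (n : ℕ) : ℕ := ∏ j ∈ Ioc (n / 2) (n - 1), j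

/-- the degree -/
def sD (n : ℕ) : ℕ := ∑ j ∈ Ioc (n / 2) (n - 1), j.totient

theorem tD_dvd {n Q : ℕ} (hQ : 1 ≤ Q) : tD n Q ∣ ∏ i ∈ range (n - 1), (Q ^ (i + 1) - 1) := by
  have h1 : ∏ i ∈ range (n - 1), (Q ^ (i + 1) - 1) = ∏ j ∈ Ioc 0 (n - 1), (Q ^ j - 1) := by
    rw [Finset.range_eq_Ico, Finset.prod_Ico_add' (fun j => Q ^ j - 1) 0 (n - 1) 1]
    apply Finset.prod_congr _ (fun _ _ => rfl)
    ext x
    simp only [Finset.mem_Ico, Finset.mem_Ioc]
    omega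
  rw [h1]
  refine (Finset.prod_dvd_prod_of_dvd _ (fun j => Q ^ j - 1) ?_).trans (Finset.prod_dvd_prod_of_subset _ _ _ ?_)
  · intro j hj
    rw [Finset.mem_Ioc] at hj
    exact (Dvd.intro _ (pk_mul j Q)).trans (Ph_dvd (by omega) hQ)
  · intro j hj
    rw [Finset.mem_Ioc] at hj ⊢
    omega

theorem order_of_dvd_tD {n Q r : ℕ} (hn : 4 ≤ n) (hQ : 2 ≤ Q) (hr : r.Prime) (h : r ∣ tD n Q) :
    n / 2 < orderOf (Q : ZMod r) ∧ orderOf (Q : ZMod r) ≤ n - 1 := by
  obtain ⟨j, hj, hd⟩ := (hr.prime.dvd_finsetProd_iff _).1 h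
  rw [Finset.mem_Ioc] at hj
  rw [order_of_dvd_pk (by omega) hQ hr hd]
  exact hj

theorem tD_ge {n Q : ℕ} (hQ : 2 ≤ Q) : (Q - 1) ^ sD n ≤ tD n Q * lD n := by
  rw [sD, ← Finset.prod_pow_eq_pow_sum, tD, lD, ← Finset.prod_mul_distrib]
  apply Finset.prod_le_prod'
  intro j hj
  rw [Finset.mem_Ioc] at hj
  exact (pow_totient_le hQ).trans (Ph_le (by omega))

theorem lD_le (n : ℕ) : lD n ≤ n ^ (n - 1 - n / 2) := by
  have h1 : lD n ≤ ∏ _j ∈ Ioc (n / 2) (n - 1), n := by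
    apply Finset.prod_le_prod'
    intro j hj
    rw [Finset.mem_Ioc] at hj
    omega
  rw [Finset.prod_const, Nat.card_Ioc] at h1
  exact h1

theorem lD_pos (n : ℕ) : 0 < lD n := by
  apply Finset.prod_pos
  intro j hj
  rw [Finset.mem_Ioc] at hj
  omega

theorem sD_add {n : ℕ} (hn : 2 ≤ n) : ss n = sD n + n.totient := by
  obtain ⟨m, rfl⟩ := Nat.exists_eq_add_of_le' (show 1 ≤ n by omega)
  rw [ss, sD, Nat.add_sub_cancel]
  have h : (m + 1) / 2 ≤ m := by omega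
  rw [← Finset.insert_Ioc_right_eq_Ioc_add_one h, Finset.sum_insert, add_comm]
  rw [Finset.mem_Ioc]
  omega

theorem sD_bound {n : ℕ} (hn : 2 ≤ n) : 7 * n ^ 2 ≤ 36 * sD n + 42 * n := by
  have h1 := ss_bound n
  have h2 := sD_add hn
  have h3 := Nat.totient_le n
  omega

/-- the start of the range of `q` -/
def q0 (n : ℕ) : ℕ :=
  if n = 8 then 17 else if n = 10 then 8 else if n = 12 then 4 else if n ≤ 22 then 3 else 2

/-- the check -/
def chk (n : ℕ) : Bool :=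
  (lD n ^ 3 * 4 ^ (5 * n) * n ^ 3 * (q0 n + 1) ^ (5 * n + 3) < ((q0 n ^ 2 - 1) ^ sD n) ^ 3 * (q0 n ^ 0) ^ 3) &&
  (lD n ^ 3 * n ^ 3 * (q0 n + 1) ^ (8 * (n - 1) + 3) < ((q0 n ^ 2 - 1) ^ sD n) ^ 3 * (q0 n ^ 0) ^ 3) &&
  (8 * (n - 1) + 3 ≤ 6 * sD n + 3 * 0) && (5 * n + 3 ≤ 6 * sD n + 3 * 0)

theorem chk_all : ∀ n ∈ List.range 48, n < 8 ∨ n % 2 = 1 ∨ chk n = true := by
  decide +kernel

theorem gen {n : ℕ} (hn : 48 ≤ n) (hev : n % 2 = 0) :
    lD n ^ 3 * 4 ^ (5 * n) * n ^ 3 * (2 + 1) ^ (8 * n + 3) < ((2 ^ 2 - 1) ^ sD n) ^ 3 * (2 ^ 0) ^ 3 := by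
  have hl := lD_le n
  have hs := sD_bound (show 2 ≤ n by omega)
  generalize lD n = L at *
  generalize sD n = s at *
  set K := 3 * (n - 1 - n / 2) + 3 with hK
  have hK2 : 2 * K = 3 * n := by omega
  have h1 : L ^ 3 * n ^ 3 ≤ n ^ K := by
    calc L ^ 3 * n ^ 3 ≤ (n ^ (n - 1 - n / 2)) ^ 3 * n ^ 3 := Nat.mul_le_mul_right _ (Nat.pow_le_pow_left hl 3)
      _ = n ^ K := by rw [← pow_mul, ← pow_add, hK]; congr 1; ring
  have h2 : (L ^ 3 * n ^ 3) ^ 8 ≤ 3 ^ (n * K) := by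
    calc (L ^ 3 * n ^ 3) ^ 8 ≤ (n ^ K) ^ 8 := Nat.pow_le_pow_left h1 8
      _ = (n ^ 8) ^ K := by rw [← pow_mul, ← pow_mul, mul_comm]
      _ ≤ (3 ^ n) ^ K := Nat.pow_le_pow_left (pow8 hn) K
      _ = _ := by rw [← pow_mul]
  have h3 : 4 ^ (5 * n) ≤ 3 ^ (7 * n) := by
    rw [pow_mul, pow_mul]
    exact Nat.pow_le_pow_left (by norm_num) n
  have h4 : n * K + 120 * n + 24 < 24 * s := by
    have h5 : 2 * (n * K) = n * (3 * n) := by
      calc 2 * (n * K) = n * (2 * K) := by ring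
        _ = _ := by rw [hK2]
    nlinarith only [hn, hs, h5]
  have e : ((2 ^ 2 - 1) ^ s) ^ 3 * (2 ^ 0) ^ 3 = 3 ^ (3 * s) := by
    rw [pow_zero, one_pow, mul_one, ← pow_mul, mul_comm s 3, show (2 : ℕ) ^ 2 - 1 = 3 from rfl]
  rw [e]
  refine lt_of_pow_lt_pow_left₀ 8 (Nat.zero_le _) ?_
  calc (L ^ 3 * 4 ^ (5 * n) * n ^ 3 * (2 + 1) ^ (8 * n + 3)) ^ 8
      = (L ^ 3 * n ^ 3) ^ 8 * (4 ^ (5 * n)) ^ 8 * (3 ^ (8 * n + 3)) ^ 8 := by
        rw [show (2 + 1 : ℕ) = 3 from rfl]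
        simp only [mul_pow]
        ring
    _ ≤ 3 ^ (n * K) * (3 ^ (7 * n)) ^ 8 * (3 ^ (8 * n + 3)) ^ 8 :=
        Nat.mul_le_mul_right _ (Nat.mul_le_mul h2 (Nat.pow_le_pow_left h3 8))
    _ = 3 ^ (n * K + 120 * n + 24) := by
        rw [← pow_mul, ← pow_mul, ← pow_add, ← pow_add]
        congr 1
        ring
    _ < 3 ^ (24 * s) := Nat.pow_lt_pow_right (by norm_num) h4
    _ = (3 ^ (3 * s)) ^ 8 := by rw [← pow_mul]; congr 1; ring

/-- **The inequalities.** -/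
theorem ineq {n q : ℕ} (hn : 8 ≤ n) (hev : n % 2 = 0) (hq : q0 n ≤ q) :
    lD n ^ 3 * 4 ^ (5 * n) * n ^ 3 * (q + 1) ^ (5 * n + 3) < ((q ^ 2 - 1) ^ sD n) ^ 3 ∧
    lD n ^ 3 * n ^ 3 * (q + 1) ^ (8 * (n - 1) + 3) < ((q ^ 2 - 1) ^ sD n) ^ 3 := by
  have hq02 : 2 ≤ q0 n := by
    rw [q0]
    split_ifs <;> norm_num
  have hone : ∀ x : ℕ, ((x ^ 2 - 1) ^ sD n) ^ 3 * (x ^ 0) ^ 3 = ((x ^ 2 - 1) ^ sD n) ^ 3 := fun x => by
    rw [pow_zero, one_pow, mul_one]
  rw [← hone q]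
  rcases Nat.lt_or_ge n 48 with h | h
  · rcases chk_all n (List.mem_range.2 h) with h1 | h1 | h1
    · omega
    · omega
    · simp only [chk, Bool.and_eq_true, decide_eq_true_eq] at h1
      obtain ⟨⟨⟨h2, h3⟩, h4⟩, h5⟩ := h1
      exact ⟨mono hq02 hq h5 h2, mono hq02 hq h4 h3⟩
  · have hs := sD_bound (show 2 ≤ n by omega)
    have hE : 8 * n + 3 ≤ 6 * sD n + 3 * 0 := by nlinarith only [h, hs]
    have h3 := mono (le_refl 2) (hq02.trans hq) hE (gen h hev)
    constructor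
    · refine lt_of_le_of_lt ?_ h3
      apply Nat.mul_le_mul_left
      exact Nat.pow_le_pow_right (by omega) (by omega)
    · refine lt_of_le_of_lt ?_ h3
      calc lD n ^ 3 * n ^ 3 * (q + 1) ^ (8 * (n - 1) + 3) ≤ lD n ^ 3 * n ^ 3 * (q + 1) ^ (8 * n + 3) := by
            apply Nat.mul_le_mul_left
            exact Nat.pow_le_pow_right (by omega) (by omega)
        _ ≤ _ := by
            apply Nat.mul_le_mul_right
            apply Nat.mul_le_mul_right
            exact Nat.le_mul_of_pos_right _ (pow_pos (by norm_num) _)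

end Cfsg.Agent.H364.DIneq
end

-- part: H364/DCross
section
/-!
# `D_n`, `n ≥ 8` even: no simple groups of Lie type in cross characteristic, the estimate (helper364)
-/

set_option autoImplicit false

namespace Cfsg.Agent.H364.DCross

open Finset Cfsg.Agent.H902.Lte Cfsg.Agent.H902.Art Cfsg.Agent.H364.SpVal Cfsg.Agent.H364.SpPrim
  Cfsg.Agent.H364.SpCross Cfsg.Agent.H364.SpSmall Cfsg.Agent.H364.DIneq

/-- what is known about `|S|` and the index -/
def FrD (n q I MS : ℕ) : Prop :=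
  ∀ t : ℕ, t ∣ AA (n - 1) q → (∀ r : ℕ, r.Prime → r ∣ t → n / 2 < orderOf ((q ^ 2 : ℕ) : ZMod r)) → t ∣ I * MS

/-- everything known about `S` -/
structure CrD (n p f M : ℕ) (X : Sh) (v g MS I : ℕ) : Prop where
  hY : Real (.D n) p f M
  hX : Real X v g MS
  hX2 : X ≠ .L 2
  hvp : v ≠ p
  hMS : MS ∣ M
  hI : I ≤ dd X (v ^ g) * NN X * g
  hI0 : 0 < I
  hI' : I ∣ 24 * dd X (v ^ g) * g
  hd : FrD n (p ^ f) I MS

theorem num_D_mul {n q : ℕ} (hn : 1 ≤ n) (hq : 1 ≤ q) : num (.D n) q * (q ^ n + 1) = AA n q := by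
  obtain ⟨m, rfl⟩ := Nat.exists_eq_add_of_le' hn
  have h1 : num (.D (m + 1)) q = (q ^ (m + 1) - 1) * AA m q := rfl
  have h2 : AA (m + 1) q = AA m q * (q ^ (2 * (m + 1)) - 1) := by
    rw [AA, AA, Finset.prod_range_succ]
  obtain ⟨a, ha⟩ := Nat.exists_eq_add_of_le' (Nat.one_le_pow (m + 1) q hq)
  have h3 : q ^ (2 * (m + 1)) - 1 = (q ^ (m + 1) - 1) * (q ^ (m + 1) + 1) := by
    rw [two_mul, pow_add, ha]
    have : (a + 1) * (a + 1) = a * (a + 1 + 1) + 1 := by ring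
    rw [this]
    simp only [_root_.add_tsub_cancel_right]
  rw [h1, h2, h3]
  ring

theorem AA_dvd_num {n q : ℕ} : AA (n - 1) q ∣ num (.D n) q := Dvd.intro_left _ rfl

variable {n p f M : ℕ}

theorem P_le_AA (hY : Real (.D n) p f M) {v : ℕ} (hv : v.Prime) (hvp : v ≠ p) : P v M ≤ P v (AA n (p ^ f)) := by
  have hq := hY.q_ge
  have hn : 4 ≤ n := hY.ok
  refine (hY.P_other_le hv hvp).trans ?_
  apply P_mono hv (AA_ne hq)
  rw [← num_D_mul (n := n) (by omega) (by omega)]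
  exact Dvd.intro _ rfl

theorem tD_dvd_AA {n q : ℕ} (hq : 1 ≤ q) : tD n (q ^ 2) ∣ AA (n - 1) q := by
  have h := tD_dvd (n := n) (Q := q ^ 2) (Nat.one_le_pow _ _ hq)
  have e : ∏ i ∈ range (n - 1), ((q ^ 2) ^ (i + 1) - 1) = AA (n - 1) q := by
    rw [AA]
    apply Finset.prod_congr rfl
    intro i _
    rw [← pow_mul]
  rwa [e] at h

theorem FrD.gen {n q I MS : ℕ} (h : FrD n q I MS) (hq : 2 ≤ q) (hn : 4 ≤ n) : tD n (q ^ 2) ∣ I * MS := by
  refine h _ (tD_dvd_AA (by omega)) fun r hr hd => ?_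
  exact (order_of_dvd_tD hn (by nlinarith) hr hd).1

/-- **No simple group of Lie type in cross characteristic**, the general case. -/
theorem cross_gen (hn : 8 ≤ n) (hev : n % 2 = 0) {X : Sh} {v g MS I : ℕ} (hc : CrD n p f M X v g MS I)
    (hq : q0 n ≤ p ^ f) : False := by
  obtain ⟨hY, hX, hX2, hvp, hMS, hI, hI0, -, hfr⟩ := hc
  have hv := hX.hp
  have hq2 := hY.q_ge
  have hvq := hY.not_dvd_q hv hvp
  have hd := hfr.gen hq2 (by omega)
  obtain ⟨i1, i2⟩ := ineq hn hev hq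
  have h2 : P v M ≤ P v (AA n (p ^ f)) := P_le_AA hY hv hvp
  set q := p ^ f with hqdef
  have hQ : 2 ≤ q ^ 2 := by nlinarith only [hq2]
  have h1 := pow_le_P hX hY hMS
  have hlb := tD_ge (n := n) hQ
  have hlam := lD_pos n
  set N := g * NN X with hN
  -- the common end
  have fin : ∀ B : ℕ, (tD n (q ^ 2)) ^ 3 ≤ B →
      lD n ^ 3 * B < ((q ^ 2 - 1) ^ sD n) ^ 3 → False := by
    intro B hB h3
    have h4 : ((q ^ 2 - 1) ^ sD n) ^ 3 ≤ lD n ^ 3 * (tD n (q ^ 2)) ^ 3 := by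
      calc ((q ^ 2 - 1) ^ sD n) ^ 3 ≤ (tD n (q ^ 2) * lD n) ^ 3 := Nat.pow_le_pow_left hlb 3
        _ = _ := by rw [mul_pow, mul_comm]
    have h5 := Nat.mul_le_mul_left (lD n ^ 3) hB
    omega
  have h34 : 3 ≤ q ∨ (2 ≤ q ∧ 3 ≤ v) := by
    by_cases hv2 : v = 2
    · left
      subst hv2
      by_contra hcon
      have : q = 2 := by omega
      rw [this] at hvq
      exact hvq (dvd_refl 2)
    · right
      have := hv.two_le
      exact ⟨hq2, by omega⟩
  have hNle : N ≤ n * (q + 1) := exp_le hv.two_le h34 ((h1.trans h2).trans (P_le_gen hv hq2 hvq (by omega)))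
  by_cases hvt : v ∣ tD n (q ^ 2)
  · -- `v` is one of the primitive primes
    obtain ⟨ho1, ho2⟩ := order_of_dvd_tD (by omega) hQ hv hvt
    have hv2 : v ≠ 2 := by
      intro h
      subst h
      have h3 : orderOf ((q ^ 2 : ℕ) : ZMod 2) ≤ 1 := by
        have hodd : ¬ 2 ∣ q ^ 2 := fun h => hvq (Nat.prime_two.dvd_of_dvd_pow h)
        have h4 : ((q ^ 2 : ℕ) : ZMod 2) = 1 := by
          rw [← Nat.cast_one, ZMod.natCast_eq_natCast_iff]
          show q ^ 2 % 2 = 1 % 2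
          omega
        rw [h4, orderOf_one]
      omega
    have h3 := P_le_of_order hv hv2 hq2 hvq ho1
    have h4 : v ^ N ≤ (q + 1) ^ (n - 1) := by
      have h5 : q ^ orderOf ((q ^ 2 : ℕ) : ZMod v) + 1 ≤ q ^ (n - 1) + 1 := by
        have := Nat.pow_le_pow_right (show 0 < q by omega) ho2
        omega
      have h6 : q ^ (n - 1) + 1 ≤ (q + 1) ^ (n - 1) := by
        have h7 : ∀ e : ℕ, 1 ≤ e → q ^ e + 1 ≤ (q + 1) ^ e := by
          intro e he
          induction e, he using Nat.le_induction with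
          | base => simp
          | succ k hk ih =>
            rw [pow_succ, pow_succ]
            have h6 : 1 ≤ q ^ k := Nat.one_le_pow _ _ (by omega)
            nlinarith only [ih, h6]
        exact h7 (n - 1) (by omega)
      exact (h1.trans h2).trans (h3.trans (h5.trans h6))
    apply fin _ (cube_all hX hX2 hI hI0 hd)
    refine lt_of_le_of_lt ?_ i2
    calc lD n ^ 3 * ((v ^ N) ^ 8 * N ^ 3) ≤ lD n ^ 3 * (((q + 1) ^ (n - 1)) ^ 8 * (n * (q + 1)) ^ 3) := by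
          apply Nat.mul_le_mul_left
          exact Nat.mul_le_mul (Nat.pow_le_pow_left h4 8) (Nat.pow_le_pow_left hNle 3)
      _ = _ := by
          rw [← pow_mul, mul_pow n, show 8 * (n - 1) + 3 = (n - 1) * 8 + 3 by ring, pow_add]
          ring
  · have hcop : Nat.Coprime (tD n (q ^ 2)) v :=
      (Nat.Coprime.symm ((Nat.Prime.coprime_iff_not_dvd hv).2 hvt))
    have h4 : v ^ N ≤ (4 * (q + 1)) ^ n := (h1.trans h2).trans (P_le_gen hv hq2 hvq (by omega))
    apply fin _ (cube_num hX hX2 hI hI0 hcop hd)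
    refine lt_of_le_of_lt ?_ i1
    calc lD n ^ 3 * ((v ^ N) ^ 5 * N ^ 3) ≤ lD n ^ 3 * (((4 * (q + 1)) ^ n) ^ 5 * (n * (q + 1)) ^ 3) := by
          apply Nat.mul_le_mul_left
          exact Nat.mul_le_mul (Nat.pow_le_pow_left h4 5) (Nat.pow_le_pow_left hNle 3)
      _ = _ := by
          rw [← pow_mul, mul_pow n, mul_pow 4, show 5 * n + 3 = n * 5 + 3 by ring, show 5 * n = n * 5 by ring, pow_add]
          ring

end Cfsg.Agent.H364.DCross
end

private theorem dce_e37c984369cf : _root_.True := by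
  try have : _root_.True := by simp only [_root_.Cfsg.Agent.H364.DIneq.sD.eq_1]
  try have : _root_.True := by simp only [_root_.Cfsg.Agent.H364.DIneq.lD.eq_1]
  try have : _root_.True := by simp only [_root_.Cfsg.Agent.H364.DIneq.tD.eq_1]
  try have : _root_.True := by simp only [_root_.Cfsg.Agent.H364.DIneq.q0.eq_1]
  try have : _root_.True := by simp only [_root_.Cfsg.Agent.H364.DIneq.chk.eq_1]
  exact _root_.True.intro
end

-- part: H364/SpSix
section
set_option linter.all false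
open scoped Cfsg.Agent.FastGrp

-- part: H364/SpEnum
section
/-!
# Simple groups of Lie type in cross characteristic: enumerations (helper364)
-/

set_option autoImplicit false

namespace Cfsg.Agent.H364.SpEnum

open Finset Cfsg.Agent.H902.Lte Cfsg.Agent.H902.Art Cfsg.Agent.H364.SpVal Cfsg.Agent.H364.SpIneq Cfsg.Agent.H364.SpPrim
  Cfsg.Agent.H364.SpTot Cfsg.Agent.H364.SpCross Cfsg.Agent.H364.SpSmall

/-- the order -/
def cardC (n q : ℕ) : ℕ := q ^ (n ^ 2) * AA n q / Nat.gcd 2 (q - 1)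

theorem M_eq {n p f q M : ℕ} (hY : Real (.C n) p f M) (hq : p ^ f = q) : M = cardC n q := by
  subst hq
  have h1 := hY.eq
  have h2 : num (.C n) (p ^ f) = AA n (p ^ f) := rfl
  have h3 : dd (.C n) (p ^ f) = Nat.gcd 2 (p ^ f - 1) := rfl
  have h4 : NN (.C n) = n ^ 2 := rfl
  rw [h2, h3, h4] at h1
  rw [cardC, ← h1]
  exact (Nat.mul_div_cancel_left _ (Nat.gcd_pos_of_pos_left _ (by norm_num))).symm

/-- the enumeration -/
def en (n q D v a : ℕ) : Bool :=
  (cardC n q % v ^ (a + 1) != 0) && (List.range (a + 1)).all fun N => (ents v N).all fun x =>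
    decide (x.1 = .L 2) || (cardC n q % _root_.Cfsg.Agent.H902.Art.val v x != 0) || ((24 * dd x.1 (v ^ x.2) * x.2 * _root_.Cfsg.Agent.H902.Art.val v x) % D != 0)

theorem en_0 : en 5 2 (2 ^ cn 5 * te 5 2) 3 6 = true := by
  delta en
  rw [Cfsg.Agent.H902.EntsFast.ents_eq, Cfsg.Agent.H902.EntsFast.val_eqF]
  decide +kernel

theorem en_1 : en 5 3 (3 ^ cn 5 * te 5 3) 2 17 = true := by
  delta en
  rw [Cfsg.Agent.H902.EntsFast.ents_eq, Cfsg.Agent.H902.EntsFast.val_eqF]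
  decide +kernel

theorem en_2 : en 10 2 (2 ^ cn 10 * te 10 2) 3 14 = true := by
  delta en
  rw [Cfsg.Agent.H902.EntsFast.ents_eq, Cfsg.Agent.H902.EntsFast.val_eqF]
  decide +kernel

private noncomputable def _root_.Cfsg.Agent.KOc06e440.k0 : type_of% @Bool.and := @(fun x0 x1 => @Bool.rec.{1} @(fun x2 => @Bool) @Bool.false @x1 @x0)
private theorem _root_.Cfsg.Agent.KOc06e440.e0 : @Bool.and = @_root_.Cfsg.Agent.KOc06e440.k0 := by delta _root_.Cfsg.Agent.KOc06e440.k0; rfl'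
private noncomputable def _root_.Cfsg.Agent.KOc06e440.k1.{ku0} : type_of% @bne.{ku0} := @(fun x0 x1 x2 x3 => @Bool.rec.{1} @(fun x4 => @Bool) @Bool.true @Bool.false (@BEq.beq.{ku0} _ @x1 @x2 @x3))
private theorem _root_.Cfsg.Agent.KOc06e440.e1.{ku0} : @bne.{ku0} = @_root_.Cfsg.Agent.KOc06e440.k1.{ku0} := by delta _root_.Cfsg.Agent.KOc06e440.k1; rfl'
private noncomputable def _root_.Cfsg.Agent.KOc06e440.k2 : type_of% @Nat.decEq := @(fun x0 x1 => @Bool.rec.{1} @(fun x2 => (@Eq.{1} _ (@Nat.beq @x0 @x1) @x2) → @Decidable (@Eq.{1} _ @x0 @x1)) @(fun x2 => @Decidable.isFalse _ (@Nat.ne_of_beq_eq_false _ _ @x2)) @(fun x2 => @Decidable.isTrue _ (@Nat.eq_of_beq_eq_true _ _ @x2)) (@Nat.beq @x0 @x1) (@Eq.refl.{1} _ (@Nat.beq @x0 @x1)))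
private theorem _root_.Cfsg.Agent.KOc06e440.e2 : @Nat.decEq = @_root_.Cfsg.Agent.KOc06e440.k2 := by delta _root_.Cfsg.Agent.KOc06e440.k2; rfl'
private noncomputable def _root_.Cfsg.Agent.KOc06e440.k3 : type_of% @instDecidableEqNat := @Cfsg.Agent.KOc06e440.k2
private theorem _root_.Cfsg.Agent.KOc06e440.e3 : @instDecidableEqNat = @_root_.Cfsg.Agent.KOc06e440.k3 := by delta _root_.Cfsg.Agent.KOc06e440.k3; rewrite [← Cfsg.Agent.KOc06e440.e2]; rfl'
private theorem _root_.Cfsg.Agent.KOc06e440.e4.{ku, kv} {α : Type kv} {M : List α → Sort ku} (φ : ∀ l, M l) {z : M List.nil} {s : ∀ a l, M l → M (List.cons a l)} (h0 : φ List.nil = z) (hs : ∀ a l, φ (List.cons a l) = s a l (φ l)) (l : List α) : φ l = @List.rec α M z s l := List.rec h0 (fun a l ih => (hs a l).trans (congrArg (s a l) ih)) l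
private noncomputable def _root_.Cfsg.Agent.KOc06e440.k6.{ku0, ku1} : type_of% @Multiset.foldr.{ku0, ku1} := @(fun x0 x1 x2 x3 x4 x5 => @Quot.lift.{(ku1+1), (ku0+1)} _ _ _ @(fun x6 => @List.foldr.{ku1, ku0} _ _ @x2 @x4 @x6) @(fun x6 x7 x8 => @List.Perm.foldr_eq.{ku1, ku0} _ _ _ _ _ _ @x8 @x4) @x5)
private theorem _root_.Cfsg.Agent.KOc06e440.e6.{ku0, ku1} : @Multiset.foldr.{ku0, ku1} = @_root_.Cfsg.Agent.KOc06e440.k6.{ku0, ku1} := by delta _root_.Cfsg.Agent.KOc06e440.k6; rfl'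
private noncomputable def _root_.Cfsg.Agent.KOc06e440.k7.{ku0} : type_of% @Multiset.prod.{ku0} := @(fun x0 x1 => @Cfsg.Agent.KOc06e440.k6.{ku0, ku0} _ _ @(fun x2 x3 => @Mul.mul.{ku0} _ (@Semigroup.toMul.{ku0} _ (@Monoid.toSemigroup.{ku0} _ (@CommMonoid.toMonoid.{ku0} _ @x1))) @x2 @x3) (@Multiset.prod._proof_1.{ku0} _ _) (@One.one.{ku0} _ (@Monoid.toOne.{ku0} _ (@CommMonoid.toMonoid.{ku0} _ @x1))))
private theorem _root_.Cfsg.Agent.KOc06e440.e7.{ku0} : @Multiset.prod.{ku0} = @_root_.Cfsg.Agent.KOc06e440.k7.{ku0} := by delta _root_.Cfsg.Agent.KOc06e440.k7; rewrite [← Cfsg.Agent.KOc06e440.e6.{ku0, ku0}]; rfl'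
private noncomputable def _root_.Cfsg.Agent.KOc06e440.k8.{ku0, ku1} : type_of% @List.map.{ku0, ku1} := @(fun x0 x1 x2 x3 => @List.rec.{(ku1+1), ku0} @x0 @(fun x4 => @List.{ku1} @x1) [] @(fun x4 x5 x6 => (@x2 @x4) :: @x6) @x3)
private theorem _root_.Cfsg.Agent.KOc06e440.e8.{ku0, ku1} : @List.map.{ku0, ku1} = @_root_.Cfsg.Agent.KOc06e440.k8.{ku0, ku1} := by delta _root_.Cfsg.Agent.KOc06e440.k8; funext a0 a1 a2 a3; refine (_root_.Cfsg.Agent.KOc06e440.e4 (fun a3 => @List.map.{ku0, ku1} a0 a1 a2 a3) ?_ (fun c0 c1 => ?_) a3 :) <;> (rfl')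
private theorem _root_.Cfsg.Agent.KOc06e440.e9.{ku} {M : Nat → Sort ku} (φ : ∀ n, M n) {z : M Nat.zero} {s : ∀ n, M n → M (Nat.succ n)} (h0 : φ Nat.zero = z) (hs : ∀ n, φ (Nat.succ n) = s n (φ n)) (n : Nat) : φ n = @Nat.rec M z s n := Nat.rec h0 (fun n ih => (hs n).trans (congrArg (s n) ih)) n
private noncomputable def _root_.Cfsg.Agent.KOc06e440.k10 : type_of% @List.range.loop := @(fun x0 x1 => @Nat.rec.{1} @(fun x2 => (@List.{0} ℕ) → @List.{0} ℕ) @(fun x2 => @x2) @(fun x2 x3 x4 => @x3 (@x2 :: @x4)) @x0 @x1)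
private theorem _root_.Cfsg.Agent.KOc06e440.e10 : @List.range.loop = @_root_.Cfsg.Agent.KOc06e440.k10 := by delta _root_.Cfsg.Agent.KOc06e440.k10; funext a0 a1; refine (congrFun (_root_.Cfsg.Agent.KOc06e440.e9 (fun a0 a1 => @List.range.loop a0 a1) ?_ (fun c0 => ?_) a0) a1 :) <;> (rfl')
private noncomputable def _root_.Cfsg.Agent.KOc06e440.k11 : (by first | exact type_of% @Cfsg.Agent.H364.SpVal.AA | exact Unit : Sort _) := by first | (refine @Subtype.val _ (fun g => @Cfsg.Agent.H364.SpVal.AA = @g) (@Subtype.mk _ _ (@(fun x0 x1 => @Cfsg.Agent.KOc06e440.k7.{0} _ @Nat.instCommMonoid (@Quot.lift.{1, 1} _ _ _ @(fun x2 => @Quot.mk.{1} _ (@Setoid.r.{1} _ _) (@List.map.{0, 0} _ _ @(fun x3 => @Nat.sub (@Nat.pow @x1 (@Nat.mul (nat_lit 2) (@Nat.add @x3 (nat_lit 1)))) (nat_lit 1)) @x2)) (@Multiset.map._proof_1.{0, 0} _ _ @(fun x2 => @HSub.hSub.{0, 0, 0} _ _ _ _ (@HPow.hPow.{0, 0, 0} _ _ _ _ @x1 (@HMul.hMul.{0, 0, 0} _ _ _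 _ ((2 : ℕ)) (@HAdd.hAdd.{0, 0, 0} _ _ _ _ @x2 ((1 : ℕ))))) ((1 : ℕ)))) (@Quot.mk.{1} _ (@Setoid.r.{1} _ _) (@Cfsg.Agent.KOc06e440.k10 @x0 []))))) ?_); rewrite [← Cfsg.Agent.KOc06e440.e10, ← Cfsg.Agent.KOc06e440.e7.{0}]; rfl') | exact @Cfsg.Agent.H364.SpVal.AA | exact ()
private theorem _root_.Cfsg.Agent.KOc06e440.e11 : (by first | exact @Cfsg.Agent.H364.SpVal.AA = @_root_.Cfsg.Agent.KOc06e440.k11 | exact True : Prop) := by first | (delta _root_.Cfsg.Agent.KOc06e440.k11; exact @Subtype.property _ (fun g => @Cfsg.Agent.H364.SpVal.AA = @g) _) | rfl | trivial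
private noncomputable def _root_.Cfsg.Agent.KOc06e440.k12 : (by first | exact type_of% @Cfsg.Agent.H364.SpEnum.cardC | exact Unit : Sort _) := by first | (refine @Subtype.val _ (fun g => @Cfsg.Agent.H364.SpEnum.cardC = @g) (@Subtype.mk _ _ (@(fun x0 x1 => @Nat.div (@Nat.mul (@Nat.pow @x1 (@Nat.pow @x0 (nat_lit 2))) (@Cfsg.Agent.KOc06e440.k11 @x0 @x1)) (@Nat.gcd (nat_lit 2) (@Nat.sub @x1 (nat_lit 1))))) ?_); rewrite [← Cfsg.Agent.KOc06e440.e11]; (try delta Cfsg.Agent.H364.SpEnum.cardC); (try generalize @Cfsg.Agent.H364.SpVal.AA = g0); rfl') | exact @Cfsg.Agent.H364.SpEnum.cardC | exact ()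
private theorem _root_.Cfsg.Agent.KOc06e440.e12 : (by first | exact @Cfsg.Agent.H364.SpEnum.cardC = @_root_.Cfsg.Agent.KOc06e440.k12 | exact True : Prop) := by first | (delta _root_.Cfsg.Agent.KOc06e440.k12; exact @Subtype.property _ (fun g => @Cfsg.Agent.H364.SpEnum.cardC = @g) _) | rfl | trivial
private noncomputable def _root_.Cfsg.Agent.KOc06e440.k13.{ku0} : type_of% @List.all.{ku0} := @(fun x0 x1 x2 => @List.rec.{(ku0+1), ku0} @x0 @(fun x3 => (@x0 → @Bool) → @Bool) @(fun x3 => @Bool.true) @(fun x3 x4 x5 x6 => @Bool.rec.{1} @(fun x7 => @Bool) @Bool.false (@x5 @x6) (@x6 @x3)) @x1 @x2)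
private theorem _root_.Cfsg.Agent.KOc06e440.e13.{ku0} : @List.all.{ku0} = @_root_.Cfsg.Agent.KOc06e440.k13.{ku0} := by delta _root_.Cfsg.Agent.KOc06e440.k13; funext a0 a1 a2; refine (congrFun (_root_.Cfsg.Agent.KOc06e440.e4 (fun a1 a2 => @List.all.{ku0} a0 a1 a2) ?_ (fun c0 c1 => ?_) a1) a2 :) <;> (rfl')
private noncomputable def _root_.Cfsg.Agent.KOc06e440.k14 : type_of% @List.range := @(fun x0 => @Cfsg.Agent.KOc06e440.k10 @x0 [])
private theorem _root_.Cfsg.Agent.KOc06e440.e14 : @List.range = @_root_.Cfsg.Agent.KOc06e440.k14 := by delta _root_.Cfsg.Agent.KOc06e440.k14; rewrite [← Cfsg.Agent.KOc06e440.e10]; rfl'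
private noncomputable def _root_.Cfsg.Agent.KOc06e440.k15.{ku0} : type_of% @List.append.{ku0} := @(fun x0 x1 x2 => @List.rec.{(ku0+1), ku0} @x0 @(fun x3 => (@List.{ku0} @x0) → @List.{ku0} @x0) @(fun x3 => @x3) @(fun x3 x4 x5 x6 => @x3 :: (@x5 @x6)) @x1 @x2)
private theorem _root_.Cfsg.Agent.KOc06e440.e15.{ku0} : @List.append.{ku0} = @_root_.Cfsg.Agent.KOc06e440.k15.{ku0} := by delta _root_.Cfsg.Agent.KOc06e440.k15; funext a0 a1 a2; refine (congrFun (_root_.Cfsg.Agent.KOc06e440.e4 (fun a1 a2 => @List.append.{ku0} a0 a1 a2) ?_ (fun c0 c1 => ?_) a1) a2 :) <;> (rfl')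
private noncomputable def _root_.Cfsg.Agent.KOc06e440.k16.{ku0} : type_of% @List.flatten.{ku0} := @(fun x0 x1 => @List.rec.{(ku0+1), ku0} (@List.{ku0} @x0) @(fun x2 => @List.{ku0} @x0) [] @(fun x2 x3 x4 => @Cfsg.Agent.KOc06e440.k15.{ku0} _ @x2 @x4) @x1)
private theorem _root_.Cfsg.Agent.KOc06e440.e16.{ku0} : @List.flatten.{ku0} = @_root_.Cfsg.Agent.KOc06e440.k16.{ku0} := by delta _root_.Cfsg.Agent.KOc06e440.k16; rewrite [← Cfsg.Agent.KOc06e440.e15.{ku0}]; funext a0 a1; refine (_root_.Cfsg.Agent.KOc06e440.e4 (fun a1 => @List.flatten.{ku0} a0 a1) ?_ (fun c0 c1 => ?_) a1 :) <;> (rfl')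
private noncomputable def _root_.Cfsg.Agent.KOc06e440.k17 : (by first | exact type_of% @Cfsg.Agent.H902.Art.NN | exact Unit : Sort _) := by first | (refine @Subtype.val _ (fun g => @Cfsg.Agent.H902.Art.NN = @g) (@Subtype.mk _ _ (@(fun x0 => @Cfsg.Agent.H902.Art.Sh.rec.{1} @(fun x1 => ℕ) @(fun x1 => @Nat.div (@Nat.mul @x1 (@Nat.sub @x1 (nat_lit 1))) (nat_lit 2)) @(fun x1 => @Nat.pow @x1 (nat_lit 2)) @(fun x1 => @Nat.div (@Nat.mul @x1 (@Nat.sub @x1 (nat_lit 1))) (nat_lit 2)) @(fun x1 => @Nat.mul @x1 (@Nat.sub @x1 (nat_lit 1))) @(fun x1 => @Nat.mul @x1 (@Nat.sub @x1 (nat_lit 1))) (nat_lit 6) (nat_lit 24) (nat_lit 36) (nat_lit 63) (nat_lit 120) (nat_lit 36) (nat_lit 12) (nat_lit 2) (nat_lit 3) (nat_lit 12) @x0)) ?_); rfl') | exact @Cfsg.Agent.H902.Art.NN | exact ()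
private theorem _root_.Cfsg.Agent.KOc06e440.e17 : (by first | exact @Cfsg.Agent.H902.Art.NN = @_root_.Cfsg.Agent.KOc06e440.k17 | exact True : Prop) := by first | (delta _root_.Cfsg.Agent.KOc06e440.k17; exact @Subtype.property _ (fun g => @Cfsg.Agent.H902.Art.NN = @g) _) | rfl | trivial
private noncomputable def _root_.Cfsg.Agent.KOc06e440.k18 : (by first | exact type_of% @Cfsg.Agent.H902.Art.shapes | exact Unit : Sort _) := by first | (refine @Subtype.val _ (fun g => @Cfsg.Agent.H902.Art.shapes = @g) (@Subtype.mk _ _ (@(fun x0 => @Cfsg.Agent.KOc06e440.k15.{0} _ (@Cfsg.Agent.KOc06e440.k15.{0} _ (@Cfsg.Agent.KOc06e440.k15.{0} _ (@Cfsg.Agent.KOc06e440.k15.{0} _ (@Cfsg.Agent.KOc06e440.k15.{0} _ (@Cfsg.Agent.KOc06e440.k8.{0, 0} _ _ @Cfsg.Agent.H902.Art.Sh.L (@Cfsg.Agent.KOc06e440.k10 (@Nat.add @x0 (nat_lit 2)) [])) (@Cfsg.Agent.KOc06e440.k8.{0, 0} _ _ @Cfsg.Agent.H902.Art.Sh.C (@Cfsg.Agent.KOc06e440.k10 (@Nat.add @x0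 (nat_lit 1)) []))) (@Cfsg.Agent.KOc06e440.k8.{0, 0} _ _ @Cfsg.Agent.H902.Art.Sh.U (@Cfsg.Agent.KOc06e440.k10 (@Nat.add @x0 (nat_lit 2)) []))) (@Cfsg.Agent.KOc06e440.k8.{0, 0} _ _ @Cfsg.Agent.H902.Art.Sh.D (@Cfsg.Agent.KOc06e440.k10 (@Nat.add @x0 (nat_lit 1)) []))) (@Cfsg.Agent.KOc06e440.k8.{0, 0} _ _ @Cfsg.Agent.H902.Art.Sh.DD (@Cfsg.Agent.KOc06e440.k10 (@Nat.add @x0 (nat_lit 1)) []))) (@Cfsg.Agent.H902.Art.Sh.G2 :: (@Cfsg.Agent.H902.Art.Sh.F4 :: (@Cfsg.Agent.H902.Art.Sh.E6 :: (@Cfsg.Agent.H902.Art.Sh.E7 :: (@Cfsg.Agent.H902.Art.Sh.E8 :: (@Cfsg.Agent.H902.Art.Sh.TE6 :: (@Cfsg.Agent.H902.Art.Sh.TD4 :: (@Cfsg.Agent.H902.Art.Sh.Sz :: (@Cfsg.Agent.H902.Art.Sh.Ree :: (@Cfsg.Agent.H902.Art.Sh.TF4 :: [])))))))))))) ?_); rewrite [← Cfsg.Agent.KOc06e440.e10, ← Cfsg.Agent.KOc06e440.e8.{0, 0}, ← Cfsg.Agent.KOc06e440.e15.{0}]; rfl') | exact @Cfsg.Agent.H902.Art.shapes | exact ()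
private theorem _root_.Cfsg.Agent.KOc06e440.e18 : (by first | exact @Cfsg.Agent.H902.Art.shapes = @_root_.Cfsg.Agent.KOc06e440.k18 | exact True : Prop) := by first | (delta _root_.Cfsg.Agent.KOc06e440.k18; exact @Subtype.property _ (fun g => @Cfsg.Agent.H902.Art.shapes = @g) _) | rfl | trivial
private noncomputable def _root_.Cfsg.Agent.KOc06e440.k19 : (by first | exact type_of% @Cfsg.Agent.H902.EntsFast.entsF | exact Unit : Sort _) := by first | (refine @Subtype.val _ (fun g => @Cfsg.Agent.H902.EntsFast.entsF = @g) (@Subtype.mk _ _ (@(fun x0 x1 => @Cfsg.Agent.KOc06e440.k16.{0} _ (@Cfsg.Agent.KOc06e440.k8.{0, 0} _ _ @(fun x2 => @Bool.rec.{1} @(fun x3 => @List.{0} (@Cfsg.Agent.H902.Art.Sh × ℕ)) [] (((@x2, @Nat.div @x1 (@Cfsg.Agent.KOc06e440.k17 @x2))) :: []) (@Bool.rec.{1} @(fun x3 => @Bool) @Bool.false (@Decidable.rec.{1} _ @(fun x3 => @Bool) @(fun x3 => @Bool.false) @(fun x3 => @Bool.true) (@Cfsg.Agent.H902.Art.instDecidableOk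 @x2 @x0 (@Nat.div @x1 (@Cfsg.Agent.KOc06e440.k17 @x2)))) (@Nat.beq (@Nat.mod @x1 (@Cfsg.Agent.KOc06e440.k17 @x2)) (nat_lit 0)))) (@Cfsg.Agent.KOc06e440.k18 @x1)))) ?_); rewrite [← Cfsg.Agent.KOc06e440.e18, ← Cfsg.Agent.KOc06e440.e17, ← Cfsg.Agent.KOc06e440.e8.{0, 0}, ← Cfsg.Agent.KOc06e440.e16.{0}]; (try delta Cfsg.Agent.H902.EntsFast.entsF); (try generalize @Cfsg.Agent.H902.Art.NN = g0); (try generalize @Cfsg.Agent.H902.Art.shapes = g1); rfl') | exact @Cfsg.Agent.H902.EntsFast.entsF | exact ()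
private theorem _root_.Cfsg.Agent.KOc06e440.e19 : (by first | exact @Cfsg.Agent.H902.EntsFast.entsF = @_root_.Cfsg.Agent.KOc06e440.k19 | exact True : Prop) := by first | (delta _root_.Cfsg.Agent.KOc06e440.k19; exact @Subtype.property _ (fun g => @Cfsg.Agent.H902.EntsFast.entsF = @g) _) | rfl | trivial
private noncomputable def _root_.Cfsg.Agent.KOc06e440.k20 : type_of% @Bool.or := @(fun x0 x1 => @Bool.rec.{1} @(fun x2 => @Bool) @x1 @Bool.true @x0)
private theorem _root_.Cfsg.Agent.KOc06e440.e20 : @Bool.or = @_root_.Cfsg.Agent.KOc06e440.k20 := by delta _root_.Cfsg.Agent.KOc06e440.k20; rfl'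
private noncomputable def _root_.Cfsg.Agent.KOc06e440.k21 : type_of% @Decidable.decide := @(fun x0 x1 => @Decidable.rec.{1} _ @(fun x2 => @Bool) @(fun x2 => @Bool.false) @(fun x2 => @Bool.true) @x1)
private theorem _root_.Cfsg.Agent.KOc06e440.e21 : @Decidable.decide = @_root_.Cfsg.Agent.KOc06e440.k21 := by delta _root_.Cfsg.Agent.KOc06e440.k21; rfl'
private noncomputable def _root_.Cfsg.Agent.KOc06e440.k22 : (by first | exact type_of% @Cfsg.Agent.H902.EntsFast.numF | exact Unit : Sort _) := by first | (refine @Subtype.val _ (fun g => @Cfsg.Agent.H902.EntsFast.numF = @g) (@Subtype.mk _ _ (@(fun x0 x1 => @Cfsg.Agent.H902.Art.Sh.rec.{1} @(fun x2 => ((@Nat.hasNotBit (nat_lit 31) (@Cfsg.Agent.H902.Art.Sh.ctorIdx @x2)) → ℕ) → ℕ) @(fun x2 x3 => @Nat.rec.{1} @(fun x4 => ℕ) (nat_lit 1) @(fun x4 x5 => @Nat.mul @x5 (@Nat.sub (@Nat.pow @x1 (@Nat.add @x4 (nat_lit 2))) (nat_lit 1))) (@Nat.sub @x2 (nat_lit 1))) @(fun x2 x3 =>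 @Nat.rec.{1} @(fun x4 => ℕ) (nat_lit 1) @(fun x4 x5 => @Nat.mul @x5 (@Nat.sub (@Nat.pow @x1 (@Nat.mul (nat_lit 2) (@Nat.add @x4 (nat_lit 1)))) (nat_lit 1))) @x2) @(fun x2 x3 => @Nat.rec.{1} @(fun x4 => ℕ) (nat_lit 1) @(fun x4 x5 => @Nat.mul @x5 (@Bool.rec.{1} @(fun x6 => ℕ) (@Nat.add (@Nat.pow @x1 (@Nat.add @x4 (nat_lit 2))) (nat_lit 1)) (@Nat.sub (@Nat.pow @x1 (@Nat.add @x4 (nat_lit 2))) (nat_lit 1)) (@Nat.beq (@Nat.mod @x4 (nat_lit 2)) (nat_lit 0)))) (@Nat.sub @x2 (nat_lit 1))) @(fun x2 x3 => @Nat.mul (@Nat.sub (@Nat.pow @x1 @x2) (nat_lit 1)) (@Nat.rec.{1} @(fun x4 => ℕ) (nat_lit 1) @(fun x4 x5 => @Nat.mul @x5 (@Nat.sub (@Nat.pow @x1 (@Nat.mul (nat_lit 2) (@Nat.add @x4 (nat_lit 1)))) (nat_lit 1))) (@Nat.sub @x2 (nat_lit 1)))) @(fun x2 x3 => @Nat.mul (@Nat.add (@Nat.pow @x1 @x2) (nat_lit 1)) (@Nat.rec.{1} @(fun x4 => ℕ) (nat_lit 1) @(fun x4 x5 => @Nat.mul @x5 (@Nat.sub (@Nat.pow @x1 (@Nat.mul (nat_lit 2) (@Nat.add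 @x4 (nat_lit 1)))) (nat_lit 1))) (@Nat.sub @x2 (nat_lit 1)))) @(fun x2 => @x2 (@Nat.ne_of_beq_eq_false _ _ (@Eq.refl.{1} _ @Bool.false))) @(fun x2 => @x2 (@Nat.ne_of_beq_eq_false _ _ (@Eq.refl.{1} _ @Bool.false))) @(fun x2 => @x2 (@Nat.ne_of_beq_eq_false _ _ (@Eq.refl.{1} _ @Bool.false))) @(fun x2 => @x2 (@Nat.ne_of_beq_eq_false _ _ (@Eq.refl.{1} _ @Bool.false))) @(fun x2 => @x2 (@Nat.ne_of_beq_eq_false _ _ (@Eq.refl.{1} _ @Bool.false))) @(fun x2 => @x2 (@Nat.ne_of_beq_eq_false _ _ (@Eq.refl.{1} _ @Bool.false))) @(fun x2 => @x2 (@Nat.ne_of_beq_eq_false _ _ (@Eq.refl.{1} _ @Bool.false))) @(fun x2 => @x2 (@Nat.ne_of_beq_eq_false _ _ (@Eq.refl.{1} _ @Bool.false))) @(fun x2 => @x2 (@Nat.ne_of_beq_eq_false _ _ (@Eq.refl.{1} _ @Bool.false))) @(fun x2 => @x2 (@Nat.ne_of_beq_eq_false _ _ (@Eq.refl.{1} _ @Bool.false))) @x0 @(fun x2 => @Cfsg.Agent.H902.Art.num @x0 @x1))) ?_); (try delta Cfsg.Agent.H902.EntsFast.numF Cfsg.Agent.H902.EntsFast.prodF);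 (try generalize @Cfsg.Agent.H902.Art.Sh.ctorIdx = g0); (try generalize @Cfsg.Agent.H902.Art.num = g1); rfl') | exact @Cfsg.Agent.H902.EntsFast.numF | exact ()
private theorem _root_.Cfsg.Agent.KOc06e440.e22 : (by first | exact @Cfsg.Agent.H902.EntsFast.numF = @_root_.Cfsg.Agent.KOc06e440.k22 | exact True : Prop) := by first | (delta _root_.Cfsg.Agent.KOc06e440.k22; exact @Subtype.property _ (fun g => @Cfsg.Agent.H902.EntsFast.numF = @g) _) | rfl | trivial
private noncomputable def _root_.Cfsg.Agent.KOc06e440.k23 : (by first | exact type_of% @Cfsg.Agent.H902.Art.dd | exact Unit : Sort _) := by first | (refine @Subtype.val _ (fun g => @Cfsg.Agent.H902.Art.dd = @g) (@Subtype.mk _ _ (@(fun x0 x1 => @Cfsg.Agent.H902.Art.Sh.rec.{1} @(fun x2 => ((@Nat.hasNotBit (nat_lit 1439) (@Cfsg.Agent.H902.Art.Sh.ctorIdx @x2)) → ℕ) → ℕ) @(fun x2 x3 => @Nat.gcd @x2 (@Nat.sub @x1 (nat_lit 1))) @(fun x2 x3 => @Nat.gcd (nat_lit 2) (@Nat.sub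 @x1 (nat_lit 1))) @(fun x2 x3 => @Nat.gcd @x2 (@Nat.add @x1 (nat_lit 1))) @(fun x2 x3 => @Nat.gcd (nat_lit 4) (@Nat.sub (@Nat.pow @x1 @x2) (nat_lit 1))) @(fun x2 x3 => @Nat.gcd (nat_lit 4) (@Nat.add (@Nat.pow @x1 @x2) (nat_lit 1))) @(fun x2 => @x2 (@Nat.ne_of_beq_eq_false _ _ (@Eq.refl.{1} _ @Bool.false))) @(fun x2 => @x2 (@Nat.ne_of_beq_eq_false _ _ (@Eq.refl.{1} _ @Bool.false))) @(fun x2 => @Nat.gcd (nat_lit 3) (@Nat.sub @x1 (nat_lit 1))) @(fun x2 => @Nat.gcd (nat_lit 2) (@Nat.sub @x1 (nat_lit 1))) @(fun x2 => @x2 (@Nat.ne_of_beq_eq_false _ _ (@Eq.refl.{1} _ @Bool.false))) @(fun x2 => @Nat.gcd (nat_lit 3) (@Nat.add @x1 (nat_lit 1))) @(fun x2 => @x2 (@Nat.ne_of_beq_eq_false _ _ (@Eq.refl.{1} _ @Bool.false))) @(fun x2 => @x2 (@Nat.ne_of_beq_eq_false _ _ (@Eq.refl.{1} _ @Bool.false))) @(fun x2 => @x2 (@Nat.ne_of_beq_eq_false _ _ (@Eq.refl.{1} _ @Bool.false))) @(fun x2 => @x2 (@Nat.ne_of_beq_eq_false _ _ (@Eq.refl.{1}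 _ @Bool.false))) @x0 @(fun x2 => nat_lit 1))) ?_); (try delta Cfsg.Agent.H902.Art.dd); (try generalize @Cfsg.Agent.H902.Art.Sh.ctorIdx = g0); rfl') | exact @Cfsg.Agent.H902.Art.dd | exact ()
private theorem _root_.Cfsg.Agent.KOc06e440.e23 : (by first | exact @Cfsg.Agent.H902.Art.dd = @_root_.Cfsg.Agent.KOc06e440.k23 | exact True : Prop) := by first | (delta _root_.Cfsg.Agent.KOc06e440.k23; exact @Subtype.property _ (fun g => @Cfsg.Agent.H902.Art.dd = @g) _) | rfl | trivial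
private noncomputable def _root_.Cfsg.Agent.KOc06e440.k24 : (by first | exact type_of% @Cfsg.Agent.H902.EntsFast.valF | exact Unit : Sort _) := by first | (refine @Subtype.val _ (fun g => @Cfsg.Agent.H902.EntsFast.valF = @g) (@Subtype.mk _ _ (@(fun x0 x1 => @Nat.div (@Nat.mul (@Nat.pow (@Nat.pow @x0 (@Prod.snd.{0, 0} _ _ @x1)) (@Cfsg.Agent.KOc06e440.k17 (@Prod.fst.{0, 0} _ _ @x1))) (@Cfsg.Agent.KOc06e440.k22 (@Prod.fst.{0, 0} _ _ @x1) (@Nat.pow @x0 (@Prod.snd.{0, 0} _ _ @x1)))) (@Cfsg.Agent.KOc06e440.k23 (@Prod.fst.{0, 0} _ _ @x1) (@Nat.pow @x0 (@Prod.snd.{0, 0} _ _ @x1))))) ?_); rewrite [← Cfsg.Agent.KOc06e440.e23, ← Cfsg.Agent.KOc06e440.e22, ← Cfsg.Agent.KOc06e440.e17]; (try delta Cfsg.Agent.H902.EntsFast.valF); (try generalize @Cfsg.Agent.H902.Art.NN = g0); (try generalize @Cfsg.Agent.H902.EntsFast.numF = g1); (try generalize @Cfsg.Agent.H902.Art.dd = g2); rfl') | exact @Cfsg.Agent.H902.EntsFast.valF | exact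 ()
private theorem _root_.Cfsg.Agent.KOc06e440.e24 : (by first | exact @Cfsg.Agent.H902.EntsFast.valF = @_root_.Cfsg.Agent.KOc06e440.k24 | exact True : Prop) := by first | (delta _root_.Cfsg.Agent.KOc06e440.k24; exact @Subtype.property _ (fun g => @Cfsg.Agent.H902.EntsFast.valF = @g) _) | rfl | trivial
private noncomputable def _root_.Cfsg.Agent.KOc06e440.oEq.{ku} (α : Sort ku) (a b : Nat) (f t : α) : α := @Decidable.rec (a = b) (fun _ => α) (fun _ => f) (fun _ => t) (Nat.decEq a b)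
private noncomputable def _root_.Cfsg.Agent.KOc06e440.k25.{ku} (α : Sort ku) (a b : Nat) (f t : α) : α := @Bool.rec (fun _ => α) f t (Nat.beq a b)
private theorem _root_.Cfsg.Agent.KOc06e440.e25.{ku} : @_root_.Cfsg.Agent.KOc06e440.oEq.{ku} = @_root_.Cfsg.Agent.KOc06e440.k25.{ku} := funext fun α => funext fun a => funext fun b => funext fun f => funext fun t => by delta _root_.Cfsg.Agent.KOc06e440.oEq _root_.Cfsg.Agent.KOc06e440.k25; cases h : Nat.beq a b <;> cases Nat.decEq a b <;> rename_i g <;> first | rfl | exact absurd g (Nat.ne_of_beq_eq_false h) | exact absurd (Nat.eq_of_beq_eq_true h) g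
private noncomputable def _root_.Cfsg.Agent.KOc06e440.k26 : (by first | exact type_of% @Cfsg.Agent.H364.SpIneq.cn | exact Unit : Sort _) := by first | (refine @Subtype.val _ (fun g => @Cfsg.Agent.H364.SpIneq.cn = @g) (@Subtype.mk _ _ (@(fun x0 => @Cfsg.Agent.KOc06e440.k25.{1} ℕ (@Nat.mod @x0 (nat_lit 2)) (nat_lit 1) (nat_lit 0) @x0)) ?_); rewrite [← Cfsg.Agent.KOc06e440.e25.{1}]; rfl') | exact @Cfsg.Agent.H364.SpIneq.cn | exact ()
private theorem _root_.Cfsg.Agent.KOc06e440.e26 : (by first | exact @Cfsg.Agent.H364.SpIneq.cn = @_root_.Cfsg.Agent.KOc06e440.k26 | exact True : Prop) := by first | (delta _root_.Cfsg.Agent.KOc06e440.k26; exact @Subtype.property _ (fun g => @Cfsg.Agent.H364.SpIneq.cn = @g) _) | rfl | trivial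
private noncomputable def _root_.Cfsg.Agent.KOc06e440.k27 : (by first | exact type_of% @Cfsg.Agent.H364.SpSmall.strip | exact Unit : Sort _) := by first | (refine @Subtype.val _ (fun g => @Cfsg.Agent.H364.SpSmall.strip = @g) (@Subtype.mk _ _ (@(fun x0 x1 x2 => @Nat.rec.{1} @(fun x3 => ℕ → ℕ → ℕ) @(fun x3 x4 => @x3) @(fun x3 x4 x5 x6 => (let x7 : ℕ := @Nat.gcd @x5 @x6; @Cfsg.Agent.KOc06e440.k25.{1} ℕ (@Nat.gcd @x5 @x6) (nat_lit 1) (@x4 (@Nat.div @x5 @x7) @x6) @x5)) @x0 @x1 @x2)) ?_); rewrite [← Cfsg.Agent.KOc06e440.e25.{1}]; funext a0 a1 a2; refine (congrFun (congrFun (_root_.Cfsg.Agent.KOc06e440.e9 (fun a0 a1 a2 => @Cfsg.Agent.H364.SpSmall.strip a0 a1 a2) ?_ (fun c0 => ?_) a0) a1) a2 :) <;> (rfl')) | exact @Cfsg.Agent.H364.SpSmall.strip | exact ()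
private theorem _root_.Cfsg.Agent.KOc06e440.e27 : (by first | exact @Cfsg.Agent.H364.SpSmall.strip = @_root_.Cfsg.Agent.KOc06e440.k27 | exact True : Prop) := by first | (delta _root_.Cfsg.Agent.KOc06e440.k27; exact @Subtype.property _ (fun g => @Cfsg.Agent.H364.SpSmall.strip = @g) _) | rfl | trivial
private noncomputable def _root_.Cfsg.Agent.KOc06e440.k28 : (by first | exact type_of% @Cfsg.Agent.H364.SpSmall.te | exact Unit : Sort _) := by first | (refine @Subtype.val _ (fun g => @Cfsg.Agent.H364.SpSmall.te = @g) (@Subtype.mk _ _ (@(fun x0 x1 => @Cfsg.Agent.KOc06e440.k27 (nat_lit 40) (@Cfsg.Agent.KOc06e440.k11 @x0 @x1) (@Cfsg.Agent.KOc06e440.k11 (@Nat.div @x0 (nat_lit 2)) @x1))) ?_); rewrite [← Cfsg.Agent.KOc06e440.e11, ← Cfsg.Agent.KOc06e440.e27]; (try delta Cfsg.Agent.H364.SpSmall.te); (try generalize @Cfsg.Agent.H364.SpSmall.strip = g0); (try generalize @Cfsg.Agent.H364.SpVal.AA = g1); rfl') | exact @Cfsg.Agent.H364.SpSmall.te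 | exact ()
private theorem _root_.Cfsg.Agent.KOc06e440.e28 : (by first | exact @Cfsg.Agent.H364.SpSmall.te = @_root_.Cfsg.Agent.KOc06e440.k28 | exact True : Prop) := by first | (delta _root_.Cfsg.Agent.KOc06e440.k28; exact @Subtype.property _ (fun g => @Cfsg.Agent.H364.SpSmall.te = @g) _) | rfl | trivial

theorem en_3 : en 10 3 (3 ^ cn 10 * te 10 3) 2 37 = true := by
  delta en
  rw [Cfsg.Agent.H902.EntsFast.ents_eq, Cfsg.Agent.H902.EntsFast.val_eqF]
  (first | (rewrite [Cfsg.Agent.KOc06e440.e0, Cfsg.Agent.KOc06e440.e1.{0}, Cfsg.Agent.KOc06e440.e3, Cfsg.Agent.KOc06e440.e12, Cfsg.Agent.KOc06e440.e13.{0}, Cfsg.Agent.KOc06e440.e14, Cfsg.Agent.KOc06e440.e19, Cfsg.Agent.KOc06e440.e20, Cfsg.Agent.KOc06e440.e21, Cfsg.Agent.KOc06e440.e24, Cfsg.Agent.KOc06e440.e23, Cfsg.Agent.KOc06e440.e26, Cfsg.Agent.KOc06e440.e28]; decide +kernel) | decide +kernel)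

theorem en_4 : en 6 2 (2 ^ cn 6 * te 6 2) 3 8 = true := by
  delta en
  rw [Cfsg.Agent.H902.EntsFast.ents_eq, Cfsg.Agent.H902.EntsFast.val_eqF]
  decide +kernel

theorem en_5 : en 6 2 (2 ^ cn 6 * te 6 2) 5 3 = true := by
  delta en
  rw [Cfsg.Agent.H902.EntsFast.ents_eq, Cfsg.Agent.H902.EntsFast.val_eqF]
  decide +kernel

theorem en_6 : en 6 3 (3 ^ cn 6 * te 6 3) 2 21 = true := by
  delta en
  rw [Cfsg.Agent.H902.EntsFast.ents_eq, Cfsg.Agent.H902.EntsFast.val_eqF]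
  (first | (rewrite [Cfsg.Agent.KOc06e440.e0, Cfsg.Agent.KOc06e440.e1.{0}, Cfsg.Agent.KOc06e440.e3, Cfsg.Agent.KOc06e440.e12, Cfsg.Agent.KOc06e440.e13.{0}, Cfsg.Agent.KOc06e440.e14, Cfsg.Agent.KOc06e440.e19, Cfsg.Agent.KOc06e440.e20, Cfsg.Agent.KOc06e440.e21, Cfsg.Agent.KOc06e440.e24, Cfsg.Agent.KOc06e440.e23, Cfsg.Agent.KOc06e440.e26, Cfsg.Agent.KOc06e440.e28]; decide +kernel) | decide +kernel)

theorem en_7 : en 6 4 (4 ^ cn 6 * te 6 4) 3 8 = true := by
  delta en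
  rw [Cfsg.Agent.H902.EntsFast.ents_eq, Cfsg.Agent.H902.EntsFast.val_eqF]
  decide +kernel

theorem en_8 : en 6 4 (4 ^ cn 6 * te 6 4) 5 7 = true := by
  delta en
  rw [Cfsg.Agent.H902.EntsFast.ents_eq, Cfsg.Agent.H902.EntsFast.val_eqF]
  decide +kernel

theorem en_9 : en 6 5 (5 ^ cn 6 * te 6 5) 2 21 = true := by
  delta en
  rw [Cfsg.Agent.H902.EntsFast.ents_eq, Cfsg.Agent.H902.EntsFast.val_eqF]
  (first | (rewrite [Cfsg.Agent.KOc06e440.e0, Cfsg.Agent.KOc06e440.e1.{0}, Cfsg.Agent.KOc06e440.e3, Cfsg.Agent.KOc06e440.e12, Cfsg.Agent.KOc06e440.e13.{0}, Cfsg.Agent.KOc06e440.e14, Cfsg.Agent.KOc06e440.e19, Cfsg.Agent.KOc06e440.e20, Cfsg.Agent.KOc06e440.e21, Cfsg.Agent.KOc06e440.e24, Cfsg.Agent.KOc06e440.e23, Cfsg.Agent.KOc06e440.e26, Cfsg.Agent.KOc06e440.e28]; decide +kernel) | decide +kernel)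

theorem en_10 : en 6 7 (7 ^ cn 6 * te 6 7) 2 27 = true := by
  delta en
  rw [Cfsg.Agent.H902.EntsFast.ents_eq, Cfsg.Agent.H902.EntsFast.val_eqF]
  (first | (rewrite [Cfsg.Agent.KOc06e440.e0, Cfsg.Agent.KOc06e440.e1.{0}, Cfsg.Agent.KOc06e440.e3, Cfsg.Agent.KOc06e440.e12, Cfsg.Agent.KOc06e440.e13.{0}, Cfsg.Agent.KOc06e440.e14, Cfsg.Agent.KOc06e440.e19, Cfsg.Agent.KOc06e440.e20, Cfsg.Agent.KOc06e440.e21, Cfsg.Agent.KOc06e440.e24, Cfsg.Agent.KOc06e440.e23, Cfsg.Agent.KOc06e440.e26, Cfsg.Agent.KOc06e440.e28]; decide +kernel) | decide +kernel)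

theorem en_11 : en 6 9 (9 ^ cn 6 * te 6 9) 2 27 = true := by
  delta en
  rw [Cfsg.Agent.H902.EntsFast.ents_eq, Cfsg.Agent.H902.EntsFast.val_eqF]
  (first | (rewrite [Cfsg.Agent.KOc06e440.e0, Cfsg.Agent.KOc06e440.e1.{0}, Cfsg.Agent.KOc06e440.e3, Cfsg.Agent.KOc06e440.e12, Cfsg.Agent.KOc06e440.e13.{0}, Cfsg.Agent.KOc06e440.e14, Cfsg.Agent.KOc06e440.e19, Cfsg.Agent.KOc06e440.e20, Cfsg.Agent.KOc06e440.e21, Cfsg.Agent.KOc06e440.e24, Cfsg.Agent.KOc06e440.e23, Cfsg.Agent.KOc06e440.e26, Cfsg.Agent.KOc06e440.e28]; decide +kernel) | decide +kernel)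

theorem en_12 : en 3 3 (3 ^ cn 3 * te 3 3) 2 9 = true := by
  delta en
  rw [Cfsg.Agent.H902.EntsFast.ents_eq, Cfsg.Agent.H902.EntsFast.val_eqF]
  decide +kernel

theorem en_13 : en 3 7 (7 ^ cn 3 * te 3 7) 2 12 = true := by
  delta en
  rw [Cfsg.Agent.H902.EntsFast.ents_eq, Cfsg.Agent.H902.EntsFast.val_eqF]
  decide +kernel

theorem en_list : ∀ a ∈ [(5, 2, 3, 6), (5, 3, 2, 17), (10, 2, 3, 14), (10, 3, 2, 37), (6, 2, 3, 8), (6, 2, 5, 3),
    (6, 3, 2, 21), (6, 4, 3, 8), (6, 4, 5, 7), (6, 5, 2, 21), (6, 7, 2, 27), (6, 9, 2, 27), (3, 3, 2, 9), (3, 7, 2, 12)],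
    en a.1 a.2.1 (a.2.1 ^ cn a.1 * te a.1 a.2.1) a.2.2.1 a.2.2.2 = true := by
  intro a ha
  simp only [List.mem_cons, List.not_mem_nil, or_false] at ha
  rcases ha with rfl | rfl | rfl | rfl | rfl | rfl | rfl | rfl | rfl | rfl | rfl | rfl | rfl | rfl
  · exact en_0
  · exact en_1
  · exact en_2
  · exact en_3
  · exact en_4
  · exact en_5
  · exact en_6
  · exact en_7
  · exact en_8
  · exact en_9
  · exact en_10
  · exact en_11
  · exact en_12
  · exact en_13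

variable {n p f q M : ℕ} {X : Sh} {v g MS I D : ℕ}

theorem en_false {a : ℕ} (hY : Real (.C n) p f M) (hq : p ^ f = q) (hX : Real X v g MS) (hX2 : X ≠ .L 2)
    (hMS : MS ∣ M) (hI : I ∣ 24 * dd X (v ^ g) * g) (hd : D ∣ I * MS) (hen : en n q D v a = true) : False := by
  have hM := M_eq hY hq
  have hM0 := hY.M_ne
  have hv := hX.hp
  rw [en, Bool.and_eq_true, bne_iff_ne, List.all_eq_true] at hen
  obtain ⟨h1, h2⟩ := hen
  have hN : g * NN X ≤ a := by
    by_contra hcon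
    apply h1
    apply Nat.mod_eq_zero_of_dvd
    rw [← hM]
    have h3 : v ^ (g * NN X) ∣ M := by
      have := P_dvd v MS
      rw [hX.P_self, ← pow_mul] at this
      exact this.trans hMS
    exact (pow_dvd_pow v (by omega)).trans h3
  have h3 := h2 _ (List.mem_range.2 (show g * NN X < a + 1 by omega))
  rw [List.all_eq_true] at h3
  have h4 := h3 _ (mem_ents hX rfl)
  rw [val_eq hX] at h4
  simp only [Bool.or_eq_true, decide_eq_true_eq, bne_iff_ne, ne_eq] at h4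
  rcases h4 with (h4 | h4) | h4
  · exact hX2 h4
  · exact h4 (Nat.mod_eq_zero_of_dvd (by rw [← hM]; exact hMS))
  · exact h4 (Nat.mod_eq_zero_of_dvd (hd.trans (Nat.mul_dvd_mul_right hI _)))

/-- the exact bound for the part -/
theorem P_le_exact {a : ℕ} (hY : Real (.C n) p f M) (hq : p ^ f = q) (hv : v.Prime)
    (h : (cardC n q % v ^ (a + 1) != 0) = true) : P v M ≤ v ^ a := by
  have hM := M_eq hY hq
  rw [bne_iff_ne] at h
  apply Nat.pow_le_pow_right hv.pos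
  by_contra hcon
  apply h
  apply Nat.mod_eq_zero_of_dvd
  rw [← hM]
  exact (hv.pow_dvd_iff_le_factorization hY.M_ne).2 (by omega)

theorem cross_fin {b : ℕ} (hY : Real (.C n) p f M) (hq : p ^ f = q) (hn : 2 ≤ n) (hg : good n q (te n q) = true)
    (hb : ∀ v : ℕ, v.Prime → v ≠ p → v ∣ te n q → P v M ≤ b) (hck2 : ck2 b (q ^ cn n * te n q) = true)
    (hE : ∀ e, 1 ≤ e → e ≤ n → ck n q (q ^ cn n * te n q) e = true ∨
      ∀ v : ℕ, v.Prime → v ≠ 2 → v ∣ q ^ (2 * e) - 1 → ∃ a, en n q (q ^ cn n * te n q) v a = true)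
    (h2 : p ≠ 2 → (∃ B, P 2 M ≤ B ∧ ck3 B (q ^ cn n * te n q) = true) ∨ ∃ a, en n q (q ^ cn n * te n q) 2 a = true)
    (hX : Real X v g MS) (hX2 : X ≠ .L 2) (hvp : v ≠ p) (hMS : MS ∣ M)
    (hI : I ≤ dd X (v ^ g) * NN X * g) (hI0 : 0 < I) (hI' : I ∣ 24 * dd X (v ^ g) * g) (hd : Fr n q I MS) : False := by
  have hv := hX.hp
  have hq2 := hY.q_ge
  have hvq := hY.not_dvd_q hv hvp
  rw [hq] at hq2 hvq
  have hd' := hd.good hq2 hg
  by_cases hvt : v ∣ te n q
  · have hv2 : v ≠ 2 := by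
      rintro rfl
      exact two_not_dvd hY hq hn hg hvt
    exact ck2_false hY hX hX2 hMS hI hI0 hd' hv2 (hb v hv hvp hvt) hck2
  · by_cases hv2 : v = 2
    · subst hv2
      rcases h2 (Ne.symm hvp) with ⟨B, h3, h4⟩ | ⟨a, h3⟩
      · exact ck3_false hY hq hX hX2 hvp hMS hI hI0 hd' hvt h3 h4
      · exact en_false hY hq hX hX2 hMS hI' hd' h3
    · by_cases hs : ∃ a, en n q (q ^ cn n * te n q) v a = true
      · obtain ⟨a, hs⟩ := hs
        exact en_false hY hq hX hX2 hMS hI' hd' hs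
      · refine ck_false hY hq hX hX2 hvp hMS hI hI0 hd' hv2 hvt fun e he hen heo => ?_
        rcases hE e he hen with h | h
        · exact h
        · exfalso
          apply hs
          apply h v hv hv2
          rw [pow_mul, heo, Cfsg.Agent.Lib.Zsigmondy.dvd_pow_sub_one_iff (Nat.one_le_pow _ _ (by omega))]

end Cfsg.Agent.H364.SpEnum
end

-- part: H364/SpSix
section
/-!
# Simple groups of Lie type in cross characteristic: ranks 3 and 6 (helper364)
-/

set_option autoImplicit false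

namespace Cfsg.Agent.H364.SpSix

open Finset Cfsg.Agent.H902.Lte Cfsg.Agent.H902.Art Cfsg.Agent.H364.SpVal Cfsg.Agent.H364.SpIneq Cfsg.Agent.H364.SpPrim
  Cfsg.Agent.H364.SpTot Cfsg.Agent.H364.SpCross Cfsg.Agent.H364.SpSmall Cfsg.Agent.H364.SpEnum

variable {n p f q M : ℕ} {X : Sh} {v g MS I D : ℕ}

/-- the exact value of the part for a large order -/
theorem P_eq_of_order {r : ℕ} (hr : r.Prime) (hr2 : r ≠ 2) (hq : 2 ≤ q) (hrq : ¬ r ∣ q)
    (h1 : n / 2 < orderOf ((q ^ 2 : ℕ) : ZMod r)) (h2 : orderOf ((q ^ 2 : ℕ) : ZMod r) ≤ n) :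
    P r (AA n q) = P r (q ^ (2 * orderOf ((q ^ 2 : ℕ) : ZMod r)) - 1) := by
  have hx := abs_sq_ge hq
  have hrx := not_dvd_sq hr hrq
  rw [← cast_sq] at h1 h2 ⊢
  set x : ℤ := (q : ℤ) ^ 2 with hxdef
  have he := order_pos (q := q) hr hrx
  have h4 : n / orderOf (x : ZMod r) = 1 := by
    have h5 : n / orderOf (x : ZMod r) < 2 := by
      rw [Nat.div_lt_iff_lt_mul (by omega)]; omega
    have h6 := Nat.div_pos h2 (by omega)
    omega
  rw [AA, ← W_sq hq, PW_odd hr hr2 hx hrx, h4, pow_one, Nat.factorial_one, padicValNat.one, pow_zero, mul_one]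
  have h1 : (x ^ orderOf (x : ZMod r) - 1).natAbs = q ^ (2 * orderOf (x : ZMod r)) - 1 := by
    have h2 : x ^ orderOf (x : ZMod r) - 1 = ((q ^ (2 * orderOf (x : ZMod r)) - 1 : ℕ) : ℤ) := by
      rw [Nat.cast_sub (Nat.one_le_pow _ _ (by omega)), hxdef, ← pow_mul]; push_cast; rfl
    rw [h2, Int.natAbs_natCast]
  rw [h1]

theorem dvd_pow_iff {r : ℕ} (hq : 2 ≤ q) (k : ℕ) : r ∣ q ^ (2 * k) - 1 ↔ orderOf ((q ^ 2 : ℕ) : ZMod r) ∣ k := by
  rw [pow_mul, Cfsg.Agent.Lib.Zsigmondy.dvd_pow_sub_one_iff (Nat.one_le_pow _ _ (by omega))]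

theorem P_le_of_mul {r a b B : ℕ} (hr : r.Prime) (ha : a ≠ 0) (hb : b ≠ 0) (h : ¬ r ∣ a) (hB : b ≤ B) :
    P r (a * b) ≤ B := by
  rw [P_mul ha hb, P_eq_one h, one_mul]
  exact (P_le hb).trans hB

theorem P_three {r : ℕ} (hr : r.Prime) (hr2 : r ≠ 2) (hq : 2 ≤ q) (hrq : ¬ r ∣ q)
    (h : orderOf ((q ^ 2 : ℕ) : ZMod r) = 3) : P r (q ^ (2 * 3) - 1) ≤ q ^ 2 + q + 1 := by
  have h1 : ¬ r ∣ q ^ (2 * 1) - 1 := by
    rw [dvd_pow_iff hq, h]; norm_num
  obtain ⟨a, rfl⟩ := Nat.exists_eq_add_of_le' (show 1 ≤ q by omega)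
  have e1 : (a + 1) ^ (2 * 3) - 1 = ((a + 1) ^ (2 * 1) - 1) * (((a + 1) ^ 2 + (a + 1) + 1) * (a ^ 2 + a + 1)) := by
    have e2 : (a + 1) ^ (2 * 1) - 1 = a ^ 2 + 2 * a := by
      have : (a + 1) ^ (2 * 1) = a ^ 2 + 2 * a + 1 := by ring
      rw [this, Nat.add_sub_cancel]
    rw [e2]
    have : (a + 1) ^ (2 * 3) = (a ^ 2 + 2 * a) * (((a + 1) ^ 2 + (a + 1) + 1) * (a ^ 2 + a + 1)) + 1 := by ring
    rw [this, Nat.add_sub_cancel]
  have h10 : (a + 1) ^ (2 * 1) - 1 ≠ 0 := by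
    intro h0
    rw [h0] at h1
    exact h1 (dvd_zero _)
  have h11 : (a + 1) ^ 2 + (a + 1) + 1 ≠ 0 := by (clear * -; positivity)
  have h12 : a ^ 2 + a + 1 ≠ 0 := by (clear * -; positivity)
  rw [e1, P_mul h10 (Nat.mul_ne_zero h11 h12), P_eq_one h1, one_mul, P_mul h11 h12]
  -- `r` divides only one of the factors
  by_cases h2 : r ∣ (a + 1) ^ 2 + (a + 1) + 1
  · have h3 : ¬ r ∣ a ^ 2 + a + 1 := by
      intro h3
      have h4 : r ∣ 2 * (a + 1) := by
        have e3 : (a + 1) ^ 2 + (a + 1) + 1 = (a ^ 2 + a + 1) + 2 * (a + 1) := by ring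
        rw [e3] at h2
        exact (Nat.dvd_add_right h3).1 h2
      rcases hr.dvd_mul.1 h4 with h5 | h5
      · exact hr2 ((Nat.prime_dvd_prime_iff_eq hr Nat.prime_two).1 h5)
      · exact hrq h5
    rw [P_eq_one h3, mul_one]
    exact P_le h11
  · rw [P_eq_one h2, one_mul]
    exact (P_le h12).trans (by linarith only [])

theorem P_six {r : ℕ} (hr : r.Prime) (hq : 2 ≤ q)
    (h : orderOf ((q ^ 2 : ℕ) : ZMod r) = 6) : P r (q ^ (2 * 6) - 1) ≤ q ^ 5 + 1 := by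
  have h1 : ¬ r ∣ q ^ (2 * 3) - 1 := by
    rw [dvd_pow_iff hq, h]; norm_num
  have h2 : ¬ r ∣ q ^ 2 + 1 := by
    intro h2
    have h3 : r ∣ q ^ (2 * 2) - 1 := by
      have e : q ^ (2 * 2) - 1 = (q ^ 2 - 1) * (q ^ 2 + 1) := by
        obtain ⟨b, hb⟩ := Nat.exists_eq_add_of_le' (Nat.one_le_pow 2 q (by omega))
        rw [pow_mul, hb, Nat.add_sub_cancel]
        have : (b + 1) ^ 2 = b * (b + 1 + 1) + 1 := by ring
        rw [this, Nat.add_sub_cancel]
      rw [e]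
      exact h2.mul_left _
    rw [dvd_pow_iff hq, h] at h3
    norm_num at h3
  obtain ⟨b, hb⟩ := Nat.exists_eq_add_of_le' (show 1 ≤ q ^ 2 by nlinarith only [hq])
  have e1 : q ^ (2 * 6) - 1 = ((q ^ (2 * 3) - 1) * (q ^ 2 + 1)) * (b ^ 2 + b + 1) := by
    rw [pow_mul, pow_mul, hb]
    have e2 : (b + 1) ^ 3 - 1 = b ^ 3 + 3 * b ^ 2 + 3 * b := by
      have : (b + 1) ^ 3 = b ^ 3 + 3 * b ^ 2 + 3 * b + 1 := by ring
      rw [this, Nat.add_sub_cancel]
    rw [e2]
    have : (b + 1) ^ 6 = (b ^ 3 + 3 * b ^ 2 + 3 * b) * (b + 1 + 1) * (b ^ 2 + b + 1) + 1 := by ring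
    rw [this, Nat.add_sub_cancel]
  rw [e1]
  have h10 : q ^ (2 * 3) - 1 ≠ 0 := by
    intro h0
    rw [h0] at h1
    exact h1 (dvd_zero _)
  apply P_le_of_mul hr (Nat.mul_ne_zero h10 (by positivity)) (by (clear * -; positivity))
  · intro h3
    rcases hr.dvd_mul.1 h3 with h4 | h4
    · exact h1 h4
    · exact h2 h4
  · have h3 : b ^ 2 + b + 1 ≤ (q ^ 2) ^ 2 := by rw [hb]; linarith only []
    have h4 : (q ^ 2) ^ 2 ≤ q ^ 5 := by
      rw [← pow_mul]
      exact Nat.pow_le_pow_right (by omega) (by norm_num)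
    omega

theorem P_le_three (hY : Real (.C 3) p f M) (hq : p ^ f = q) (hv : v.Prime) (hvp : v ≠ p) (hv2 : v ≠ 2)
    (h : 3 / 2 < orderOf ((q ^ 2 : ℕ) : ZMod v)) : P v M ≤ q ^ 2 + q + 1 := by
  have hq2 := hY.q_ge
  have hvq := hY.not_dvd_q hv hvp
  have h2 : P v M ≤ P v (AA 3 (p ^ f)) := hY.P_other_le hv hvp
  rw [hq] at hq2 hvq h2
  obtain ⟨he, h4 | ⟨h4, h5⟩⟩ := PC_odd' hv hv2 hq2 hvq 3
  · rw [h4.2] at h2
    omega
  · have h6 : orderOf ((q ^ 2 : ℕ) : ZMod v) = 2 ∨ orderOf ((q ^ 2 : ℕ) : ZMod v) = 3 := by omega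
    rcases h6 with h6 | h6
    · have h7 := P_le_of_order hv hv2 hq2 hvq h
      rw [h6] at h7
      omega
    · have h7 := P_eq_of_order hv hv2 hq2 hvq h h4
      have h8 := P_three hv hv2 hq2 hvq h6
      rw [h7, h6] at h2
      exact h2.trans h8

theorem P_le_six (hY : Real (.C 6) p f M) (hq : p ^ f = q) (hv : v.Prime) (hvp : v ≠ p) (hv2 : v ≠ 2)
    (h : 6 / 2 < orderOf ((q ^ 2 : ℕ) : ZMod v)) : P v M ≤ q ^ 5 + 1 := by
  have hq2 := hY.q_ge
  have hvq := hY.not_dvd_q hv hvp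
  have h2 : P v M ≤ P v (AA 6 (p ^ f)) := hY.P_other_le hv hvp
  rw [hq] at hq2 hvq h2
  obtain ⟨he, h4 | ⟨h4, h5⟩⟩ := PC_odd' hv hv2 hq2 hvq 6
  · rw [h4.2] at h2
    omega
  · have h6 : orderOf ((q ^ 2 : ℕ) : ZMod v) ≤ 5 ∨ orderOf ((q ^ 2 : ℕ) : ZMod v) = 6 := by omega
    rcases h6 with h6 | h6
    · have h7 := P_le_of_order hv hv2 hq2 hvq h
      have h8 := Nat.pow_le_pow_right (show 0 < q by omega) h6
      omega
    · have h7 := P_eq_of_order hv hv2 hq2 hvq h h4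
      have h8 := P_six hv hq2 h6
      rw [h7, h6] at h2
      exact h2.trans h8

end Cfsg.Agent.H364.SpSix
end

private theorem dce_61c8aff435c1 : _root_.True := by
  try have : _root_.True := by simp only [_root_.Cfsg.Agent.H364.SpEnum.en.eq_1]
  try have : _root_.True := by simp only [_root_.Cfsg.Agent.H364.SpEnum.cardC.eq_1]
  exact _root_.True.intro
end

-- part: H364/SpFin
section
set_option linter.all false
open scoped Cfsg.Agent.FastGrp

/-!
# Simple groups of Lie type in cross characteristic: all cases together (helper364)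
-/

set_option autoImplicit false

namespace Cfsg.Agent.H364.SpFin

open Finset Cfsg.Agent.H902.Lte Cfsg.Agent.H902.Art Cfsg.Agent.H364.SpVal Cfsg.Agent.H364.SpIneq Cfsg.Agent.H364.SpPrim
  Cfsg.Agent.H364.SpTot Cfsg.Agent.H364.SpCross Cfsg.Agent.H364.SpSmall Cfsg.Agent.H364.SpEnum Cfsg.Agent.H364.SpSix

/-- everything known about `S` -/
structure Cr (n p f M : ℕ) (X : Sh) (v g MS I : ℕ) : Prop where
  hY : Real (.C n) p f M
  hX : Real X v g MS
  hX2 : X ≠ .L 2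
  hvp : v ≠ p
  hMS : MS ∣ M
  hI : I ≤ dd X (v ^ g) * NN X * g
  hI0 : 0 < I
  hI' : I ∣ 24 * dd X (v ^ g) * g
  hd : Fr n (p ^ f) I MS

variable {n p f q M : ℕ} {X : Sh} {v g MS I : ℕ}

theorem two_primes {a b : ℕ} (hp : p.Prime) (ha : a.Prime) (hb : b.Prime) (hab : a ≠ b) (h1 : a ∣ p ^ f)
    (h2 : b ∣ p ^ f) : False := by
  have h3 := (Nat.prime_dvd_prime_iff_eq ha hp).1 (ha.dvd_of_dvd_pow h1)
  have h4 := (Nat.prime_dvd_prime_iff_eq hb hp).1 (hb.dvd_of_dvd_pow h2)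
  exact hab (h3.trans h4.symm)

/-- the checks -/
def fl (n q b s : ℕ) : Bool :=
  good n q (te n q) && ck2 b (q ^ cn n * te n q) &&
    ((List.range n).all fun e => decide (e + 1 ≤ s) || ck n q (q ^ cn n * te n q) (e + 1))

/-- the check for the prime `2` -/
def tw (n q a : ℕ) : Bool :=
  ((cardC n q % 2 ^ (a + 1) != 0) && ck3 (2 ^ a) (q ^ cn n * te n q)) || en n q (q ^ cn n * te n q) 2 a

theorem cross_fl {b s : ℕ} (hc : Cr n p f M X v g MS I) (hq : p ^ f = q) (hn : 2 ≤ n)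
    (hb : ∀ v : ℕ, v.Prime → v ≠ p → v ∣ te n q → P v M ≤ b) (hfl : fl n q b s = true)
    (hs : ∀ e, 1 ≤ e → e ≤ s → ∀ v : ℕ, v.Prime → v ≠ 2 → v ∣ q ^ (2 * e) - 1 →
      ∃ a, en n q (q ^ cn n * te n q) v a = true)
    (h2 : p ≠ 2 → ck3 ((4 * (q + 1)) ^ n / 4) (q ^ cn n * te n q) = true ∨ ∃ a, tw n q a = true) : False := by
  simp only [fl, Bool.and_eq_true] at hfl
  obtain ⟨⟨h3, h4⟩, h5⟩ := hfl
  have hd := hc.hd
  rw [hq] at hd
  refine cross_fin hc.hY hq hn h3 hb h4 ?_ ?_ hc.hX hc.hX2 hc.hvp hc.hMS hc.hI hc.hI0 hc.hI' hd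
  · intro e he hen
    rw [List.all_eq_true] at h5
    have h6 := h5 (e - 1) (List.mem_range.2 (by omega))
    rw [show e - 1 + 1 = e by omega, Bool.or_eq_true, decide_eq_true_eq] at h6
    rcases h6 with h6 | h6
    · exact Or.inr (hs e he h6)
    · exact Or.inl h6
  · intro hp2
    rcases h2 hp2 with h6 | ⟨a, h6⟩
    · exact Or.inl ⟨_, P_two_le hc.hY hq (Ne.symm hp2) (by omega), h6⟩
    · rw [tw, Bool.or_eq_true, Bool.and_eq_true] at h6
      rcases h6 with ⟨h6, h7⟩ | h6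
      · exact Or.inl ⟨_, P_le_exact hc.hY hq Nat.prime_two h6, h7⟩
      · exact Or.inr ⟨a, h6⟩

theorem te_bound (hc : Cr n p f M X v g MS I) (hq : p ^ f = q) (hn : 2 ≤ n) (hg : good n q (te n q) = true) :
    ∀ v : ℕ, v.Prime → v ≠ p → v ∣ te n q → P v M ≤ q ^ n + 1 :=
  fun _ hv hvp hd => P_le_good hc.hY hq hn hv hvp hg hd

theorem ne_two_of_te (hc : Cr n p f M X v g MS I) (hq : p ^ f = q) (hn : 2 ≤ n) (hg : good n q (te n q) = true)
    {w : ℕ} (hw : w ∣ te n q) : w ≠ 2 := by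
  rintro rfl
  exact two_not_dvd hc.hY hq hn hg hw

theorem te_three (hc : Cr 3 p f M X v g MS I) (hq : p ^ f = q) (hg : good 3 q (te 3 q) = true) :
    ∀ v : ℕ, v.Prime → v ≠ p → v ∣ te 3 q → P v M ≤ q ^ 2 + q + 1 := fun w hw hwp hd => by
  have hq2 := hc.hY.q_ge
  rw [hq] at hq2
  exact P_le_three hc.hY hq hw hwp (ne_two_of_te hc hq (by norm_num) hg hd) (order_of_good hq2 hw hg hd)

theorem te_six (hc : Cr 6 p f M X v g MS I) (hq : p ^ f = q) (hg : good 6 q (te 6 q) = true) :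
    ∀ v : ℕ, v.Prime → v ≠ p → v ∣ te 6 q → P v M ≤ q ^ 5 + 1 := fun w hw hwp hd => by
  have hq2 := hc.hY.q_ge
  rw [hq] at hq2
  exact P_le_six hc.hY hq hw hwp (ne_two_of_te hc hq (by norm_num) hg hd) (order_of_good hq2 hw hg hd)

theorem good_of_fl {b s : ℕ} (h : fl n q b s = true) : good n q (te n q) = true := by
  simp only [fl, Bool.and_eq_true] at h
  exact h.1.1

theorem dvd_eight {v : ℕ} (hv : v.Prime) (hv2 : v ≠ 2) (h : v ∣ 8) : False := by
  have h1 : v ∣ 2 ^ 3 := h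
  exact hv2 ((Nat.prime_dvd_prime_iff_eq hv Nat.prime_two).1 (hv.dvd_of_dvd_pow h1))

theorem dvd_three {v : ℕ} (hv : v.Prime) (h : v ∣ 3) : v = 3 := (Nat.prime_dvd_prime_iff_eq hv Nat.prime_three).1 h

theorem dvd_fifteen {v : ℕ} (hv : v.Prime) (h : v ∣ 15) : v = 3 ∨ v = 5 := by
  have h1 : v ∣ 3 * 5 := h
  rcases hv.dvd_mul.1 h1 with h2 | h2
  · exact Or.inl ((Nat.prime_dvd_prime_iff_eq hv Nat.prime_three).1 h2)
  · exact Or.inr ((Nat.prime_dvd_prime_iff_eq hv Nat.prime_five).1 h2)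

theorem tw_list : ∀ a ∈ [(3, 3, 9), (3, 5, 9), (3, 7, 12), (3, 9, 12), (5, 3, 17), (6, 3, 21), (6, 5, 21), (6, 7, 27),
    (6, 9, 27), (6, 11, 21), (6, 13, 21), (6, 17, 33), (6, 19, 21), (10, 3, 37)], tw a.1 a.2.1 a.2.2 = true := by
  delta tw en
  rw [Cfsg.Agent.H902.EntsFast.ents_eq, Cfsg.Agent.H902.EntsFast.val_eqF]
  decide +kernel

end Cfsg.Agent.H364.SpFin

private theorem dce_effcc9456456 : _root_.True := by
  try have : _root_.True := by simp only [_root_.Cfsg.Agent.H364.SpFin.fl.eq_1]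
  try have : _root_.True := by simp only [_root_.Cfsg.Agent.H364.SpFin.tw.eq_1]
  exact _root_.True.intro
end

-- part: H364/SpLarge
section
prune_inst 0x340449800000000000000200200400000100000000012900060201084220804220000800150c022492000840000813100010420000000a003000000200000028060001640208280000001006000000000000000000000000000000000000000000000
set_option linter.all false
open scoped Cfsg.Agent.FastGrp

/-!
# Simple groups of Lie type in cross characteristic: ranks 3 and 6, `q` large (helper364)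
-/

set_option autoImplicit false

namespace Cfsg.Agent.H364.SpLarge

open Finset Cfsg.Agent.H902.Lte Cfsg.Agent.H902.Art Cfsg.Agent.H364.SpVal Cfsg.Agent.H364.SpIneq Cfsg.Agent.H364.SpPrim
  Cfsg.Agent.H364.SpTot Cfsg.Agent.H364.SpCross Cfsg.Agent.H364.SpSmall Cfsg.Agent.H364.SpEnum Cfsg.Agent.H364.SpSix
  Cfsg.Agent.H364.SpFin

variable {n p f q M : ℕ} {X : Sh} {v g MS I : ℕ}

theorem order_two_le (hq2 : ¬ 2 ∣ q) : orderOf ((q ^ 2 : ℕ) : ZMod 2) ≤ 1 := by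
  have hodd : ¬ 2 ∣ q ^ 2 := fun h => hq2 (Nat.prime_two.dvd_of_dvd_pow h)
  have h4 : ((q ^ 2 : ℕ) : ZMod 2) = 1 := by
    rw [← Nat.cast_one, ZMod.natCast_eq_natCast_iff]
    show q ^ 2 % 2 = 1 % 2
    omega
  rw [h4, orderOf_one]

/-- the abstract end -/
theorem fin_large (hc : Cr n p f M X v g MS I) (hn : 2 ≤ n) {t P1 P2 NB C D : ℕ}
    (ht : t ∣ AA n (p ^ f)) (hto : ∀ r : ℕ, r.Prime → r ∣ t → n / 2 < orderOf (((p ^ f) ^ 2 : ℕ) : ZMod r))
    (hC : (p ^ f) ^ cn n * t * C ≥ D) (h1 : P v M ≤ P1) (h2 : v ≠ 2 → v ∣ t → P v M ≤ P2) (hN : P1 < 2 ^ (NB + 1))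
    (e1 : C ^ 3 * (P1 ^ 5 * NB ^ 3) < D ^ 3) (e2 : C ^ 3 * (P2 ^ 8 * NB ^ 3) < D ^ 3) : False := by
  have hX := hc.hX
  have hv := hX.hp
  have hvq := hc.hY.not_dvd_q hv hc.hvp
  have hd := hc.hd t ht hto
  set q := p ^ f
  have hP := pow_le_P hX hc.hY hc.hMS
  set N := g * NN X with hNdef
  have hNle : N ≤ NB := by
    by_contra hcon
    have h3 : 2 ^ (NB + 1) ≤ v ^ N :=
      (Nat.pow_le_pow_right (by norm_num) (by omega)).trans (Nat.pow_le_pow_left hv.two_le N)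
    omega
  have hD : D ^ 3 ≤ C ^ 3 * (q ^ cn n * t) ^ 3 := by
    calc D ^ 3 ≤ (q ^ cn n * t * C) ^ 3 := Nat.pow_le_pow_left hC 3
      _ = _ := by rw [mul_pow, mul_comm]
  by_cases hvt : v ∣ t
  · have hv2 : v ≠ 2 := by
      intro h
      have h3 := hto v hv hvt
      rw [h] at h3 hvq
      have := order_two_le hvq
      omega
    have h3 := cube_all hX hc.hX2 hc.hI hc.hI0 hd
    have h4 : (v ^ N) ^ 8 * N ^ 3 ≤ P2 ^ 8 * NB ^ 3 :=
      Nat.mul_le_mul (Nat.pow_le_pow_left (hP.trans (h2 hv2 hvt)) 8) (Nat.pow_le_pow_left hNle 3)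
    have h5 := Nat.mul_le_mul_left (C ^ 3) (h3.trans h4)
    omega
  · have hcop : Nat.Coprime (q ^ cn n * t) v := by
      apply Nat.Coprime.mul_left
      · apply Nat.Coprime.pow_left
        exact (Nat.Coprime.symm ((Nat.Prime.coprime_iff_not_dvd hv).2 hvq))
      · exact (Nat.Coprime.symm ((Nat.Prime.coprime_iff_not_dvd hv).2 hvt))
    have h3 := cube_num hX hc.hX2 hc.hI hc.hI0 hcop hd
    have h4 : (v ^ N) ^ 5 * N ^ 3 ≤ P1 ^ 5 * NB ^ 3 :=
      Nat.mul_le_mul (Nat.pow_le_pow_left (hP.trans h1) 5) (Nat.pow_le_pow_left hNle 3)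
    have h5 := Nat.mul_le_mul_left (C ^ 3) (h3.trans h4)
    omega

/-- general bound of the parts -/
theorem P_le_unif (hc : Cr n p f M X v g MS I) (hn : 1 ≤ n) {B : ℕ} (h2 : (4 * (p ^ f + 1)) ^ n / 4 ≤ B)
    (h3 : 3 ^ n * (p ^ f + 1) ^ (2 * n) ≤ B ^ 2) : P v M ≤ B := by
  have hv := hc.hX.hp
  by_cases hv2 : v = 2
  · subst hv2
    exact (P_two_le hc.hY rfl hc.hvp hn).trans h2
  · apply le_of_sq_le
    have h4 : P v M ≤ P v (AA n (p ^ f)) := hc.hY.P_other_le hv hc.hvp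
    exact (Nat.pow_le_pow_left h4 2).trans ((P_odd_sq_le hv hv2 hc.hY.q_ge (hc.hY.not_dvd_q hv hc.hvp)).trans h3)

theorem six_a {x : ℕ} (hx : 36 ≤ x) :
    120 ^ 3 * ((2 ^ 10 * (x + 1 + 1) ^ 6) ^ 5 * (2 * (x + 1)) ^ 3) < ((x * (x + 2)) ^ 8) ^ 3 := by
  have hx0 : 0 < x := by omega
  have h1 : (x + 2) * 36 ≤ 38 * x := by omega
  have h2 : (x + 1) * 36 ≤ 37 * x := by omega
  have h3 : (x + 2) ^ 6 * (x + 1) ^ 3 * 36 ^ 9 ≤ 38 ^ 6 * 37 ^ 3 * x ^ 9 := by
    calc (x + 2) ^ 6 * (x + 1) ^ 3 * 36 ^ 9 = ((x + 2) * 36) ^ 6 * ((x + 1) * 36) ^ 3 := by (set_option synthInstance.maxSize 99999 in exact Cfsg.Agent.Lib.RingK.eqN (by decide +kernel))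
      _ ≤ (38 * x) ^ 6 * (37 * x) ^ 3 := Nat.mul_le_mul (Nat.pow_le_pow_left h1 6) (Nat.pow_le_pow_left h2 3)
      _ = _ := by ring
  have h4 : 36 ^ 15 ≤ x ^ 15 := Nat.pow_le_pow_left hx 15
  have h5 : (120 ^ 3 * 2 ^ 53) * (38 ^ 6 * 37 ^ 3) < 36 ^ 9 * 36 ^ 15 := by norm_num
  have h6 : 120 ^ 3 * 2 ^ 53 * ((x + 2) ^ 6 * (x + 1) ^ 3) < x ^ 24 := by
    refine lt_of_mul_lt_mul_right ?_ (Nat.zero_le (36 ^ 9))
    calc 120 ^ 3 * 2 ^ 53 * ((x + 2) ^ 6 * (x + 1) ^ 3) * 36 ^ 9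
        = 120 ^ 3 * 2 ^ 53 * ((x + 2) ^ 6 * (x + 1) ^ 3 * 36 ^ 9) := mul_assoc _ _ _
      _ ≤ 120 ^ 3 * 2 ^ 53 * (38 ^ 6 * 37 ^ 3 * x ^ 9) := Nat.mul_le_mul_left _ h3
      _ = 120 ^ 3 * 2 ^ 53 * (38 ^ 6 * 37 ^ 3) * x ^ 9 := (mul_assoc _ _ _).symm
      _ < 36 ^ 9 * 36 ^ 15 * x ^ 9 := Nat.mul_lt_mul_of_pos_right h5 (pow_pos hx0 9)
      _ ≤ 36 ^ 9 * x ^ 15 * x ^ 9 := Nat.mul_le_mul_right _ (Nat.mul_le_mul_left _ h4)
      _ = x ^ 24 * 36 ^ 9 := by ring
  calc 120 ^ 3 * ((2 ^ 10 * (x + 1 + 1) ^ 6) ^ 5 * (2 * (x + 1)) ^ 3)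
      = (120 ^ 3 * 2 ^ 53 * ((x + 2) ^ 6 * (x + 1) ^ 3)) * (x + 2) ^ 24 := by (set_option synthInstance.maxSize 99999 in exact Cfsg.Agent.Lib.RingK.eqN (by decide +kernel))
    _ < x ^ 24 * (x + 2) ^ 24 := Nat.mul_lt_mul_of_pos_right h6 (pow_pos (by omega) _)
    _ = _ := by (set_option synthInstance.maxSize 99999 in exact Cfsg.Agent.Lib.RingK.eqN (by decide +kernel))

theorem six_b {x : ℕ} (hx : 36 ≤ x) :
    120 ^ 3 * (((x + 1) ^ 5 + 1) ^ 8 * (2 * (x + 1)) ^ 3) < ((x * (x + 2)) ^ 8) ^ 3 := by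
  have hx0 : 0 < x := by omega
  have h2 : (x + 1) * 36 ≤ 37 * x := by omega
  have h3 : ((x + 1) ^ 5 + 1) * 36 ^ 5 ≤ (37 ^ 5 + 1) * x ^ 5 := by
    have h4 : ((x + 1) * 36) ^ 5 ≤ (37 * x) ^ 5 := Nat.pow_le_pow_left h2 5
    have h5 : 36 ^ 5 ≤ x ^ 5 := Nat.pow_le_pow_left hx 5
    rw [mul_pow, mul_pow] at h4
    rw [add_mul, add_mul, one_mul, one_mul]
    exact Nat.add_le_add h4 h5
  have h7 : 120 ^ 3 * 8 * (37 ^ 5 + 1) ^ 8 * 37 ^ 3 < 36 ^ 43 * 36 ^ 5 := by norm_num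
  have h6 : 36 ^ 5 ≤ x ^ 5 := Nat.pow_le_pow_left hx 5
  have h8 : 120 ^ 3 * (((x + 1) ^ 5 + 1) ^ 8 * (2 * (x + 1)) ^ 3) < x ^ 48 := by
    refine lt_of_mul_lt_mul_right ?_ (Nat.zero_le (36 ^ 43))
    calc 120 ^ 3 * (((x + 1) ^ 5 + 1) ^ 8 * (2 * (x + 1)) ^ 3) * 36 ^ 43
        = 120 ^ 3 * 8 * ((((x + 1) ^ 5 + 1) * 36 ^ 5) ^ 8 * ((x + 1) * 36) ^ 3) := by
          rw [show (36 : ℕ) ^ 43 = (36 ^ 5) ^ 8 * 36 ^ 3 by rw [← pow_mul, ← pow_add], mul_pow 2, mul_pow ((x + 1) ^ 5 + 1),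
            mul_pow (x + 1) 36]
          (set_option synthInstance.maxSize 99999 in exact Cfsg.Agent.Lib.RingK.eqN (by decide +kernel))
      _ ≤ 120 ^ 3 * 8 * (((37 ^ 5 + 1) * x ^ 5) ^ 8 * (37 * x) ^ 3) := by
          apply Nat.mul_le_mul_left
          exact Nat.mul_le_mul (Nat.pow_le_pow_left h3 8) (Nat.pow_le_pow_left h2 3)
      _ = (120 ^ 3 * 8 * (37 ^ 5 + 1) ^ 8 * 37 ^ 3) * x ^ 43 := by
          rw [mul_pow, mul_pow, ← pow_mul, show x ^ 43 = x ^ (5 * 8) * x ^ 3 by rw [← pow_add]]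
          ring
      _ < (36 ^ 43 * 36 ^ 5) * x ^ 43 := Nat.mul_lt_mul_of_pos_right h7 (pow_pos hx0 _)
      _ ≤ (36 ^ 43 * x ^ 5) * x ^ 43 := Nat.mul_le_mul_right _ (Nat.mul_le_mul_left _ h6)
      _ = x ^ 48 * 36 ^ 43 := by
          rw [mul_assoc, ← pow_add, mul_comm]
  refine h8.trans_le ?_
  calc x ^ 48 = (x ^ 2) ^ 24 := by rw [← pow_mul]
    _ ≤ (x * (x + 2)) ^ 24 := Nat.pow_le_pow_left (by linarith only []) 24
    _ = _ := by rw [← pow_mul]

theorem six_c : ∀ q : ℕ, 37 ≤ q → 2 ^ 10 * (q + 1) ^ 6 < 2 ^ (2 * q + 1) := by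
  intro q hq
  induction q, hq using Nat.le_induction with
  | base => norm_num
  | succ k hk ih =>
    have h1 : 2 ^ (2 * (k + 1) + 1) = 4 * 2 ^ (2 * k + 1) := by ring
    rw [h1]
    have h2 : (k + 1 + 1) ^ 6 * 38 ^ 6 ≤ 39 ^ 6 * (k + 1) ^ 6 := by
      rw [← mul_pow, ← mul_pow]
      exact Nat.pow_le_pow_left (by omega) 6
    have h3 : (k + 1 + 1) ^ 6 ≤ 4 * (k + 1) ^ 6 := by
      have h4 : (39 : ℕ) ^ 6 ≤ 4 * 38 ^ 6 := by norm_num
      have h5 : (k + 1 + 1) ^ 6 * 38 ^ 6 ≤ (4 * (k + 1) ^ 6) * 38 ^ 6 := by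
        calc _ ≤ 39 ^ 6 * (k + 1) ^ 6 := h2
          _ ≤ (4 * 38 ^ 6) * (k + 1) ^ 6 := Nat.mul_le_mul_right _ h4
          _ = _ := by ring
      exact Nat.le_of_mul_le_mul_right h5 (by norm_num)
    omega

theorem six_large (hc : Cr 6 p f M X v g MS I) (hq : 37 ≤ p ^ f) : False := by
  have hQ : 2 ≤ (p ^ f) ^ 2 := by nlinarith
  have hlb := tt_ge (n := 6) hQ
  have hs : ss 6 = 8 := by decide +kernel
  have hl : lam 6 = 120 := by decide +kernel
  rw [hs, hl] at hlb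
  have hb2 : v ≠ 2 → v ∣ tt 6 ((p ^ f) ^ 2) → P v M ≤ (p ^ f) ^ 5 + 1 := fun hv2 hvt =>
    P_le_six hc.hY rfl hc.hX.hp hc.hvp hv2 (order_of_dvd_tt (by norm_num) hQ hc.hX.hp hvt).1
  have hb1 : P v M ≤ 2 ^ 10 * (p ^ f + 1) ^ 6 := by
    apply P_le_unif hc (by norm_num)
    · generalize p ^ f + 1 = x
      have : (4 * x) ^ 6 = 2 ^ 10 * x ^ 6 * 4 := by ring
      rw [this, Nat.mul_div_cancel _ (by norm_num)]
    · generalize p ^ f + 1 = x
      have : (2 ^ 10 * x ^ 6) ^ 2 = 2 ^ 20 * x ^ (2 * 6) := by ring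
      rw [this]
      exact Nat.mul_le_mul_right _ (by norm_num)
  have e : (p ^ f) ^ 2 - 1 = (p ^ f - 1) * (p ^ f - 1 + 2) := by
    obtain ⟨x, hx⟩ := Nat.exists_eq_add_of_le' (show 1 ≤ p ^ f by omega)
    rw [hx, Nat.add_sub_cancel]
    have : (x + 1) ^ 2 = x * (x + 2) + 1 := by ring
    rw [this, Nat.add_sub_cancel]
  refine fin_large hc (by norm_num) (t := tt 6 ((p ^ f) ^ 2)) (P1 := 2 ^ 10 * (p ^ f + 1) ^ 6) (P2 := (p ^ f) ^ 5 + 1)
    (NB := 2 * p ^ f) (C := 120) (D := ((p ^ f) ^ 2 - 1) ^ 8) (tt_dvd_AA (by omega)) ?_ ?_ hb1 hb2 ?_ ?_ ?_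
  · intro r hr hd
    exact (order_of_dvd_tt (by norm_num) hQ hr hd).1
  · have : cn 6 = 0 := rfl
    rw [this, pow_zero, one_mul]
    exact hlb
  · exact six_c _ hq
  · rw [e]
    obtain ⟨x, hx⟩ := Nat.exists_eq_add_of_le' (show 1 ≤ p ^ f by omega)
    have h := six_a (x := x) (by omega)
    rw [hx, Nat.add_sub_cancel]
    exact h
  · rw [e]
    obtain ⟨x, hx⟩ := Nat.exists_eq_add_of_le' (show 1 ≤ p ^ f by omega)
    have h := six_b (x := x) (by omega)
    rw [hx, Nat.add_sub_cancel]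
    exact h

theorem three_a {q : ℕ} (hq : 11 ≤ q) : 6 ^ 3 * ((16 * (q + 1) ^ 3) ^ 5 * (q + 3) ^ 3) < (q ^ 9) ^ 3 := by
  have hq0 : 0 < q := by omega
  have h1 : (q + 1) * 11 ≤ 12 * q := by omega
  have h2 : (q + 3) * 11 ≤ 14 * q := by omega
  have h3 : (q + 1) ^ 15 * (q + 3) ^ 3 * 11 ^ 18 ≤ 12 ^ 15 * 14 ^ 3 * q ^ 18 := by
    calc (q + 1) ^ 15 * (q + 3) ^ 3 * 11 ^ 18 = ((q + 1) * 11) ^ 15 * ((q + 3) * 11) ^ 3 := by
          rw [mul_pow, mul_pow, show (11 : ℕ) ^ 18 = 11 ^ 15 * 11 ^ 3 by rw [← pow_add]]; (set_option synthInstance.maxSize 99999 in exact Cfsg.Agent.Lib.RingK.eqN (by decide +kernel))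
      _ ≤ (12 * q) ^ 15 * (14 * q) ^ 3 := Nat.mul_le_mul (Nat.pow_le_pow_left h1 15) (Nat.pow_le_pow_left h2 3)
      _ = _ := by rw [mul_pow, mul_pow, show q ^ 18 = q ^ 15 * q ^ 3 by rw [← pow_add]]; ring
  have h4 : 11 ^ 9 ≤ q ^ 9 := Nat.pow_le_pow_left hq 9
  have h5 : 6 ^ 3 * 16 ^ 5 * (12 ^ 15 * 14 ^ 3) < 11 ^ 18 * 11 ^ 9 := by norm_num
  refine lt_of_mul_lt_mul_right ?_ (Nat.zero_le (11 ^ 18))
  calc 6 ^ 3 * ((16 * (q + 1) ^ 3) ^ 5 * (q + 3) ^ 3) * 11 ^ 18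
      = 6 ^ 3 * 16 ^ 5 * ((q + 1) ^ 15 * (q + 3) ^ 3 * 11 ^ 18) := by
        rw [mul_pow 16, ← pow_mul (q + 1)]; (set_option synthInstance.maxSize 99999 in exact Cfsg.Agent.Lib.RingK.eqN (by decide +kernel))
    _ ≤ 6 ^ 3 * 16 ^ 5 * (12 ^ 15 * 14 ^ 3 * q ^ 18) := Nat.mul_le_mul_left _ h3
    _ = 6 ^ 3 * 16 ^ 5 * (12 ^ 15 * 14 ^ 3) * q ^ 18 := (mul_assoc _ _ _).symm
    _ < 11 ^ 18 * 11 ^ 9 * q ^ 18 := Nat.mul_lt_mul_of_pos_right h5 (pow_pos hq0 _)
    _ ≤ 11 ^ 18 * q ^ 9 * q ^ 18 := Nat.mul_le_mul_right _ (Nat.mul_le_mul_left _ h4)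
    _ = (q ^ 9) ^ 3 * 11 ^ 18 := by rw [← pow_mul, mul_assoc, ← pow_add, mul_comm]

theorem three_b {q : ℕ} (hq : 11 ≤ q) : 6 ^ 3 * ((q ^ 2 + q + 1) ^ 8 * (q + 3) ^ 3) < (q ^ 9) ^ 3 := by
  have hq0 : 0 < q := by omega
  have h1 : q ^ 2 + q + 1 ≤ 2 * q ^ 2 := by nlinarith
  have h2 : q + 3 ≤ 2 * q := by omega
  have h4 : 11 ^ 8 ≤ q ^ 8 := Nat.pow_le_pow_left (by omega) 8
  have h5 : 6 ^ 3 * (2 ^ 8 * 2 ^ 3) < 11 ^ 8 := by norm_num
  calc 6 ^ 3 * ((q ^ 2 + q + 1) ^ 8 * (q + 3) ^ 3) ≤ 6 ^ 3 * ((2 * q ^ 2) ^ 8 * (2 * q) ^ 3) := by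
        apply Nat.mul_le_mul_left
        exact Nat.mul_le_mul (Nat.pow_le_pow_left h1 8) (Nat.pow_le_pow_left h2 3)
    _ = 6 ^ 3 * (2 ^ 8 * 2 ^ 3) * q ^ 19 := by
        rw [mul_pow, mul_pow, ← pow_mul, show q ^ 19 = q ^ (2 * 8) * q ^ 3 by rw [← pow_add]]; ring
    _ < 11 ^ 8 * q ^ 19 := Nat.mul_lt_mul_of_pos_right h5 (pow_pos hq0 _)
    _ ≤ q ^ 8 * q ^ 19 := Nat.mul_le_mul_right _ h4
    _ = (q ^ 9) ^ 3 := by rw [← pow_mul, ← pow_add]

theorem three_c : ∀ q : ℕ, 11 ≤ q → 16 * (q + 1) ^ 3 < 2 ^ (q + 3 + 1) := by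
  intro q hq
  induction q, hq using Nat.le_induction with
  | base => norm_num
  | succ k hk ih =>
    have h1 : 2 ^ (k + 1 + 3 + 1) = 2 * 2 ^ (k + 3 + 1) := by ring
    rw [h1]
    have h3 : (k + 1 + 1) ^ 3 ≤ 2 * (k + 1) ^ 3 := by nlinarith only [hk, sq_nonneg (k : ℤ)]
    omega

/-- the number for rank 3 -/
def t3 (q : ℕ) : ℕ := (q ^ 2 + 1) / Nat.gcd (q ^ 2 + 1) 2 * ((q ^ 4 + q ^ 2 + 1) / Nat.gcd (q ^ 4 + q ^ 2 + 1) 3)

theorem AA_three {q : ℕ} (hq : 1 ≤ q) : AA 3 q = (q ^ 2 - 1) * ((q ^ 2 - 1) * (q ^ 2 + 1)) *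
    ((q ^ 2 - 1) * (q ^ 4 + q ^ 2 + 1)) := by
  have h1 : AA 3 q = (q ^ 2 - 1) * (q ^ 4 - 1) * (q ^ 6 - 1) := by
    simp only [AA, Finset.prod_range_succ, Finset.prod_range_zero]
    norm_num only [_root_.one_mul]
  obtain ⟨b, hb⟩ := Nat.exists_eq_add_of_le' (Nat.one_le_pow 2 q hq)
  have h4 : q ^ 4 = (b + 1) ^ 2 := by rw [← hb, ← pow_mul]
  have h6 : q ^ 6 = (b + 1) ^ 3 := by rw [← hb, ← pow_mul]
  have e4 : (b + 1) ^ 2 - 1 = b * (b + 1 + 1) := by
    have : (b + 1) ^ 2 = b * (b + 1 + 1) + 1 := by ring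
    rw [this, Nat.add_sub_cancel]
  have e6 : (b + 1) ^ 3 - 1 = b * ((b + 1) ^ 2 + (b + 1) + 1) := by
    have : (b + 1) ^ 3 = b * ((b + 1) ^ 2 + (b + 1) + 1) + 1 := by ring
    rw [this, Nat.add_sub_cancel]
  rw [h1, h4, h6, hb, e4, e6, Nat.add_sub_cancel]

theorem t3_dvd {q : ℕ} (hq : 1 ≤ q) : t3 q ∣ AA 3 q := by
  rw [AA_three hq]
  exact Nat.mul_dvd_mul ((Nat.div_dvd_of_dvd (Nat.gcd_dvd_left _ _)).trans ((Dvd.intro_left _ rfl).mul_left _))
    ((Nat.div_dvd_of_dvd (Nat.gcd_dvd_left _ _)).trans (Dvd.intro_left _ rfl))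

theorem sq_mod_four (q : ℕ) : q ^ 2 % 4 = 0 ∨ q ^ 2 % 4 = 1 := by
  have h : q % 4 < 4 := Nat.mod_lt _ (by norm_num)
  rw [Nat.pow_mod]
  interval_cases q % 4 <;> simp

theorem t3_order {q r : ℕ} (hq : 2 ≤ q) (hr : r.Prime) (h : r ∣ t3 q) : 3 / 2 < orderOf ((q ^ 2 : ℕ) : ZMod r) := by
  have hAA : r ∣ AA 3 q := h.trans (t3_dvd (by omega))
  have hrq := not_dvd_of_AA hq hr hAA
  have h1 := order_pos' hr hrq
  by_contra hcon
  have h2 : orderOf ((q ^ 2 : ℕ) : ZMod r) = 1 := by omega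
  have h3 : r ∣ q ^ 2 - 1 := by
    have := (dvd_pow_iff (r := r) hq 1).2 (by rw [h2])
    simpa only [_root_.mul_one] using this
  obtain ⟨b, hb⟩ := Nat.exists_eq_add_of_le' (Nat.one_le_pow 2 q (by omega))
  have h4 : q ^ 4 = (b + 1) ^ 2 := by rw [← hb, ← pow_mul]
  rw [hb, Nat.add_sub_cancel] at h3
  rw [t3] at h
  rcases hr.dvd_mul.1 h with h5 | h5
  · have h6 : r ∣ q ^ 2 + 1 := h5.trans (Nat.div_dvd_of_dvd (Nat.gcd_dvd_left _ _))
    have h7 : r ∣ 2 := by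
      rw [hb, show b + 1 + 1 = b + 2 by ring] at h6
      exact (Nat.dvd_add_right h3).1 h6
    have h8 : r = 2 := (Nat.prime_dvd_prime_iff_eq hr Nat.prime_two).1 h7
    subst h8
    have h9 : Nat.gcd (q ^ 2 + 1) 2 = 2 := Nat.gcd_eq_right h6
    rw [h9] at h5
    have h10 := sq_mod_four q
    omega
  · have h6 : r ∣ q ^ 4 + q ^ 2 + 1 := h5.trans (Nat.div_dvd_of_dvd (Nat.gcd_dvd_left _ _))
    have e : q ^ 4 + q ^ 2 + 1 = b * (b + 3) + 3 := by rw [h4, hb]; ring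
    have h7 : r ∣ 3 := by
      rw [e] at h6
      exact (Nat.dvd_add_right (h3.mul_right _)).1 h6
    have h8 : r = 3 := (Nat.prime_dvd_prime_iff_eq hr Nat.prime_three).1 h7
    subst h8
    have h9 : Nat.gcd (q ^ 4 + q ^ 2 + 1) 3 = 3 := Nat.gcd_eq_right h6
    rw [h9, e] at h5
    obtain ⟨c, rfl⟩ := h3
    have e2 : 3 * c * (3 * c + 3) + 3 = 3 * (3 * (c * (c + 1)) + 1) := by ring
    rw [e2, Nat.mul_div_cancel_left _ (by norm_num)] at h5
    omega

theorem t3_ge {q : ℕ} : q ^ 6 ≤ t3 q * 6 := by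
  have h1 : q ^ 2 + 1 ≤ (q ^ 2 + 1) / Nat.gcd (q ^ 2 + 1) 2 * 2 := by
    calc q ^ 2 + 1 = (q ^ 2 + 1) / Nat.gcd (q ^ 2 + 1) 2 * Nat.gcd (q ^ 2 + 1) 2 :=
          (Nat.div_mul_cancel (Nat.gcd_dvd_left _ _)).symm
      _ ≤ _ := Nat.mul_le_mul_left _ (Nat.gcd_le_right _ (by norm_num))
  have h2 : q ^ 4 + q ^ 2 + 1 ≤ (q ^ 4 + q ^ 2 + 1) / Nat.gcd (q ^ 4 + q ^ 2 + 1) 3 * 3 := by
    calc q ^ 4 + q ^ 2 + 1 = (q ^ 4 + q ^ 2 + 1) / Nat.gcd (q ^ 4 + q ^ 2 + 1) 3 * Nat.gcd (q ^ 4 + q ^ 2 + 1) 3 :=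
          (Nat.div_mul_cancel (Nat.gcd_dvd_left _ _)).symm
      _ ≤ _ := Nat.mul_le_mul_left _ (Nat.gcd_le_right _ (by norm_num))
  rw [t3]
  calc q ^ 6 ≤ (q ^ 2 + 1) * (q ^ 4 + q ^ 2 + 1) := by
        have : (q ^ 2 + 1) * (q ^ 4 + q ^ 2 + 1) = q ^ 6 + (2 * q ^ 4 + 2 * q ^ 2 + 1) := by ring
        omega
    _ ≤ _ := Nat.mul_le_mul h1 h2
    _ = _ := by ring

theorem three_large (hc : Cr 3 p f M X v g MS I) (hq : 11 ≤ p ^ f) : False := by
  have hb2 : v ≠ 2 → v ∣ t3 (p ^ f) → P v M ≤ (p ^ f) ^ 2 + p ^ f + 1 := fun hv2 hvt =>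
    P_le_three hc.hY rfl hc.hX.hp hc.hvp hv2 (t3_order (by omega) hc.hX.hp hvt)
  have hb1 : P v M ≤ 16 * (p ^ f + 1) ^ 3 := by
    apply P_le_unif hc (by norm_num)
    · generalize p ^ f + 1 = x
      have : (4 * x) ^ 3 = 16 * x ^ 3 * 4 := by ring
      rw [this, Nat.mul_div_cancel _ (by norm_num)]
    · generalize p ^ f + 1 = x
      have : (16 * x ^ 3) ^ 2 = 256 * x ^ (2 * 3) := by ring
      rw [this]
      exact Nat.mul_le_mul_right _ (by norm_num)
  refine fin_large hc (by norm_num) (t := t3 (p ^ f)) (P1 := 16 * (p ^ f + 1) ^ 3) (P2 := (p ^ f) ^ 2 + p ^ f + 1)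
    (NB := p ^ f + 3) (C := 6) (D := (p ^ f) ^ 9) (t3_dvd (by omega)) ?_ ?_ hb1 hb2 ?_ ?_ ?_
  · intro r hr hd
    exact t3_order (by omega) hr hd
  · have : cn 3 = 3 := rfl
    rw [this]
    have h1 := t3_ge (q := p ^ f)
    generalize p ^ f = q at *
    calc q ^ 9 = q ^ 3 * q ^ 6 := by rw [← pow_add]
      _ ≤ q ^ 3 * (t3 q * 6) := Nat.mul_le_mul_left _ h1
      _ = _ := by ring
  · exact three_c _ hq
  · exact three_a hq
  · exact three_b hq

end Cfsg.Agent.H364.SpLarge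

private theorem dce_eef42e60fa2a : _root_.True := by
  try have : _root_.True := by simp only [_root_.Cfsg.Agent.H364.SpLarge.t3.eq_1]
  exact _root_.True.intro
end

-- part: H364/CycFrat_mg
section
set_option linter.all false
open scoped Cfsg.Agent.FastGrp

-- part: H364/CycFrat
section
/-!
# Primes with cyclic Sylow subgroups dividing the order of the radical (helper364)
-/

set_option autoImplicit false

namespace Cfsg.Agent.H364.CycFrat

open Subgroup Cfsg.Agent.H364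
open scoped commutatorElement

theorem isCyclic_of_sylow {G : Type*} [Group G] [Finite G] {r : ℕ} [Fact r.Prime]
    (hcyc : ∃ x : G, orderOf x = r ^ (Nat.card G).factorization r) {Q : Subgroup G} (hQ : IsPGroup r Q) :
    IsCyclic Q := by
  obtain ⟨x, hx⟩ := hcyc
  let P0 : Sylow r G := Sylow.ofCard (zpowers x) (by rw [Nat.card_zpowers, hx])
  have hP0 : IsCyclic (P0 : Subgroup G) := by
    show IsCyclic (zpowers x)
    infer_instance
  obtain ⟨P1, hP1⟩ := hQ.exists_le_sylow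
  have e : (P0 : Subgroup G) ≃* (P1 : Subgroup G) := Sylow.equiv P0 P1
  have hP1c : IsCyclic (P1 : Subgroup G) := isCyclic_of_surjective e.toMonoidHom e.surjective
  exact isCyclic_of_injective (Subgroup.inclusion hP1) (Subgroup.inclusion_injective hP1)

/-- **Lemma A**: `r` divides the order of the normal subgroup `K`, the Sylow `r`-subgroups of `G` are cyclic; then `r` is adjacent
to the prime divisors of the orders of the perfect subgroups of `G / K`. -/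
theorem exists_orderOf_mul {G : Type*} [Group G] [Finite G] (K : Subgroup G) [K.Normal] {r s : ℕ} (hr : r.Prime)
    (hs : s.Prime) (hrs : r ≠ s) (hcyc : ∃ x : G, orderOf x = r ^ (Nat.card G).factorization r)
    (hrK : r ∣ Nat.card K) (S : Subgroup (G ⧸ K)) (hS : ⁅S, S⁆ = S) (hsS : s ∣ Nat.card S) :
    ∃ x : G, orderOf x = r * s := by
  have := Fact.mk hr
  have := Fact.mk hs
  obtain ⟨Q⟩ : Nonempty (Sylow r K) := inferInstance
  set Q' : Subgroup G := (Q : Subgroup K).map K.subtype with hQ'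
  have hQ'c : Nat.card Q' = Nat.card Q := by
    rw [hQ', Subgroup.card_map_of_injective K.subtype_injective]
  have hQp : IsPGroup r Q' := Q.isPGroup'.map K.subtype
  have hQcyc : IsCyclic Q' := isCyclic_of_sylow hcyc hQp
  set N : Subgroup G := normalizer (Q' : Set G) with hN
  have h1 : N ⊔ K = ⊤ := Sylow.normalizer_sup_eq_top Q
  let φ : N →* MulAut Q' := normalizerMonoidHom Q'
  have hcomm : ∀ a b : MulAut Q', a * b = b * a := by
    intro a b
    apply (IsCyclic.mulAutMulEquiv Q').injective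
    rw [map_mul, map_mul, mul_comm]
  set M : Subgroup G := S.comap (QuotientGroup.mk' K) ⊓ N with hM
  have hMmap : M.map (QuotientGroup.mk' K) = S := by
    apply le_antisymm
    · rintro _ ⟨x, hx, rfl⟩
      exact hx.1
    · intro y hy
      obtain ⟨g, rfl⟩ := QuotientGroup.mk'_surjective K y
      have hg : g ∈ N ⊔ K := by rw [h1]; trivial
      obtain ⟨a, ha, k, hk, rfl⟩ := Subgroup.mem_sup_of_normal_right.1 hg
      have h2 : (QuotientGroup.mk' K) (a * k) = (QuotientGroup.mk' K) a := by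
        rw [map_mul]
        have : (QuotientGroup.mk' K) k = 1 := (QuotientGroup.eq_one_iff k).2 hk
        rw [this, mul_one]
      rw [h2] at hy ⊢
      exact ⟨a, ⟨hy, ha⟩, rfl⟩
  have hD : (⁅M, M⁆).map (QuotientGroup.mk' K) = S := by
    rw [Subgroup.map_commutator, hMmap, hS]
  have hsD : s ∣ Nat.card (⁅M, M⁆ : Subgroup G) := by
    have h2 : Nat.card S ∣ Nat.card (⁅M, M⁆ : Subgroup G) := by
      rw [← hD]
      exact Subgroup.card_map_dvd _ _
    exact hsS.trans h2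
  obtain ⟨y, hy⟩ := exists_prime_orderOf_dvd_card' s hsD
  have hrQ : r ∣ Nat.card Q' := by
    rw [hQ'c]
    exact Q.dvd_card_of_dvd_card hrK
  obtain ⟨x, hx⟩ := exists_prime_orderOf_dvd_card' r hrQ
  -- commutators centralize
  have hcen : ⁅M, M⁆ ≤ centralizer (Q' : Set G) := by
    rw [Subgroup.commutator_le]
    intro a ha b hb
    have ha' : a ∈ N := ha.2
    have hb' : b ∈ N := hb.2
    have h3 : φ ⁅(⟨a, ha'⟩ : N), ⟨b, hb'⟩⁆ = 1 := by
      rw [map_commutatorElement, commutatorElement_eq_one_iff_mul_comm]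
      exact hcomm _ _
    have h4 : ⁅(⟨a, ha'⟩ : N), ⟨b, hb'⟩⁆ ∈ φ.ker := h3
    rw [Subgroup.normalizerMonoidHom_ker] at h4
    exact h4
  have hxy : Commute (x : G) (y : G) := by
    have h5 := hcen y.2
    rw [mem_centralizer_iff] at h5
    exact h5 x x.2
  refine ⟨x * y, ?_⟩
  rw [hxy.orderOf_mul_eq_mul_orderOf_of_coprime]
  · rw [Subgroup.orderOf_coe, Subgroup.orderOf_coe, hx, hy]
  · rw [Subgroup.orderOf_coe, Subgroup.orderOf_coe, hx, hy]
    exact (Nat.coprime_primes hr hs).2 hrs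

end Cfsg.Agent.H364.CycFrat
end

-- part: H364/SpCyc
section
/-!
# Elements of order `|G|_r` in the symplectic and odd-dimensional orthogonal groups (helper364)
-/

set_option autoImplicit false
set_option linter.unusedSectionVars false

namespace Cfsg.Agent.H364.SpCyc

open Cfsg Cfsg.Agent.H377 Cfsg.Agent.H72.AdjOrth Cfsg.Agent.H150

variable {F : Type*} [Field F] [Finite F] {n : ℕ}

/-- elements of odd order extend to larger symplectic groups -/
theorem psp_extend {e b N : ℕ} (he : 1 ≤ e) (hN : Odd N) (g : PSp e F) (hg : orderOf g = N) :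
    ∃ h : PSp (e + b) F, orderOf h = N := by
  rcases Nat.eq_zero_or_pos b with rfl | hb
  · exact ⟨g, hg⟩
  obtain ⟨A, rfl⟩ := QuotientGroup.mk_surjective g
  have hTj : ∀ j, ((spLin A) ^ j = 1 ∨ (spLin A) ^ j = -1) ↔ N ∣ j := fun j => by
    rw [← spLin_pow_iff he, ← hg, orderOf_dvd_iff_pow_eq_one]
  have hS : ∀ j, (spLin (A ^ 2)) ^ j = (spLin A) ^ (2 * j) := fun j => by
    have h1 : spLin (A ^ 2) = (spLin A) ^ 2 := by
      unfold spLin
      rw [← map_pow]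
      rfl
    rw [h1, ← pow_mul]
  have h1 : spLin (1 : Matrix.symplecticGroup (Fin b) F) = 1 := by
    unfold spLin
    show Matrix.toLinAlgEquiv' (1 : Matrix _ _ F) = 1
    rw [map_one]
  have h2N : ∀ j, N ∣ 2 * j ↔ N ∣ j := fun j =>
    ⟨fun h => (Nat.Coprime.dvd_of_dvd_mul_left (Nat.coprime_two_right.2 hN) h), fun h => h.mul_left 2⟩
  refine exists_psp_of_prod he (A ^ 2) (1 : Matrix.symplecticGroup (Fin b) F) fun j => ?_
  rw [hS, h1, one_pow]
  constructor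
  · rintro (⟨h, -⟩ | ⟨h, -⟩)
    · exact (h2N j).1 ((hTj _).1 (Or.inl h))
    · exact (h2N j).1 ((hTj _).1 (Or.inr h))
  · intro h
    left
    refine ⟨?_, rfl⟩
    have h3 := (hTj j).2 h
    rw [mul_comm, pow_mul]
    rcases h3 with h3 | h3
    · rw [h3, one_pow]
    · rw [h3]; exact even_neg_one_pow_end even_two

theorem psp_tn {k N : ℕ} (hk : 1 ≤ k) (hN : Odd N) (h : N ∣ tn (Nat.card F) k) (hn : eta k ≤ n) :
    ∃ g : PSp n F, orderOf g = N := by
  have he := eta_pos hk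
  have key : ∃ g : PSp (eta k) F, orderOf g = N := by
    rw [tn] at h
    by_cases hev : Even k
    · rw [if_pos hev] at h
      rw [eta, if_pos hev]
      exact exists_psp_tor_minus (by obtain ⟨j, rfl⟩ := hev; omega) hN.pos (Or.inl ⟨hN, h⟩)
    · rw [if_neg hev] at h
      rw [eta, if_neg hev]
      exact exists_psp_tor_plus hk hN.pos (Or.inl ⟨hN, h⟩)
  obtain ⟨g, hg⟩ := key
  have key2 : ∀ m, m = n → (∃ h : PSp m F, orderOf h = N) → ∃ h : PSp n F, orderOf h = N := by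
    rintro m rfl h
    exact h
  exact key2 _ (by omega) (psp_extend (b := n - eta k) he hN g hg)

theorem omega_tn (h2 : (2 : F) ≠ 0) (hn3 : 3 ≤ n) {k N : ℕ} (hk : 1 ≤ k) (hN : Odd N) (h : N ∣ tn (Nat.card F) k)
    (hn : eta k ≤ n) : ∃ g : POmega F (quadFormOdd n F), orderOf g = N := by
  have ho : Nat.Coprime N 2 := Nat.coprime_two_right.2 hN
  obtain ⟨δ, h3⟩ : ∃ δ : ℤ, Elt F n δ N := by
    rcases Nat.eq_or_lt_of_le hn with h4 | h4
    · rw [← h4]
      exact ⟨_, elt_tn hk h⟩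
    · exact ⟨1, elt_extend (elt_tn hk h) (sg_pm k) (Or.inl rfl) h4⟩
  exact exists_odd_of_elt h2 hn3 h3 fun j =>
    ⟨fun h5 => ho.dvd_of_dvd_mul_left h5, fun h5 => Dvd.dvd.mul_left h5 2⟩

theorem eta_ee (q r : ℕ) : eta (ee q r) = orderOf ((q ^ 2 : ℕ) : ZMod r) := by
  rw [Nat.cast_pow, orderOf_pow' _ (by norm_num), eta, ee]
  split_ifs with h
  · rw [Nat.gcd_eq_right h.two_dvd]
  · have h1 : Nat.gcd (orderOf (q : ZMod r)) 2 = 1 :=
      Nat.coprime_two_right.2 (Nat.not_even_iff_odd.1 h)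
    rw [h1, Nat.div_one]

open Cfsg.Agent.H902.Art Cfsg.Agent.H902.Lte in
/-- the `r`-part of `|C_n(q)|` divides the order of a torus -/
theorem P_dvd_tn {q r n : ℕ} (hr : r.Prime) (hr2 : r ≠ 2) (hq : 2 ≤ q) (hrq : ¬ r ∣ q)
    (h1 : n / 2 < eta (ee q r)) (h2 : eta (ee q r) ≤ n) : P r (SpVal.AA n q) ∣ tn q (ee q r) := by
  have h1' := h1
  have h2' := h2
  rw [eta_ee] at h1' h2'
  rw [SpSix.P_eq_of_order hr hr2 hq hrq h1' h2', ← eta_ee]
  have hpos := ee_pos hr hrq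
  have hd := dvd_tn (r := r) (q := q) (by omega) hr hrq
  set e := ee q r with he
  have hi : 1 ≤ eta e := eta_pos hpos
  have hqe : 1 < q ^ eta e := Nat.one_lt_pow (by omega) (by omega)
  have hfac : q ^ (2 * eta e) - 1 = (q ^ eta e - 1) * (q ^ eta e + 1) := by
    obtain ⟨a, ha⟩ := Nat.exists_eq_add_of_le' hqe.le
    rw [two_mul, pow_add, ha]
    have : (a + 1) * (a + 1) = a * (a + 1 + 1) + 1 := by ring
    rw [this]
    simp
  have hodd : ¬ r ∣ 2 := fun h => hr2 ((Nat.prime_dvd_prime_iff_eq hr Nat.prime_two).1 h)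
  have hne1 : q ^ eta e - 1 ≠ 0 := by omega
  have hne2 : q ^ eta e + 1 ≠ 0 := by omega
  have hnot : ∀ {a b : ℕ}, a + 2 = b → r ∣ a → ¬ r ∣ b := fun {a b} hab ha hb => by
    subst hab
    exact hodd ((Nat.dvd_add_right ha).1 hb)
  rw [hfac, P_mul hne1 hne2]
  have hab : (q ^ eta e - 1) + 2 = q ^ eta e + 1 := by omega
  by_cases hev : Even e
  · have h3 : tn q e = q ^ eta e + 1 := by rw [tn, eta, if_pos hev, if_pos hev]
    rw [h3] at hd ⊢
    rw [P_eq_one (fun h => hnot hab h hd), one_mul]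
    exact Nat.ordProj_dvd _ _
  · have h3 : tn q e = q ^ eta e - 1 := by rw [tn, eta, if_neg hev, if_neg hev]
    rw [h3] at hd ⊢
    rw [P_eq_one (a := q ^ eta e + 1) (hnot hab hd), mul_one]
    exact Nat.ordProj_dvd _ _

end Cfsg.Agent.H364.SpCyc
end

private theorem dce_2df0699f850c : _root_.True := by
  try have : _root_.True := by simp only [_root_.Cfsg.Agent.H72.AdjOrth.ee.eq_1]
  exact _root_.True.intro
end

-- part: H364/SpShape
section
prune_inst 0x340449800000000000004200200400000100000000012940060201084260804228000800150e122492000800000002100010400000000a00300000020000002a4600836c0308280000001007180c00000000000000000000000000000000000000000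
set_option linter.all false
open scoped Cfsg.Agent.FastGrp

/-!
# The shape in the natural characteristic: no `p`-chief factors below `S` for `C_n` (helper364)
-/

set_option autoImplicit false

namespace Cfsg.Agent.H364.SpShape

open Cfsg.Agent.H902.Lte Cfsg.Agent.H902.Art Cfsg.Agent.H365.Near

variable {X Y : Sh} {p g f M M' : ℕ}

theorem delta_lt2 {δ G : ℕ} (hp : p.Prime) (h24 : p ^ δ ∣ 24 * g) (h6 : p = 2 → 2 ^ δ ∣ 6 * g) (hg : 1 ≤ g)
    (hG : 2 * g ≤ G) (hG6 : 6 ≤ G) : 2 * δ < G := by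
  by_cases hδ0 : δ = 0
  · omega
  by_cases hp2 : p = 2
  · subst hp2
    have h7 := h6 rfl
    have h8 : 2 ^ (δ - 1) ∣ g := by
      have h9 : 2 ^ δ ∣ 2 * (3 * g) := by rw [← mul_assoc]; exact h7
      have h10 : 2 * 2 ^ (δ - 1) ∣ 2 * (3 * g) := by
        have : 2 * 2 ^ (δ - 1) = 2 ^ δ := by
          rw [← pow_succ']; congr 1; omega
        rw [this]; exact h9
      have h11 := Nat.dvd_of_mul_dvd_mul_left (by norm_num) h10
      exact (Nat.Coprime.pow_left _ (by norm_num)).dvd_of_dvd_mul_left h11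
    have h9 := Nat.le_of_dvd (by omega) h8
    by_cases h10 : 3 ≤ δ
    · have := lt_pow' h10
      omega
    · omega
  by_cases hp3 : p = 3
  · subst hp3
    have h8 : 3 ^ (δ - 1) ∣ g := by
      have h10 : 3 * 3 ^ (δ - 1) ∣ 3 * (8 * g) := by
        have : 3 * 3 ^ (δ - 1) = 3 ^ δ := by
          rw [← pow_succ']; congr 1; omega
        rw [this, ← mul_assoc]; exact h24
      have h11 := Nat.dvd_of_mul_dvd_mul_left (by norm_num) h10
      exact (Nat.Coprime.pow_left _ (by norm_num)).dvd_of_dvd_mul_left h11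
    have h9 := Nat.le_of_dvd (by omega) h8
    by_cases h10 : δ = 1
    · omega
    · have h11 : δ - 1 + 1 < 3 ^ (δ - 1) := by
        have h12 : ∀ k : ℕ, 1 ≤ k → k + 1 < 3 ^ k := by
          intro k hk
          induction k, hk using Nat.le_induction with
          | base => norm_num
          | succ k hk ih => rw [pow_succ]; omega
        exact h12 _ (by omega)
      omega
  · have h5 : 5 ≤ p := by
      have := hp.two_le
      by_contra h
      have h7 : p = 4 := by omega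
      rw [h7] at hp; exact absurd hp (by decide)
    have hc : Nat.Coprime p 24 := by
      rw [hp.coprime_iff_not_dvd]
      intro h
      have h7 : p ∣ 2 ^ 3 * 3 := h
      rcases hp.dvd_mul.1 h7 with h8 | h8
      · exact hp2 ((Nat.prime_dvd_prime_iff_eq hp Nat.prime_two).1 (hp.dvd_of_dvd_pow h8))
      · exact hp3 ((Nat.prime_dvd_prime_iff_eq hp Nat.prime_three).1 h8)
    have h8 : p ^ δ ∣ g := (Nat.Coprime.pow_left _ hc).dvd_of_dvd_mul_left h24
    have h9 := Nat.le_of_dvd (by omega) h8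
    have h10 : δ < p ^ δ := Nat.lt_pow_self (by omega)
    omega

/-- the combinatorial part -/
theorem shape_j {n j : ℕ} (hX : Real X p g M') (hn : 3 ≤ n) (hk : kap X + 4 * j = 2 * n)
    (hB : (n - 1) * DM X ≤ n * BM X) : j = 0 := by
  have hok := hX.ok
  obtain ⟨m, rfl⟩ : ∃ m, n = m + 3 := ⟨n - 3, by omega⟩
  rw [show m + 3 - 1 = m + 2 by omega] at hB
  cases X with
  | L l =>
    have hl : 2 ≤ l := hok.1
    have h1 : 2 * (l - 1) + 4 * j = 2 * (m + 3) := hk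
    have h2 : (m + 2) * l ≤ (m + 3) * (l - 1) := hB
    obtain ⟨a, rfl⟩ : ∃ a, l = a + 1 := ⟨l - 1, by omega⟩
    rw [Nat.add_sub_cancel] at h1 h2
    linarith only [h1, h2]
  | C l =>
    have hl : 2 ≤ l := hok.1
    have h1 : 2 * l + 4 * j = 2 * (m + 3) := hk
    have h2 : (m + 2) * (2 * l) ≤ (m + 3) * (2 * (l - 1)) := hB
    obtain ⟨a, rfl⟩ : ∃ a, l = a + 1 := ⟨l - 1, by omega⟩
    rw [Nat.add_sub_cancel] at h2
    linarith only [h1, h2]
  | U l =>
    have hl : 3 ≤ l := hok.1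
    by_cases hev : Even l
    · have h1 : l + 4 * j = 2 * (m + 3) := by
        have : kap (.U l) = l := if_pos hev
        rw [this] at hk; exact hk
      have h3 : DM (.U l) = 2 * (l - 1) := if_pos hev
      have h4 : BM (.U l) = if l = 4 then 4 else 2 * (l - 3) := if_pos hev
      rw [h3, h4] at hB
      split_ifs at hB with h5
      · subst h5
        omega
      · obtain ⟨a, rfl⟩ : ∃ a, l = a + 3 := ⟨l - 3, by omega⟩
        rw [show a + 3 - 1 = a + 2 by (clear * -; omega), show a + 3 - 3 = a by omega] at hB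
        linarith only [h1, hB]
    · have h1 : l - 1 + 4 * j = 2 * (m + 3) := by
        have : kap (.U l) = l - 1 := if_neg hev
        rw [this] at hk; exact hk
      have h3 : DM (.U l) = 2 * l := if_neg hev
      have h4 : BM (.U l) = 2 * (l - 2) := if_neg hev
      rw [h3, h4] at hB
      obtain ⟨a, rfl⟩ : ∃ a, l = a + 2 := ⟨l - 2, by omega⟩
      rw [show a + 2 - 2 = a by omega] at hB
      rw [show a + 2 - 1 = a + 1 by omega] at h1
      linarith only [hB, h1]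
  | D l =>
    have hl : 4 ≤ l := hok
    have h1 : 2 * l + 4 * j = 2 * (m + 3) := hk
    have h2 : (m + 2) * (2 * (l - 1)) ≤ (m + 3) * (2 * (l - 2)) := hB
    obtain ⟨a, rfl⟩ : ∃ a, l = a + 2 := ⟨l - 2, by omega⟩
    rw [show a + 2 - 1 = a + 1 by omega, show a + 2 - 2 = a by omega] at h2
    linarith only [h1, h2]
  | DD l =>
    have hl : 4 ≤ l := hok
    have h1 : 2 * (l - 1) + 4 * j = 2 * (m + 3) := hk
    have h2 : (m + 2) * (2 * l) ≤ (m + 3) * (2 * (l - 1)) := hB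
    obtain ⟨a, rfl⟩ : ∃ a, l = a + 1 := ⟨l - 1, by omega⟩
    rw [Nat.add_sub_cancel] at h1 h2
    linarith only [h1, h2]
  | G2 =>
    have h2 : (m + 2) * 6 ≤ (m + 3) * 2 := hB
    omega
  | F4 =>
    have h1 : 8 + 4 * j = 2 * (m + 3) := hk
    have h2 : (m + 2) * 12 ≤ (m + 3) * 8 := hB
    omega
  | E6 =>
    have h1 : 12 + 4 * j = 2 * (m + 3) := hk
    have h2 : (m + 2) * 12 ≤ (m + 3) * 9 := hB
    omega
  | E7 =>
    have h1 : 14 + 4 * j = 2 * (m + 3) := hk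
    have h2 : (m + 2) * 18 ≤ (m + 3) * 14 := hB
    omega
  | E8 =>
    have h1 : 16 + 4 * j = 2 * (m + 3) := hk
    have h2 : (m + 2) * 30 ≤ (m + 3) * 24 := hB
    omega
  | TE6 =>
    have h2 : (m + 2) * 18 ≤ (m + 3) * 12 := hB
    have h1 : 8 + 4 * j = 2 * (m + 3) := hk
    omega
  | TD4 =>
    have h2 : (m + 2) * 12 ≤ (m + 3) * 6 := hB
    omega
  | Sz =>
    have h2 : (m + 2) * 4 ≤ (m + 3) * 1 := hB
    omega
  | Ree =>
    have h2 : (m + 2) * 6 ≤ (m + 3) * 1 := hB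
    omega
  | TF4 =>
    have h2 : (m + 2) * 12 ≤ (m + 3) * 6 := hB
    omega

/-- **The shape of `S` in the natural characteristic.** -/
theorem same_char {n j δ r s : ℕ} (hX : Real X p g M') (hY : Real (.C n) p f M) (hn : 3 ≤ n) (hdvd : M' ∣ M)
    (hr : r.Prime) (hro : orderOf (p : ZMod r) = f * (2 * n)) (hrM : r ∣ M')
    (hs : s.Prime) (hso : orderOf (p : ZMod s) = f * (2 * n - 2)) (hsM : s ∣ M')
    (hexp : g * NN X + 2 * n * f * j + δ = f * n ^ 2) (h24 : p ^ δ ∣ 24 * g) (h6 : p = 2 → 2 ^ δ ∣ 6 * g) :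
    M' = M ∧ j = 0 := by
  have hf := hY.hf
  have hg := hX.hf
  have hDY : DM (.C n) = 2 * n := rfl
  have h3n : f * 3 ≤ f * n := Nat.mul_le_mul_left f hn
  have hG6 : 6 ≤ f * DM (.C n) := by rw [hDY]; linarith only [hf, h3n]
  have hD : g * DM X = f * DM (.C n) := by
    rcases D_cases hX hY hdvd hr (by rw [hDY]; exact hro) (by omega) hrM with h | ⟨-, -, h⟩
    · exact h
    · omega
  have hge := (DM_ge hX).1
  have h2g : 2 * g ≤ f * DM (.C n) := by rw [← hD]; nlinarith only [hge]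
  have hδ := delta_lt2 hX.hp h24 h6 hg h2g hG6
  -- the invariant `kap`
  have h1 : 4 * (g * NN X) = (g * DM X) * kap X := by
    calc 4 * (g * NN X) = g * (4 * NN X) := by ring
      _ = _ := by rw [four_NN hX]; ring
  rw [hD, hDY] at h1
  rw [hDY] at hδ hG6
  have hk2 := kap_even hX
  have hk : kap X + 4 * j = 2 * n ∧ δ = 0 := by
    have h2 : f * (2 * n) * (kap X + 4 * j) + 4 * δ = f * (2 * n) * (2 * n) := by
      have e : 4 * (g * NN X + 2 * n * f * j + δ) = 4 * (f * n ^ 2) := by rw [hexp]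
      have e2 : f * (2 * n) * (kap X + 4 * j) + 4 * δ = f * (2 * n) * kap X + 4 * (2 * n * f * j) + 4 * δ := by ring
      have e3 : f * (2 * n) * (2 * n) = 4 * (f * n ^ 2) := by ring
      rw [e2, e3, ← h1, ← e]; ring
    generalize f * (2 * n) = G at *
    have hG0 : 0 < G := by omega
    have h3 : kap X + 4 * j ≤ 2 * n := by
      by_contra hcon
      have h4 : G * (2 * n + 1) ≤ G * (kap X + 4 * j) := Nat.mul_le_mul_left _ (by omega)
      have h5 : G * (2 * n + 1) = G * (2 * n) + G := by ring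
      omega
    have h6 : ¬ kap X + 4 * j < 2 * n := by
      intro hcon
      have h4 : G * (kap X + 4 * j + 2) ≤ G * (2 * n) := Nat.mul_le_mul_left _ (by omega)
      have h5 : G * (kap X + 4 * j + 2) = G * (kap X + 4 * j) + 2 * G := by ring
      omega
    have h7 : kap X + 4 * j = 2 * n := by (clear * - h3 h6; omega)
    refine ⟨h7, ?_⟩
    rw [h7] at h2
    omega
  obtain ⟨hk, rfl⟩ := hk
  -- the second exponent
  have hsp : s ≠ p := ne_of_order hs (show 1 ≤ f * (2 * n - 2) from Nat.mul_pos hf (by (clear * - hn; omega))) hso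
  have hB : (n - 1) * DM X ≤ n * BM X := by
    rcases hX.order_cases hs hsp hsM with h | ⟨e, he, heB, h⟩
    · exfalso
      rw [hso, hD, hDY] at h
      have h4 : 2 * n - 2 ∣ 2 * n := Nat.dvd_of_mul_dvd_mul_left hf h
      have h5 : 2 * n - 2 ∣ 2 := by
        have := Nat.dvd_sub h4 (dvd_refl (2 * n - 2))
        rwa [show 2 * n - (2 * n - 2) = 2 by (clear * - hn; omega)] at this
      have := Nat.le_of_dvd (by norm_num) h5
      (clear * - hn this; omega)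
    · rw [hso] at h
      have h4 : f * (2 * n - 2) ≤ g * BM X :=
        (Nat.le_of_dvd (Nat.mul_pos hg he) h).trans (Nat.mul_le_mul_left _ heB)
      have h5 : f * (2 * n - 2) * DM X ≤ f * (2 * n) * BM X := by
        calc f * (2 * n - 2) * DM X ≤ g * BM X * DM X := Nat.mul_le_mul_right _ h4
          _ = g * DM X * BM X := by ring
          _ = _ := by rw [hD, hDY]
      obtain ⟨m, rfl⟩ : ∃ m, n = m + 1 := ⟨n - 1, by (clear * - hn; omega)⟩
      rw [show 2 * (m + 1) - 2 = 2 * m by omega] at h5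
      rw [Nat.add_sub_cancel]
      have h6 : (2 * f) * (m * DM X) ≤ (2 * f) * ((m + 1) * BM X) := by
        calc (2 * f) * (m * DM X) = f * (2 * m) * DM X := by ring
          _ ≤ _ := h5
          _ = _ := by ring
      exact Nat.le_of_mul_le_mul_left h6 (by omega)
  have hj := shape_j hX hn hk hB
  refine ⟨?_, hj⟩
  subst hj
  have hN : f * NN (.C n) - g * NN X = 0 := by
    have : NN (.C n) = n ^ 2 := rfl
    rw [this]
    omega
  rcases near_out hX hY hdvd hr (by rw [hDY]; exact hro) (by rw [hDY]; omega) hrM (by rw [hN]; exact one_dvd _)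
    (by rw [hN]; exact fun _ => one_dvd _) with ⟨rfl, rfl⟩ | h
  · have h1 := hX.eq
    rw [← hY.eq] at h1
    exact Nat.eq_of_mul_eq_mul_left (Nat.pos_of_ne_zero hY.dd_ne) h1
  · exfalso
    simp only [Exc, Sh.C.injEq, reduceCtorEq, false_and, and_false, or_false, false_or, exists_false] at h
    obtain ⟨-, h, -⟩ := h
    omega

end Cfsg.Agent.H364.SpShape

private theorem dce_324af1da1836 : _root_.True := by
  try have : _root_.True := by simp only [_root_.Cfsg.Agent.H365.Near.Exc.eq_1]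
  exact _root_.True.intro
end

-- part: H360/Dp/Same
section
set_option linter.all false
open scoped Cfsg.Agent.FastGrp

/-!
# `PΩ⁺(2n, q)`, `n ≥ 6` even: the shape of the simple factor in the natural characteristic (helper360)
-/

set_option autoImplicit false

namespace Cfsg.Agent.H360.Dp

open Cfsg.Agent.H902.Lte Cfsg.Agent.H902.Art Cfsg.Agent.H365.Near Cfsg.Agent.H364.SpShape Cfsg.Agent.Lib.Zsigmondy

variable {X : Sh} {p g f M M' : ℕ}

/-- the combinatorial part -/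
theorem shape_j {n j : ℕ} (hX : Real X p g M') (hn : 6 ≤ n) (hk : kap X + 4 * j = 2 * n)
    (hB : (n - 2) * DM X ≤ (n - 1) * BM X) : j = 0 ∨ (j = 1 ∧ (X = .L (n - 1) ∨ X = .DD (n - 1))) := by
  have hok := hX.ok
  obtain ⟨m, rfl⟩ : ∃ m, n = m + 2 := ⟨n - 2, by omega⟩
  rw [show m + 2 - 2 = m by omega, show m + 2 - 1 = m + 1 by omega] at *
  have key : ∀ {a c d : ℕ}, m * (c * (a + d)) ≤ (m + 1) * (c * a) → 1 ≤ c → d * m ≤ a := by
    intro a c d h hc
    have h1 : c * (m * (a + d)) ≤ c * ((m + 1) * a) := by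
      calc c * (m * (a + d)) = m * (c * (a + d)) := by ring
        _ ≤ _ := h
        _ = _ := by ring
    have h2 := Nat.le_of_mul_le_mul_left h1 (by omega)
    have e1 : m * (a + d) = m * a + d * m := by ring
    have e2 : (m + 1) * a = m * a + a := by ring
    omega
  cases X with
  | L l =>
    have hl : 2 ≤ l := hok.1
    have h1 : 2 * (l - 1) + 4 * j = 2 * (m + 2) := hk
    have h2 : m * l ≤ (m + 1) * (l - 1) := hB
    obtain ⟨a, rfl⟩ : ∃ a, l = a + 1 := ⟨l - 1, by omega⟩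
    rw [Nat.add_sub_cancel] at h1 h2
    have h3 := key (a := a) (c := 1) (d := 1) (by rw [one_mul, one_mul]; exact h2) le_rfl
    by_cases hj : j = 0
    · exact Or.inl hj
    · right
      refine ⟨by omega, Or.inl ?_⟩
      congr 1
      omega
  | C l =>
    have hl : 2 ≤ l := hok.1
    have h1 : 2 * l + 4 * j = 2 * (m + 2) := hk
    have h2 : m * (2 * l) ≤ (m + 1) * (2 * (l - 1)) := hB
    obtain ⟨a, rfl⟩ : ∃ a, l = a + 1 := ⟨l - 1, by omega⟩
    rw [Nat.add_sub_cancel] at h2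
    have h3 := key h2 (by norm_num)
    omega
  | U l =>
    have hl : 3 ≤ l := hok.1
    by_cases hev : Even l
    · have h1 : l + 4 * j = 2 * (m + 2) := by
        have : kap (.U l) = l := if_pos hev
        rw [this] at hk; exact hk
      have h3 : DM (.U l) = 2 * (l - 1) := if_pos hev
      have h4 : BM (.U l) = if l = 4 then 4 else 2 * (l - 3) := if_pos hev
      rw [h3, h4] at hB
      split_ifs at hB with h5
      · subst h5
        omega
      · have : l ≠ 3 := by rintro rfl; exact absurd hev (by decide)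
        obtain ⟨a, rfl⟩ : ∃ a, l = a + 3 := ⟨l - 3, by omega⟩
        rw [show a + 3 - 1 = a + 2 by omega, show a + 3 - 3 = a by omega] at hB
        have h6 := key hB (by norm_num)
        omega
    · have h1 : l - 1 + 4 * j = 2 * (m + 2) := by
        have : kap (.U l) = l - 1 := if_neg hev
        rw [this] at hk; exact hk
      have h3 : DM (.U l) = 2 * l := if_neg hev
      have h4 : BM (.U l) = 2 * (l - 2) := if_neg hev
      rw [h3, h4] at hB
      obtain ⟨a, rfl⟩ : ∃ a, l = a + 2 := ⟨l - 2, by omega⟩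
      rw [show a + 2 - 2 = a by omega] at hB
      have h6 := key hB (by norm_num)
      omega
  | D l =>
    have hl : 4 ≤ l := hok
    have h1 : 2 * l + 4 * j = 2 * (m + 2) := hk
    have h2 : m * (2 * (l - 1)) ≤ (m + 1) * (2 * (l - 2)) := hB
    obtain ⟨a, rfl⟩ : ∃ a, l = a + 2 := ⟨l - 2, by omega⟩
    rw [show a + 2 - 1 = a + 1 by omega, show a + 2 - 2 = a by omega] at h2
    have h3 := key h2 (by norm_num)
    omega
  | DD l =>
    have hl : 4 ≤ l := hok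
    have h1 : 2 * (l - 1) + 4 * j = 2 * (m + 2) := hk
    have h2 : m * (2 * l) ≤ (m + 1) * (2 * (l - 1)) := hB
    obtain ⟨a, rfl⟩ : ∃ a, l = a + 1 := ⟨l - 1, by omega⟩
    rw [Nat.add_sub_cancel] at h1 h2
    have h3 := key h2 (by norm_num)
    by_cases hj : j = 0
    · exact Or.inl hj
    · right
      refine ⟨by omega, Or.inr ?_⟩
      congr 1
      omega
  | G2 =>
    have h2 : m * 6 ≤ (m + 1) * 2 := hB
    omega
  | F4 =>
    have h2 : m * 12 ≤ (m + 1) * 8 := hB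
    omega
  | E6 =>
    have h2 : m * 12 ≤ (m + 1) * 9 := hB
    omega
  | E7 =>
    have h2 : m * 18 ≤ (m + 1) * 14 := hB
    omega
  | E8 =>
    have h1 : 16 + 4 * j = 2 * (m + 2) := hk
    have h2 : m * 30 ≤ (m + 1) * 24 := hB
    omega
  | TE6 =>
    have h2 : m * 18 ≤ (m + 1) * 12 := hB
    omega
  | TD4 =>
    have h2 : m * 12 ≤ (m + 1) * 6 := hB
    omega
  | Sz =>
    have h2 : m * 4 ≤ (m + 1) * 1 := hB
    omega
  | Ree =>
    have h2 : m * 6 ≤ (m + 1) * 1 := hB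
    omega
  | TF4 =>
    have h2 : m * 12 ≤ (m + 1) * 6 := hB
    omega

/-- a primitive prime divisor of `q ^ (n - 1) - 1` does not divide `|PΩ⁻(2 (n - 1), q)|`, `n` even -/
theorem not_DD {n t : ℕ} (hX : Real (.DD (n - 1)) p f M') (hn : 6 ≤ n) (hev : Even n) (ht : t.Prime)
    (hto : orderOf (p : ZMod t) = f * (n - 1)) (htM : t ∣ M') : False := by
  have hp := hX.hp
  have hf := hX.hf
  have htp : t ≠ p := ne_of_order ht (show 1 ≤ f * (n - 1) from Nat.mul_pos hf (by omega)) hto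
  have h1 := hX.dvd_num_of_dvd ht htp htM
  have ht2 : t ≠ 2 := by
    rintro rfl
    have h5 : 1 < f * (n - 1) := by
      calc 1 < n - 1 := by omega
        _ ≤ _ := Nat.le_mul_of_pos_left _ hf
    have h2 : (p : ZMod 2) = 0 ∨ (p : ZMod 2) = 1 := by
      generalize (p : ZMod 2) = x
      revert x
      decide
    have h3 : (p : ZMod 2) ^ (f * (n - 1)) = 1 := by rw [← hto]; exact pow_orderOf_eq_one _
    rcases h2 with h2 | h2
    · rw [h2, zero_pow (by omega)] at h3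
      exact absurd h3 (by decide)
    · rw [h2, orderOf_one] at hto
      omega
  change t ∣ ((p ^ f) ^ (n - 1) + 1) * ∏ i ∈ Finset.range (n - 1 - 1), ((p ^ f) ^ (2 * (i + 1)) - 1) at h1
  rcases ht.dvd_mul.1 h1 with h2 | h2
  · have h3 : t ∣ (p ^ f) ^ (n - 1) - 1 := (dvd_iff hp _).2 (by rw [hto])
    have h4 := Nat.dvd_sub h2 h3
    have h5 : 1 ≤ (p ^ f) ^ (n - 1) := Nat.one_le_pow _ _ (pow_pos hp.pos _)
    rw [show (p ^ f) ^ (n - 1) + 1 - ((p ^ f) ^ (n - 1) - 1) = 2 by omega] at h4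
    exact ht2 ((Nat.prime_dvd_prime_iff_eq ht Nat.prime_two).1 h4)
  · obtain ⟨i, hi, h3⟩ := (ht.prime.dvd_finsetProd_iff _).1 h2
    rw [Finset.mem_range] at hi
    rw [dvd_iff hp, hto] at h3
    have h4 : n - 1 ∣ 2 * (i + 1) := Nat.dvd_of_mul_dvd_mul_left hf h3
    have h5 : Nat.Coprime (n - 1) 2 := by
      obtain ⟨m, hm⟩ := hev
      exact Nat.coprime_two_right.2 ⟨m - 1, by omega⟩
    have h6 := Nat.le_of_dvd (by omega) (h5.dvd_of_dvd_mul_left h4)
    omega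

/-- **The shape of `S` in the natural characteristic.** -/
theorem same_char {n j δ r s t : ℕ} (hX : Real X p g M') (hY : Real (.D n) p f M) (hn : 6 ≤ n) (hev : Even n)
    (hdvd : M' ∣ M)
    (hr : r.Prime) (hro : orderOf (p : ZMod r) = f * (2 * (n - 1))) (hrM : r ∣ M')
    (hs : s.Prime) (hso : orderOf (p : ZMod s) = f * (2 * (n - 2))) (hsM : s ∣ M')
    (ht : t.Prime) (hto : orderOf (p : ZMod t) = f * (n - 1)) (htM : X = .DD (n - 1) → g = f → t ∣ M')
    (hexp : g * NN X + f * (2 * (n - 1)) * j + δ = f * (n * (n - 1))) (h24 : p ^ δ ∣ 24 * g)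
    (h6 : p = 2 → 2 ^ δ ∣ 6 * g) : M' = M ∨ (X = .L (n - 1) ∧ g = 2 * f) := by
  have hf := hY.hf
  have hg := hX.hf
  have hDY : DM (.D n) = 2 * (n - 1) := rfl
  have hG10 : 10 ≤ f * DM (.D n) := by
    rw [hDY]
    calc 10 ≤ 2 * (n - 1) := by omega
      _ ≤ _ := Nat.le_mul_of_pos_left _ hf
  have hD : g * DM X = f * DM (.D n) := by
    rcases D_cases hX hY hdvd hr (by rw [hDY]; exact hro) (by omega) hrM with h | ⟨-, -, h⟩
    · exact h
    · omega
  have hge := (DM_ge hX).1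
  have h2g : 2 * g ≤ f * DM (.D n) := by rw [← hD]; nlinarith
  have hδ := delta_lt2 hX.hp h24 h6 hg h2g (by omega)
  -- the invariant `kap`
  have h1 : 4 * (g * NN X) = (g * DM X) * kap X := by
    calc 4 * (g * NN X) = g * (4 * NN X) := by ring
      _ = _ := by rw [four_NN hX]; ring
  rw [hD, hDY] at h1
  rw [hDY] at hδ hG10
  have hk2 := kap_even hX
  have hk : kap X + 4 * j = 2 * n ∧ δ = 0 := by
    have h2 : f * (2 * (n - 1)) * (kap X + 4 * j) + 4 * δ = f * (2 * (n - 1)) * (2 * n) := by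
      have e : 4 * (g * NN X + f * (2 * (n - 1)) * j + δ) = 4 * (f * (n * (n - 1))) := by rw [hexp]
      have e2 : f * (2 * (n - 1)) * (kap X + 4 * j) + 4 * δ =
        f * (2 * (n - 1)) * kap X + 4 * (f * (2 * (n - 1)) * j) + 4 * δ := by ring
      have e3 : f * (2 * (n - 1)) * (2 * n) = 4 * (f * (n * (n - 1))) := by ring
      rw [e2, e3, ← h1, ← e]; ring
    generalize f * (2 * (n - 1)) = G at *
    have h3 : kap X + 4 * j ≤ 2 * n := by
      by_contra hcon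
      have h4 : G * (2 * n + 1) ≤ G * (kap X + 4 * j) := Nat.mul_le_mul_left _ (by omega)
      have h5 : G * (2 * n + 1) = G * (2 * n) + G := by ring
      omega
    have h6 : ¬ kap X + 4 * j < 2 * n := by
      intro hcon
      have h4 : G * (kap X + 4 * j + 2) ≤ G * (2 * n) := Nat.mul_le_mul_left _ (by omega)
      have h5 : G * (kap X + 4 * j + 2) = G * (kap X + 4 * j) + 2 * G := by ring
      omega
    have h7 : kap X + 4 * j = 2 * n := by omega
    refine ⟨h7, ?_⟩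
    rw [h7] at h2
    omega
  obtain ⟨hk, rfl⟩ := hk
  -- the second exponent
  have hsp : s ≠ p := ne_of_order hs (show 1 ≤ f * (2 * (n - 2)) from Nat.mul_pos hf (by omega)) hso
  have hB : (n - 2) * DM X ≤ (n - 1) * BM X := by
    rcases hX.order_cases hs hsp hsM with h | ⟨e, he, heB, h⟩
    · exfalso
      rw [hso, hD, hDY] at h
      have h4 : 2 * (n - 2) ∣ 2 * (n - 1) := Nat.dvd_of_mul_dvd_mul_left hf h
      have h5 : 2 * (n - 2) ∣ 2 := by
        have := Nat.dvd_sub h4 (dvd_refl (2 * (n - 2)))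
        rwa [show 2 * (n - 1) - 2 * (n - 2) = 2 by omega] at this
      have := Nat.le_of_dvd (by norm_num) h5
      omega
    · rw [hso] at h
      have h4 : f * (2 * (n - 2)) ≤ g * BM X :=
        (Nat.le_of_dvd (Nat.mul_pos hg he) h).trans (Nat.mul_le_mul_left _ heB)
      have h5 : f * (2 * (n - 2)) * DM X ≤ f * (2 * (n - 1)) * BM X := by
        calc f * (2 * (n - 2)) * DM X ≤ g * BM X * DM X := Nat.mul_le_mul_right _ h4
          _ = g * DM X * BM X := by ring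
          _ = _ := by rw [hD, hDY]
      have h6 : (2 * f) * ((n - 2) * DM X) ≤ (2 * f) * ((n - 1) * BM X) := by
        calc (2 * f) * ((n - 2) * DM X) = f * (2 * (n - 2)) * DM X := by ring
          _ ≤ _ := h5
          _ = _ := by ring
      exact Nat.le_of_mul_le_mul_left h6 (by omega)
  rcases shape_j hX hn hk hB with rfl | ⟨rfl, rfl | rfl⟩
  · left
    have hN : f * NN (.D n) - g * NN X = 0 := by
      have : NN (.D n) = n * (n - 1) := rfl
      rw [this]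
      omega
    rcases near_out hX hY hdvd hr (by rw [hDY]; exact hro) (by rw [hDY]; omega) hrM (by rw [hN]; exact one_dvd _)
      (by rw [hN]; exact fun _ => one_dvd _) with ⟨rfl, rfl⟩ | h
    · have h1 := hX.eq
      rw [← hY.eq] at h1
      exact Nat.eq_of_mul_eq_mul_left (Nat.pos_of_ne_zero hY.dd_ne) h1
    · exfalso
      rcases h with ⟨-, h, -⟩ | ⟨-, h, -⟩ | ⟨_, -, -, h, -⟩ | ⟨-, h, -⟩ | ⟨-, h, -⟩ | ⟨-, h, -⟩ | ⟨-, h, -⟩ | ⟨-, h, -⟩ <;>
        exact absurd h (by simp)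
  · right
    refine ⟨rfl, ?_⟩
    have h2 : g * (n - 1) = f * (2 * (n - 1)) := hD
    have h3 : g * (n - 1) = (2 * f) * (n - 1) := by rw [h2]; ring
    exact Nat.eq_of_mul_eq_mul_right (by omega) h3
  · exfalso
    have h2 : g * (2 * (n - 1)) = f * (2 * (n - 1)) := hD
    have h3 : g = f := Nat.eq_of_mul_eq_mul_right (by omega) h2
    subst h3
    exact not_DD hX hn hev ht hto (htM rfl rfl)

end Cfsg.Agent.H360.Dp
end

-- part: H364/SpOut
section
prune_inst 0x340441800000000000004200200400000102004000012900020201084220800228000800110e122492000040000813000010421000000a00300000020000002b460203400108200000001004000000000000000000000000000000000000000000000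
set_option linter.all false
open scoped Cfsg.Agent.FastGrp

/-!
# `|Out S| ≤ dd X * NN X * f` (helper364)
-/

set_option autoImplicit false

namespace Cfsg.Agent.H364.SpOut

open Cfsg Cfsg.Agent.OrdDiv Finset
open Cfsg.Agent.H902 Cfsg.Agent.H902.Names Cfsg.Agent.H934.OutB Cfsg.Agent.H364.OutLie

universe u

/-- the conclusion -/
def Bl (S : Type u) [Group S] (X : Art.Sh) (p f : ℕ) : Prop :=
  Nat.card (Cfsg.Out S) ≤ Art.dd X (p ^ f) * Art.NN X * f

theorem Bl.of {S : Type u} [Group S] {X : Art.Sh} {p f : ℕ} (c : ℕ) (h : Nat.card (Cfsg.Out S) = c * f)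
    (h1 : c ≤ Art.dd X (p ^ f) * Art.NN X) : Bl S X p f := by
  rw [Bl, h]
  exact Nat.mul_le_mul_right _ h1

theorem tri {n : ℕ} (hn : 3 ≤ n) : 3 ≤ n * (n - 1) / 2 := by
  rw [Nat.le_div_iff_mul_le (by norm_num)]
  calc 3 * 2 ≤ n * (n - 1) := Nat.mul_le_mul hn (by omega)

theorem card_out_le {S : Type u} [Group S] [Finite S] [IsSimpleGroup S] (hna : ¬ ∀ a b : S, a * b = b * a)
    {g : Grp} {X : Art.Sh} {p f : ℕ} (hg : IsLie g X p f) (h : OrdDiv.Real g S) (hr : Art.Real X p f (Nat.card S)) :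
    Bl S X p f := by
  have hna' : ¬ IsMulCommutative S := fun hc => hna fun a b => hc.is_comm.comm a b
  have hdd := Nat.pos_of_ne_zero hr.dd_ne
  obtain ⟨hp, hf, hok, -⟩ := hr
  have hpf := Fact.mk hp
  cases hg with
  | psl n p f =>
    obtain ⟨F, _, _, hF, ⟨e⟩⟩ := h
    have h1 := Cfsg.Agent.S0813.result p f hf hF n hok.1 hok.2
    rw [card_pgl hok.1, hF] at h1
    have h2 : Nat.card (MulAut S) = ((if n = 2 then 1 else 2) * Nat.gcd n (p ^ f - 1) * f) * Nat.card S := by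
      rw [mulaut_congr e, h1, Nat.card_congr e.toEquiv]; ring
    refine Bl.of _ (card_out_of_aut hna' h2) ?_
    show _ ≤ Nat.gcd n (p ^ f - 1) * (n * (n - 1) / 2)
    rw [mul_comm]
    apply Nat.mul_le_mul_left
    have hn : 2 ≤ n := hok.1
    split_ifs with h3
    · subst h3; norm_num
    · have := tri (show 3 ≤ n by omega)
      omega
  | psp n p f =>
    obtain ⟨F, _, _, hF, ⟨e⟩⟩ := h
    have h1 := Cfsg.Agent.S0814.result p f hf hF n hok.1 hok.2
    have h2 : Nat.card (MulAut S) = ((if n = 2 ∧ p = 2 then 2 else 1) * Nat.gcd 2 (p ^ f - 1) * f) * Nat.card S := by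
      rw [mulaut_congr e, h1, Nat.card_congr e.toEquiv]
    refine Bl.of _ (card_out_of_aut hna' h2) ?_
    show _ ≤ Nat.gcd 2 (p ^ f - 1) * n ^ 2
    rw [mul_comm]
    apply Nat.mul_le_mul_left
    have hn : 2 ≤ n := hok.1
    have : 2 ≤ n ^ 2 := by nlinarith only [hn]
    split_ifs <;> omega
  | oodd n p f hn ho =>
    obtain ⟨F, _, _, hF, ⟨e⟩⟩ := h
    have hpo : Odd p := by
      rcases hp.eq_two_or_odd' with h | h
      · subst h
        exact absurd ho (by rw [Nat.not_odd_iff_even]; exact (even_two.pow_of_ne_zero (by omega)))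
      · exact h
    have h1 := Cfsg.Agent.S0816.result p f hf hF hpo n hn
    have h2 : Nat.card (MulAut S) = (2 * f) * Nat.card S := by
      rw [mulaut_congr e, h1, Nat.card_congr e.toEquiv]
    refine Bl.of _ (card_out_of_aut hna' h2) ?_
    show _ ≤ Art.dd (.C n) (p ^ f) * n ^ 2
    have : 2 ≤ n ^ 2 := by nlinarith only [hn]
    calc 2 ≤ n ^ 2 := this
      _ ≤ _ := Nat.le_mul_of_pos_left _ hdd
  | psu n p f =>
    obtain ⟨F, _, _, hF, ⟨e⟩⟩ := h
    have h1 := Cfsg.Agent.S0815.result p f hf rfl hF n hok.1 (fun h => by have := hok.2 h.1; omega)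
    have h2 : Nat.card (MulAut S) = (2 * Nat.gcd n (p ^ f + 1) * f) * Nat.card S := by
      rw [mulaut_congr e, h1, Nat.card_congr e.toEquiv]; ring
    refine Bl.of _ (card_out_of_aut hna' h2) ?_
    show _ ≤ Nat.gcd n (p ^ f + 1) * (n * (n - 1) / 2)
    rw [mul_comm]
    apply Nat.mul_le_mul_left
    have := tri hok.1
    omega
  | oplus n p f =>
    obtain ⟨F, _, _, hF, ⟨e⟩⟩ := h
    have h1 := Cfsg.Agent.S0817.result p f hf hF n hok
    have h2 : Nat.card (MulAut S) = (((if n = 4 then 3 else 1) *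
        (if p = 2 then 2 else (if Even (n * (p ^ f - 1) / 2) then 8 else 4))) * f) * Nat.card S := by
      rw [mulaut_congr e, h1, Nat.card_congr e.toEquiv]
    refine Bl.of _ (card_out_of_aut hna' h2) ?_
    have hn : 4 ≤ n := hok
    have hN : 12 ≤ n * (n - 1) := by
      calc 12 = 4 * 3 := by norm_num
        _ ≤ n * (n - 1) := Nat.mul_le_mul hn (by omega)
    have hN5 : n ≠ 4 → 20 ≤ n * (n - 1) := fun h => by
      calc 20 = 5 * 4 := by norm_num
        _ ≤ n * (n - 1) := Nat.mul_le_mul (by omega) (by omega)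
    show _ ≤ Art.dd (.D n) (p ^ f) * (n * (n - 1))
    by_cases h4 : n = 4
    · subst h4
      by_cases hp2 : p = 2
      · rw [if_pos rfl, if_pos hp2]
        calc 3 * 2 ≤ 4 * (4 - 1) := by norm_num
          _ ≤ _ := Nat.le_mul_of_pos_left _ hdd
      · have hd : Art.dd (.D 4) (p ^ f) = 4 := by
          show Nat.gcd 4 ((p ^ f) ^ 4 - 1) = 4
          apply Nat.gcd_eq_left
          have hodd : Odd (p ^ f) := (hp.odd_of_ne_two hp2).pow
          obtain ⟨k, hk⟩ := hodd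
          rw [hk]
          have e : (2 * k + 1) ^ 4 = 4 * (4 * k ^ 4 + 8 * k ^ 3 + 6 * k ^ 2 + 2 * k) + 1 := by ring
          rw [e, Nat.add_sub_cancel]
          exact Dvd.intro _ rfl
        rw [hd]
        split_ifs <;> norm_num
    · have h3 := hN5 h4
      rw [if_neg h4, one_mul]
      calc _ ≤ 20 := by split_ifs <;> norm_num
        _ ≤ n * (n - 1) := h3
        _ ≤ _ := Nat.le_mul_of_pos_left _ hdd
  | ominus n p f =>
    obtain ⟨F, _, _, a, b, hF, hab, ⟨e⟩⟩ := h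
    have h1 := Cfsg.Agent.S0818.result p f hf hF n hok a b hab
    have h2 : Nat.card (MulAut S) = ((if p = 2 then 2 else (if Even (n * (p ^ f - 1) / 2) then 4 else 8)) * f) *
        Nat.card S := by
      rw [mulaut_congr e, h1, Nat.card_congr e.toEquiv]
    refine Bl.of _ (card_out_of_aut hna' h2) ?_
    have hn : 4 ≤ n := hok
    have hN : 12 ≤ n * (n - 1) := by
      calc 12 = 4 * 3 := by norm_num
        _ ≤ n * (n - 1) := Nat.mul_le_mul hn (by omega)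
    calc _ ≤ 12 := by split_ifs <;> norm_num
      _ ≤ n * (n - 1) := hN
      _ ≤ _ := Nat.le_mul_of_pos_left _ hdd
  | g2 p f =>
    obtain ⟨F, _, _, hF, ⟨e⟩⟩ := h
    have := charP_of_card hp hf hF
    have h1 := Cfsg.Agent.S2121.result p f hF hok
    refine Bl.of (if p = 3 then 2 else 1) ?_ ?_
    · rw [card_out_congr e, h1]; split_ifs <;> ring
    · calc _ ≤ 6 := by split_ifs <;> norm_num
        _ ≤ _ := Nat.le_mul_of_pos_left _ hdd
  | f4 p f =>
    obtain ⟨F, _, _, hF, ⟨e⟩⟩ := h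
    have := charP_of_card hp hf hF
    have h1 := Cfsg.Agent.S2122.result p f hF
    refine Bl.of (Nat.gcd 2 p) (by rw [card_out_congr e, h1]) ?_
    calc _ ≤ 2 := Nat.gcd_le_left _ (by norm_num)
      _ ≤ 24 := by norm_num
      _ ≤ _ := Nat.le_mul_of_pos_left _ hdd
  | e6 p f =>
    obtain ⟨F, _, _, hF, ⟨e⟩⟩ := h
    have := charP_of_card hp hf hF
    have h1 := Cfsg.Agent.S2123.result p f hF
    refine Bl.of (2 * Nat.gcd 3 (p ^ f - 1)) (by rw [card_out_congr e, h1]) ?_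
    show _ ≤ Nat.gcd 3 (p ^ f - 1) * 36
    omega
  | e7 p f =>
    obtain ⟨F, _, _, hF, ⟨e⟩⟩ := h
    have := charP_of_card hp hf hF
    have h1 := Cfsg.Agent.S2124.result p f hF
    refine Bl.of (Nat.gcd 2 (p ^ f - 1)) (by rw [card_out_congr e, h1]) ?_
    show _ ≤ Nat.gcd 2 (p ^ f - 1) * 63
    omega
  | e8 p f =>
    obtain ⟨F, _, _, hF, ⟨e⟩⟩ := h
    have := charP_of_card hp hf hF
    have h1 := Cfsg.Agent.S2125.result p f hF
    refine Bl.of 1 (by rw [card_out_congr e, h1, one_mul]) ?_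
    calc 1 ≤ 120 := by norm_num
      _ ≤ _ := Nat.le_mul_of_pos_left _ hdd
  | te6 p f =>
    obtain ⟨F, _, _, hF, ⟨e⟩⟩ := h
    have hF' : Fintype.card F = p ^ (2 * f) := by rw [hF, ← pow_mul, mul_comm]
    have := charP_of_card hp (by omega) hF'
    have h1 := Cfsg.Agent.S2130.result p f hF' hf
    refine Bl.of (2 * Nat.gcd 3 (p ^ f + 1)) (by rw [card_out_congr e, h1]) ?_
    show _ ≤ Nat.gcd 3 (p ^ f + 1) * 36
    omega
  | td4 p f =>
    obtain ⟨F, _, _, hF, ⟨e⟩⟩ := h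
    have hF' : Fintype.card F = p ^ (3 * f) := by rw [hF, ← pow_mul, mul_comm]
    have := charP_of_card hp (by omega) hF'
    have h1 := Cfsg.Agent.S2129.result p f hF' hf
    refine Bl.of 3 (by rw [card_out_congr e, h1]) ?_
    calc 3 ≤ 12 := by norm_num
      _ ≤ _ := Nat.le_mul_of_pos_left _ hdd
  | sz p f =>
    obtain ⟨F, _, _, m, hm, hF, hq, ⟨e⟩⟩ := h
    obtain ⟨rfl, -, -⟩ := hok
    have hfm : f = 2 * m + 1 := Nat.pow_right_injective (le_refl 2) hq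
    have h1 := Cfsg.Agent.S2126.result hm (hF.trans hq)
    refine Bl.of 1 (by rw [card_out_congr e, h1, one_mul, hfm]) ?_
    calc 1 ≤ 2 := by norm_num
      _ ≤ _ := Nat.le_mul_of_pos_left _ hdd
  | ree p f =>
    obtain ⟨F, _, _, m, hm, hF, hq, ⟨e⟩⟩ := h
    obtain ⟨rfl, -, -⟩ := hok
    have hfm : f = 2 * m + 1 := Nat.pow_right_injective (by norm_num : 2 ≤ 3) hq
    have h1 := Cfsg.Agent.S2127.result hm (hF.trans hq)
    refine Bl.of 1 (by rw [card_out_congr e, h1, one_mul, hfm]) ?_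
    calc 1 ≤ 3 := by norm_num
      _ ≤ _ := Nat.le_mul_of_pos_left _ hdd
  | tf4 p f =>
    obtain ⟨F, _, _, m, hm, hF, hq, ⟨e⟩⟩ := h
    obtain ⟨rfl, -, -⟩ := hok
    have hfm : f = 2 * m + 1 := Nat.pow_right_injective (le_refl 2) hq
    have h1 := Cfsg.Agent.S2128.result hm (hF.trans hq)
    refine Bl.of 1 (by rw [card_out_congr e, h1, one_mul, hfm]) ?_
    calc 1 ≤ 12 := by norm_num
      _ ≤ _ := Nat.le_mul_of_pos_left _ hdd

end Cfsg.Agent.H364.SpOut

private theorem dce_0627f9108ca8 : _root_.True := by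
  try have : _root_.True := by simp only [_root_.Cfsg.Agent.H364.SpOut.Bl.eq_1]
  exact _root_.True.intro
end

-- part: H365/SpFourC
section
prune_inst 0x140049800000000000000200200400000100000000012840060201084260804220000800140e122412000800000813100010420000000a0030000002000000280400812c0208080000001007180c00000000000000000000000000000000000000000
set_option linter.all false
open scoped Cfsg.Agent.FastGrp

-- part: H365/SpFourB
section
/-!
# Groups with the order and the spectrum of `PSp₄(q)`: the numerical part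
-/

set_option autoImplicit false

namespace Cfsg.Agent.H365.SpFour

open Cfsg.Agent.H902.Art

section Arith

variable {q : ℕ}

/-- the number `n` of the structure theorem -/
theorem n_eq {r n : ℕ} (hq : 3 ≤ q) (hr : r.Prime) (hrm : r ∣ tt q) (h1 : n ∣ r - 1)
    (h2 : q ^ 4 * (q ^ 2 - 1) ^ 2 ≡ n [MOD r]) : n = 4 := by
  have hdq : r ∣ q ^ 2 + 1 := hrm.trans (tt_dvd (by omega))
  have h3 : q ^ 4 * (q ^ 2 - 1) ^ 2 ≡ 4 [MOD r] := by
    have h5 : ((q : ZMod r)) ^ 2 + 1 = 0 := by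
      have := (ZMod.natCast_eq_zero_iff (q ^ 2 + 1) r).2 hdq
      push_cast at this
      exact this
    rw [← ZMod.natCast_eq_natCast_iff, Nat.cast_mul, Nat.cast_pow, Nat.cast_pow,
      Nat.cast_sub (Nat.one_le_pow _ _ (by omega))]
    push_cast
    linear_combination ((q : ZMod r) ^ 6 - 3 * q ^ 4 + 4 * q ^ 2 - 4) * h5
  have h4 : 4 < r := by
    have h5 := hr.two_le
    have h6 : r ≠ 2 := fun h => two_tt (q := q) (by omega) (h ▸ hrm)
    have h7 : r ≠ 3 := by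
      rintro rfl
      have h8 : (q ^ 2 + 1) % 3 = 0 := Nat.mod_eq_zero_of_dvd hdq
      have h9 : q % 3 = 0 ∨ q % 3 = 1 ∨ q % 3 = 2 := by omega
      rcases h9 with h9 | h9 | h9 <;> rw [Nat.add_mod, Nat.pow_mod, h9] at h8 <;> norm_num at h8
    have h8 : r ≠ 4 := by rintro rfl; exact absurd hr (by decide)
    omega
  have h5 : n < r := by
    have := Nat.le_of_dvd (by omega) h1
    omega
  exact Nat.ModEq.eq_of_lt_of_lt (h2.symm.trans h3) h5 h4

/-- splitting of a prime power dividing `(q² - 1)²` -/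
theorem split_sq (hq : 2 ≤ q) {v c : ℕ} (hv : v.Prime) (hv2 : v ≠ 2) (h : v ^ c ∣ (q ^ 2 - 1) ^ 2) :
    v ^ c ∣ (q - 1) ^ 2 ∨ v ^ c ∣ (q + 1) ^ 2 := by
  rw [sq_eq hq, mul_pow] at h
  by_cases h1 : v ∣ q + 1
  · right
    have h2 : ¬ v ∣ q - 1 := by
      intro h3
      have h4 : v ∣ (q + 1) - (q - 1) := Nat.dvd_sub h1 h3
      have h5 : (q + 1) - (q - 1) = 2 := by omega
      rw [h5] at h4
      exact hv2 ((Nat.prime_dvd_prime_iff_eq hv Nat.prime_two).1 h4)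
    exact (Nat.Coprime.pow c 2 ((Nat.Prime.coprime_iff_not_dvd hv).2 h2)).dvd_of_dvd_mul_left h
  · left
    exact (Nat.Coprime.pow c 2 ((Nat.Prime.coprime_iff_not_dvd hv).2 h1)).dvd_of_dvd_mul_right h

/-- odd primes do not divide the kernel -/
theorem odd_part (hq : 3 ≤ q) {v c : ℕ} (hv : v.Prime) (hv2 : v ≠ 2) (h : v ^ c ∣ (q ^ 2 - 1) ^ 2)
    (ht : tt q ∣ v ^ c - 1) : c = 0 := by
  by_contra hc
  have hvodd : Odd v := hv.eq_two_or_odd'.resolve_left hv2
  have hvc : Odd (v ^ c) := hvodd.pow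
  have hv3 : 3 ≤ v := by have := hv.two_le; omega
  have hvc1 : 3 ≤ v ^ c := hv3.trans (Nat.le_self_pow hc v)
  have h1 := split_sq (by omega) hv hv2 h
  rcases Nat.even_or_odd q with he | ho
  · rw [tt_even he (by omega)] at ht
    have h2 : 2 * (q ^ 2 + 1) ∣ v ^ c - 1 := by
      apply Nat.Coprime.mul_dvd_of_dvd_of_dvd _ _ ht
      · rw [Nat.coprime_two_left]
        exact (he.pow_of_ne_zero (by norm_num)).add_one
      · obtain ⟨a, ha⟩ := hvc
        exact ⟨a, by omega⟩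
    have h3 := Nat.le_of_dvd (by omega) h2
    have h4 : v ^ c ≤ (q + 1) ^ 2 := by
      rcases h1 with h1 | h1
      · refine (Nat.le_of_dvd (pow_pos (by omega) 2) h1).trans (Nat.pow_le_pow_left (by omega) 2)
      · exact Nat.le_of_dvd (pow_pos (by omega) 2) h1
    have h5 : 2 * (q ^ 2 + 1) + 1 ≤ v ^ c := by omega
    nlinarith only [h4, h5]
  · have h2 := tt_odd ho (by omega)
    have h3 := Nat.le_of_dvd (by omega) ht
    obtain ⟨m, hm⟩ := ho
    have h4 : v ^ c ≤ (m + 1) ^ 2 := by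
      have key : ∀ k, v ^ c ∣ (2 * k) ^ 2 → v ^ c ∣ k ^ 2 := by
        intro k hk
        have : (2 * k) ^ 2 = 4 * k ^ 2 := by ring
        rw [this] at hk
        have h5 : Nat.Coprime (v ^ c) 4 := by
          have h6 : Nat.Coprime (v ^ c) 2 := by rw [Nat.coprime_two_right]; exact hvc
          exact Nat.Coprime.pow_right 2 h6
        exact h5.dvd_of_dvd_mul_left hk
      rcases h1 with h1 | h1
      · have h5 : q - 1 = 2 * m := by omega
        rw [h5] at h1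
        exact (Nat.le_of_dvd (pow_pos (by omega) 2) (key _ h1)).trans (Nat.pow_le_pow_left (by omega) 2)
      · have h5 : q + 1 = 2 * (m + 1) := by omega
        rw [h5] at h1
        exact Nat.le_of_dvd (pow_pos (by omega) 2) (key _ h1)
    have h5 : q ^ 2 + 1 = 2 * (2 * m ^ 2 + 2 * m + 1) := by rw [hm]; ring
    have h6 : tt q = 2 * m ^ 2 + 2 * m + 1 := by omega
    rw [h6] at h3
    have h7 : 2 * m ^ 2 + 2 * m + 1 + 1 ≤ (m + 1) ^ 2 := by omega
    linarith only [h7, _root_.sq_nonneg (↑m : ℤ)]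

/-- the two halves of `q = 2 m + 1` -/
theorem halves (m : ℕ) (hm : 1 ≤ m) : ∃ w b e : ℕ, w = 2 ^ e ∧ 1 ≤ e ∧ Odd b ∧
    ((m = w * b ∧ Odd (m + 1)) ∨ (m + 1 = w * b ∧ Odd m)) := by
  rcases Nat.even_or_odd m with he | ho
  · obtain ⟨e, b, hb, hm2⟩ := Nat.exists_eq_two_pow_mul_odd (show m ≠ 0 by omega)
    refine ⟨2 ^ e, b, e, rfl, ?_, hb, Or.inl ⟨hm2, he.add_one⟩⟩
    by_contra hcon
    have : e = 0 := by omega
    rw [this, pow_zero, one_mul] at hm2
    rw [hm2] at he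
    exact (Nat.not_even_iff_odd.2 hb) he
  · obtain ⟨e, b, hb, hm2⟩ := Nat.exists_eq_two_pow_mul_odd (show m + 1 ≠ 0 by omega)
    refine ⟨2 ^ e, b, e, rfl, ?_, hb, Or.inr ⟨hm2, ho⟩⟩
    by_contra hcon
    have : e = 0 := by omega
    rw [this, pow_zero, one_mul] at hm2
    have h3 : Even (m + 1) := ho.add_one
    rw [hm2] at h3
    exact (Nat.not_even_iff_odd.2 hb) h3

theorem tt_half (m : ℕ) (hm : 1 ≤ m) : tt (2 * m + 1) = 2 * m ^ 2 + 2 * m + 1 := by
  have h1 := tt_odd (q := 2 * m + 1) ⟨m, rfl⟩ (by omega)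
  have h2 : (2 * m + 1) ^ 2 + 1 = 2 * (2 * m ^ 2 + 2 * m + 1) := by ring
  omega

theorem sq_half (m : ℕ) : (2 * m + 1) ^ 2 - 1 = 4 * (m * (m + 1)) := by
  have : (2 * m + 1) ^ 2 = 4 * (m * (m + 1)) + 1 := by ring
  omega

/-- the `2`-part of the kernel, `q` odd -/
theorem two_part {m c : ℕ} (hm : 2 ≤ m) (h : 2 ^ c ∣ ((2 * m + 1) ^ 2 - 1) ^ 2) (ht : tt (2 * m + 1) ∣ 2 ^ c - 1) :
    c = 0 := by
  by_contra hc
  rw [tt_half m (by omega)] at ht
  rw [sq_half] at h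
  obtain ⟨w, b, e, hw, he, hb, hcase⟩ := halves m (by omega)
  -- `2 ^ c ≤ 16 w²`
  have hce : c ≤ 4 + 2 * e := by
    have h1 : 2 ^ c ∣ 2 ^ (4 + 2 * e) := by
      rcases hcase with ⟨h1, h2⟩ | ⟨h1, h2⟩
      · have h3 : (4 * (m * (m + 1))) ^ 2 = 2 ^ (4 + 2 * e) * (b * (m + 1)) ^ 2 := by
          have h4 : m * (m + 1) = w * (b * (m + 1)) := by
            rw [← mul_assoc, ← h1]
          rw [h4, hw, pow_add, pow_mul']; ring
        rw [h3] at h
        refine Nat.Coprime.dvd_of_dvd_mul_right (Nat.Coprime.pow_left c ?_) h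
        rw [Nat.coprime_two_left]
        exact (hb.mul h2).pow
      · have h3 : (4 * (m * (m + 1))) ^ 2 = 2 ^ (4 + 2 * e) * (b * m) ^ 2 := by
          have h4 : m * (m + 1) = w * (b * m) := by
            rw [← mul_assoc, ← h1]; ring
          rw [h4, hw, pow_add, pow_mul']; ring
        rw [h3] at h
        refine Nat.Coprime.dvd_of_dvd_mul_right (Nat.Coprime.pow_left c ?_) h
        rw [Nat.coprime_two_left]
        exact (hb.mul h2).pow
    exact (Nat.pow_dvd_pow_iff_le_right (by norm_num)).1 h1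
  have hpos : 2 ≤ 2 ^ c := Nat.le_self_pow hc 2
  have hc1 : 1 ≤ c := Nat.pos_of_ne_zero hc
  have hle0 := Nat.le_of_dvd (by omega) ht
  have hle : 2 * m ^ 2 + 2 * m + 2 ≤ 2 ^ c := by omega
  clear hle0
  have h16 : 2 ^ c ≤ 16 * w ^ 2 := by
    have h1 : (2 : ℕ) ^ (4 + 2 * e) = 16 * w ^ 2 := by rw [hw, pow_add, pow_mul']; ring
    rw [← h1]
    exact Nat.pow_le_pow_right (by norm_num) hce
  have hw2 : 2 ≤ w := by rw [hw]; exact Nat.le_self_pow (by omega) 2
  have hb3 : b = 1 ∨ 3 ≤ b := by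
    obtain ⟨k, hk⟩ := hb
    omega
  rcases hb3 with rfl | hb3
  · -- `b = 1`
    rw [mul_one] at hcase
    by_cases he5 : e ≤ 4
    · interval_cases e
      all_goals
        norm_num at hw
        subst hw
        rcases hcase with ⟨h1, -⟩ | ⟨h1, -⟩
        all_goals
          first
          | (have h2 : m = 2 := by omega
             subst h2; interval_cases c <;> revert ht <;> decide)
          | (have h2 : m = 3 := by omega
             subst h2; interval_cases c <;> revert ht <;> decide)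
          | (have h2 : m = 4 := by omega
             subst h2; interval_cases c <;> revert ht <;> decide)
          | (have h2 : m = 7 := by omega
             subst h2; interval_cases c <;> revert ht <;> decide)
          | (have h2 : m = 8 := by omega
             subst h2; interval_cases c <;> revert ht <;> decide)
          | (have h2 : m = 15 := by omega
             subst h2; interval_cases c <;> revert ht <;> decide)
          | (have h2 : m = 16 := by omega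
             subst h2; interval_cases c <;> revert ht <;> decide)
          | omega
    · have hw32 : 32 ≤ w := by
        rw [hw]
        calc 32 = 2 ^ 5 := by norm_num
          _ ≤ 2 ^ e := Nat.pow_le_pow_right (by norm_num) (by omega)
      have hc2 : 2 * e + 1 ≤ c := by
        by_contra hcon
        have h1 : 2 ^ c ≤ w ^ 2 := by
          have h2 : (2 : ℕ) ^ (2 * e) = w ^ 2 := by rw [hw, pow_mul']
          rw [← h2]
          exact Nat.pow_le_pow_right (by norm_num) (by omega)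
        rcases hcase with ⟨h2, -⟩ | ⟨h2, -⟩
        · rw [h2] at hle; linarith only [hle, h16, h1]
        · have h3 : w ≤ 2 * m := by omega
          nlinarith only [hle, h1, h2]
      obtain ⟨j, rfl⟩ := Nat.exists_eq_add_of_le hc2
      have hj : j ≤ 3 := by omega
      have h2j : 2 ^ j ≤ 8 := by
        calc 2 ^ j ≤ 2 ^ 3 := Nat.pow_le_pow_right (by norm_num) hj
          _ = 8 := by norm_num
      have h2j1 : 1 ≤ 2 ^ j := Nat.one_le_pow _ _ (by norm_num)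
      have hpw : 2 ^ (2 * e + 1 + j) = 2 ^ j * (2 * w ^ 2) := by
        rw [hw, pow_add, pow_add, pow_mul']; ring
      rw [hpw] at ht
      generalize 2 ^ j = z at *
      rcases hcase with ⟨rfl, -⟩ | ⟨h2, -⟩
      · have h3 : 2 * m ^ 2 + 2 * m + 1 ∣ z * (2 * m + 1) + 1 := by
          have h4 : 2 * m ^ 2 + 2 * m + 1 ∣ (2 * m ^ 2 + 2 * m + 1) * z := Dvd.intro _ rfl
          have h5 := Nat.dvd_sub h4 ht
          have h6 : (2 * m ^ 2 + 2 * m + 1) * z - (z * (2 * m ^ 2) - 1) = z * (2 * m + 1) + 1 := by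
            have h7 : 1 ≤ z * (2 * m ^ 2) := by linarith only [hle, h16, hpw]
            have h8 : (2 * m ^ 2 + 2 * m + 1) * z = z * (2 * m ^ 2) + z * (2 * m + 1) := by ring
            omega
          rwa [h6] at h5
        have h4 := Nat.le_of_dvd (by omega) h3
        nlinarith only [h2j, hw32, h4]
      · obtain ⟨rfl⟩ : w = m + 1 := h2.symm
        have h3 : 2 * m ^ 2 + 2 * m + 1 ∣ z * (2 * m + 1) - 1 := by
          have h4 : 2 * m ^ 2 + 2 * m + 1 ∣ (2 * m ^ 2 + 2 * m + 1) * z := Dvd.intro _ rfl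
          have h5 := Nat.dvd_sub ht h4
          have h6 : (z * (2 * (m + 1) ^ 2) - 1) - (2 * m ^ 2 + 2 * m + 1) * z = z * (2 * m + 1) - 1 := by
            have h8 : z * (2 * (m + 1) ^ 2) = (2 * m ^ 2 + 2 * m + 1) * z + z * (2 * m + 1) := by ring
            omega
          rwa [h6] at h5
        have h4 := Nat.le_of_dvd (by have : 1 < z * (2 * m + 1) := by nlinarith only [h2j1, hw32]
                                     omega) h3
        have h5 : 2 * m ^ 2 + 2 * m + 1 + 1 ≤ z * (2 * m + 1) := by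
          have : 1 < z * (2 * m + 1) := by nlinarith only [h2j1, hw32]
          omega
        nlinarith only [h2j, hw32, h5]
  · rcases hcase with ⟨h1, -⟩ | ⟨h1, -⟩
    · have h2 : 3 * w ≤ m := by rw [h1]; nlinarith only [hb3]
      nlinarith only [hle, h16, h2]
    · have h2 : 3 * w ≤ m + 1 := by rw [h1]; nlinarith only [hb3]
      have h3 : 2 * m ^ 2 + 2 * m + 2 ≤ 16 * w ^ 2 := by omega
      have hw3 : w < 4 := by
        by_contra hcon
        nlinarith only [hle, h16, h2, hcon]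
      have he1 : e = 1 := by
        by_contra hcon
        have : 2 ^ 2 ≤ 2 ^ e := Nat.pow_le_pow_right (by norm_num) (by omega)
        omega
      subst he1
      norm_num at hw
      subst hw
      have hm5 : m = 5 := by
        have h4 : m ≤ 5 := by
          by_contra hcon
          nlinarith only [hle, h16, hcon]
        omega
      subst hm5
      interval_cases c <;> revert ht <;> decide

end Arith

end Cfsg.Agent.H365.SpFour
end

-- part: H365/SpFourC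
section
/-!
# Groups with the order and the spectrum of `PSp₄(q)`: no simple group of order `t (q² - 1)²`
-/

set_option autoImplicit false

namespace Cfsg.Agent.H365.SpFour

open Cfsg.Agent.H902.Art

/-- the order -/
def N0 (m : ℕ) : ℕ := 16 * (m * (m + 1)) ^ 2 * (2 * (m * (m + 1)) + 1)

theorem N0_eq (m : ℕ) (hm : 1 ≤ m) : tt (2 * m + 1) * ((2 * m + 1) ^ 2 - 1) ^ 2 = N0 m := by
  rw [tt_half m hm, sq_half, N0]; ring

set_option maxRecDepth 100000 in
theorem chk : ∀ e ∈ List.range' 1 13, ∀ i ∈ [1, 2], ∀ a ∈ ents 2 (5 + 2 * e - i),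
    val 2 a * i ≠ N0 (2 ^ e) ∧ val 2 a * i ≠ N0 (2 ^ e - 1) := by
  rw [Cfsg.Agent.H902.EntsFast.ents_eq, Cfsg.Agent.H902.EntsFast.val_eqF]
  decide +kernel

theorem P_odd_two {a : ℕ} (ha : Odd a) : P 2 a = 1 := P_eq_one (by
  rw [← even_iff_two_dvd, Nat.not_even_iff_odd]; exact ha)

/-- **No simple group of Lie type of order `t (q² - 1)²` or half of it.** -/
theorem no_full {m i MS : ℕ} (hm : 2 ≤ m) (hi : i = 1 ∨ i = 2) (hMS : MS * i = N0 m) {X : Sh} {v g : ℕ}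
    (hX : Real X v g MS) : False := by
  have hv := hX.hp
  have hM0 := hX.M_ne
  have hlt := hX.lt_cube
  have hP := hX.P_self
  have hu6 : 6 ≤ m * (m + 1) := by nlinarith only [hm]
  have hi0 : i ≠ 0 := by omega
  have hPi : P v MS * P v i = P v (N0 m) := by rw [← P_mul hM0 hi0, hMS]
  have hN : P v (N0 m) = P v 16 * (P v (m * (m + 1)) * P v (m * (m + 1))) * P v (2 * (m * (m + 1)) + 1) := by
    rw [N0, P_mul (by positivity) (by positivity), P_mul (by norm_num) (by positivity), pow_two,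
      P_mul (by positivity) (by positivity)]
  have h2MS : N0 m ≤ 2 * MS := by
    rw [← hMS]
    rcases hi with rfl | rfl <;> omega
  by_cases hv2 : v = 2
  · subst hv2
    obtain ⟨w, b, e, hw, he, hb, hcase⟩ := halves m (by omega)
    have hw2 : 2 ≤ w := by rw [hw]; exact Nat.le_self_pow (by omega) 2
    -- the odd part of `u`
    obtain ⟨o, ho, huo, hob⟩ : ∃ o, Odd o ∧ m * (m + 1) = w * o ∧ ((m = w * b ∧ o = b * (m + 1)) ∨ (m + 1 = w * b ∧ o = b * m)) := by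
      rcases hcase with ⟨h1, h2⟩ | ⟨h1, h2⟩
      · refine ⟨b * (m + 1), hb.mul h2, ?_, Or.inl ⟨h1, rfl⟩⟩
        rw [← mul_assoc, ← h1]
      · refine ⟨b * m, hb.mul h2, ?_, Or.inr ⟨h1, rfl⟩⟩
        rw [← mul_assoc, ← h1]; ring
    have ho0 : o ≠ 0 := by rintro rfl; rw [mul_zero] at huo; omega
    have hPu : P 2 (m * (m + 1)) = w := by
      rw [huo, hw]
      exact P_pow_self Nat.prime_two (by rw [← even_iff_two_dvd, Nat.not_even_iff_odd]; exact ho)
    have hP16 : P 2 16 = 16 := by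
      have : (16 : ℕ) = 2 ^ 4 * 1 := by norm_num
      rw [this, P_pow_self Nat.prime_two (by norm_num)]; norm_num
    have hPl : P 2 (2 * (m * (m + 1)) + 1) = 1 := P_odd_two ⟨m * (m + 1), rfl⟩
    rw [hPu, hP16, hPl, mul_one] at hN
    have hPi2 : P 2 i = i := by
      rcases hi with rfl | rfl
      · exact P_eq_one (by norm_num)
      · have h := P_pow_self (r := 2) (k := 1) (a := 1) Nat.prime_two (by norm_num)
        simpa using h
    rw [hPi2, hN] at hPi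
    obtain ⟨A, hA⟩ : ∃ A, A = P 2 MS := ⟨_, rfl⟩
    rw [← hA] at hPi hP hlt
    have hApos : 0 < A := by rw [hA]; exact P_pos Nat.prime_two
    obtain ⟨M', hM'⟩ : A ∣ MS := by rw [hA]; exact P_dvd 2 MS
    have hM'eq : M' = o ^ 2 * (2 * (m * (m + 1)) + 1) := by
      have h1 : (16 * (w * w)) * M' = (16 * (w * w)) * (o ^ 2 * (2 * (m * (m + 1)) + 1)) := by
        have h2 : A * M' * i = 16 * (w * o) ^ 2 * (2 * (m * (m + 1)) + 1) := by
          rw [← hM', hMS, N0, huo]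
        calc (16 * (w * w)) * M' = A * i * M' := by rw [hPi]
          _ = A * M' * i := by ring
          _ = _ := by rw [h2]; ring
      exact Nat.eq_of_mul_eq_mul_left (by (clear * - hw2; positivity)) h1
    -- the exponent
    have hexp : g * NN X = 5 + 2 * e - i := by
      rw [P_prime_exp hX]
      have h1 : 2 ^ (MS.factorization 2) * i = 2 ^ (4 + 2 * e) := by
        have : A = 2 ^ (MS.factorization 2) := hA
        rw [← this, hPi, hw, pow_add, pow_mul']; ring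
      rcases hi with rfl | rfl
      · rw [mul_one] at h1
        have := Nat.pow_right_injective (le_refl 2) h1
        omega
      · rw [← pow_succ] at h1
        have := Nat.pow_right_injective (le_refl 2) h1
        omega
    have hA16 : A ≤ 16 * (w * w) := by
      rw [← hPi]; exact Nat.le_mul_of_pos_right _ (by omega)
    have hA8 : 8 * (w * w) ≤ A := by
      rcases hi with rfl | rfl <;> (clear * - hPi hP hA; omega)
    have hb3 : b = 1 ∨ 3 ≤ b := by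
      obtain ⟨k, hk⟩ := hb
      omega
    have big : 3 ≤ b → 686 * (w * w * (w * w)) < M' := by
      intro hb
      have h1 : 3 * w ≤ m + 1 ∧ 7 * w ≤ o := by
        rcases hob with ⟨h6, h7⟩ | ⟨h6, h7⟩
        · have h8 : 3 * w ≤ m := by rw [h6]; nlinarith only [hb]
          refine ⟨by omega, ?_⟩
          rw [h7]; nlinarith only [hb, h8]
        · have h8 : 3 * w ≤ m + 1 := by rw [h6]; nlinarith only [hb]
          refine ⟨h8, ?_⟩
          rw [h7]; nlinarith only [hw2, hb, h8]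
      rw [hM'eq, huo]
      have h2 : 7 * (w * w) ≤ w * o := by nlinarith only [h1]
      have h3 : (7 * w) * (7 * w) ≤ o * o := Nat.mul_le_mul h1.2 h1.2
      calc 686 * (w * w * (w * w)) = ((7 * w) * (7 * w)) * (2 * (7 * (w * w))) := by ring
        _ < ((7 * w) * (7 * w)) * (2 * (w * o) + 1) := Nat.mul_lt_mul_of_pos_left (by omega) (by (clear * - hw2; positivity))
        _ ≤ (o * o) * (2 * (w * o) + 1) := Nat.mul_le_mul_right _ h3
        _ = _ := by ring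
    -- small `e`
    have fin : b = 1 → e ≤ 13 → False := by
      intro hb1 he10
      subst hb1
      have hmem := mem_ents hX hexp
      have hval := val_eq hX
      obtain ⟨c1, c2⟩ := chk e (List.mem_range'_1.2 ⟨he, by omega⟩) i (by simp; exact hi) _ hmem
      rw [hval, hMS] at c1 c2
      rcases hcase with ⟨h1, -⟩ | ⟨h1, -⟩
      · apply c1; rw [h1, hw, mul_one]
      · apply c2
        have : m = 2 ^ e - 1 := by rw [← hw]; omega
        rw [this]
    by_cases hXL : X = .L 2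
    · subst hXL
      obtain ⟨-, h1⟩ := L2_eq hX
      rcases h1 with ⟨-, h1⟩ | ⟨h1, -⟩
      swap
      · exact h1 rfl
      have hAg : 2 ^ g = A := by rw [hP]; show 2 ^ g = (2 ^ g) ^ 1; rw [pow_one]
      rw [hAg] at h1
      have h3 : M' = (A - 1) * (A + 1) := by
        rw [hM'] at h1
        exact Nat.eq_of_mul_eq_mul_left hApos h1
      have h4 : M' + 1 = A * A := by
        rw [h3]
        obtain ⟨k, hk⟩ := Nat.exists_eq_add_of_le' (show 1 ≤ A by omega)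
        rw [hk, Nat.add_sub_cancel]; ring
      rcases hb3 with rfl | hb3
      · -- `M'` is small
        have h5 : m + 1 ≤ w + 1 ∧ o ≤ w + 1 := by
          rcases hob with ⟨h6, h7⟩ | ⟨h6, h7⟩ <;> (clear * - h6 h7; omega)
        have h6 : m * (m + 1) ≤ w * (w + 1) := Nat.mul_le_mul (by omega) h5.1
        have h7 : M' ≤ (w + 1) ^ 2 * (2 * (w * (w + 1)) + 1) := by
          rw [hM'eq]
          exact Nat.mul_le_mul (Nat.pow_le_pow_left h5.2 2) (by omega)
        have h8 : 64 * (w * w) * (w * w) ≤ A * A := by nlinarith only [hA8]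
        nlinarith only [hw2, h4, h7, h8]
      · -- `M'` is large
        have h5 := big hb3
        have h6 : A * A ≤ (16 * (w * w)) * (16 * (w * w)) := Nat.mul_le_mul hA16 hA16
        have h7 : 0 < w * w * (w * w) := by (clear * - hw2; positivity)
        linarith only [h4, h5, h6]
    · -- the other shapes
      have h1 := hX.num_cube hXL
      have h2 : M' ≤ num X (2 ^ g) := by
        have h3 := hX.eq
        rw [hM', hP] at h3
        have h4 : (2 ^ g) ^ NN X * (dd X (2 ^ g) * M') = (2 ^ g) ^ NN X * num X (2 ^ g) := by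
          rw [← h3]; ring
        have h5 := Nat.eq_of_mul_eq_mul_left (by positivity) h4
        rw [← h5]
        exact Nat.le_mul_of_pos_left _ (Nat.pos_of_ne_zero hX.dd_ne)
      have h3 : M' ^ 3 ≤ (16 * (w * w)) ^ 5 := by
        refine (Nat.pow_le_pow_left h2 3).trans (h1.trans ?_)
        rw [← hP]
        exact Nat.pow_le_pow_left hA16 5
      have h4 : (16 * (w * w)) ^ 5 = 2 ^ 20 * (w ^ 2) ^ 5 := by ring
      rw [h4] at h3
      rcases hb3 with hb1 | hb3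
      · -- `b = 1`
        apply fin hb1
        subst hb1
        have h5 : w ≤ o + 1 := by
          rcases hob with ⟨h6, h7⟩ | ⟨h6, h7⟩ <;> omega
        have h6 : w * w ≤ 2 * (w * o) + 0 := by nlinarith only [hw2, h5]
        have h7 : w ≤ 2 * o := by omega
        have h8 : w ^ 4 ≤ 4 * M' := by
          rw [hM'eq, huo]
          have h9 : w * w ≤ (2 * o) * (2 * o) := Nat.mul_le_mul h7 h7
          have h10 : w * w ≤ 2 * (w * o) + 1 := by linarith only [h6]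
          calc w ^ 4 = (w * w) * (w * w) := by ring
            _ ≤ ((2 * o) * (2 * o)) * (2 * (w * o) + 1) := Nat.mul_le_mul h9 h10
            _ = _ := by ring
        have h9 : (w ^ 4) ^ 3 ≤ 64 * (2 ^ 20 * (w ^ 2) ^ 5) := by
          calc (w ^ 4) ^ 3 ≤ (4 * M') ^ 3 := Nat.pow_le_pow_left h8 3
            _ = 64 * M' ^ 3 := by ring
            _ ≤ _ := Nat.mul_le_mul_left _ h3
        have h10 : (w ^ 2) ^ 5 * w ^ 2 ≤ (w ^ 2) ^ 5 * 2 ^ 26 := by
          calc (w ^ 2) ^ 5 * w ^ 2 = (w ^ 4) ^ 3 := by ring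
            _ ≤ 64 * (2 ^ 20 * (w ^ 2) ^ 5) := h9
            _ = _ := by ring
        have h11 := Nat.le_of_mul_le_mul_left h10 (by positivity)
        rw [hw, ← pow_mul] at h11
        have h12 := (Nat.pow_le_pow_iff_right (by norm_num : 1 < 2)).1 h11
        omega
      · -- `b ≥ 3`
        have h5 := big hb3
        have h6 : (686 * (w * w * (w * w))) ^ 3 ≤ 2 ^ 20 * (w ^ 2) ^ 5 :=
          (Nat.pow_le_pow_left h5.le 3).trans h3
        have h7 : (w ^ 2) ^ 5 * (686 ^ 3 * w ^ 2) ≤ (w ^ 2) ^ 5 * 2 ^ 20 := by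
          calc (w ^ 2) ^ 5 * (686 ^ 3 * w ^ 2) = (686 * (w * w * (w * w))) ^ 3 := by ring
            _ ≤ _ := h6
            _ = _ := by ring
        have h8 := Nat.le_of_mul_le_mul_left h7 (by positivity)
        have h9 : 0 < w ^ 2 := by positivity
        omega
  · -- odd characteristic
    have hP16 : P v 16 = 1 := by
      refine P_eq_one fun h => hv2 ?_
      have h1 : v ∣ 2 ^ 4 := by norm_num; exact h
      exact (Nat.prime_dvd_prime_iff_eq hv Nat.prime_two).1 (hv.dvd_of_dvd_pow h1)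
    have hPi1 : P v i = 1 := by
      rcases hi with rfl | rfl
      · exact P_eq_one fun h => hv.one_lt.ne' (Nat.dvd_one.1 h)
      · exact P_eq_one fun h => hv2 ((Nat.prime_dvd_prime_iff_eq hv Nat.prime_two).1 h)
    rw [hPi1, mul_one, hN, hP16, one_mul] at hPi
    have hN0 : N0 m = 16 * (m * (m + 1)) ^ 2 * (2 * (m * (m + 1)) + 1) := rfl
    obtain ⟨u, hu⟩ : ∃ u, u = m * (m + 1) := ⟨_, rfl⟩
    by_cases hd : v ∣ 2 * (m * (m + 1)) + 1
    · have hPu : P v (m * (m + 1)) = 1 := by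
        refine P_eq_one fun h => hv.one_lt.ne' ?_
        have h1 : v ∣ (2 * (m * (m + 1)) + 1) - 2 * (m * (m + 1)) := Nat.dvd_sub hd (h.mul_left 2)
        have h2 : (2 * (m * (m + 1)) + 1) - 2 * (m * (m + 1)) = 1 := by omega
        rw [h2] at h1
        exact Nat.dvd_one.1 h1
      rw [hPu, one_mul, one_mul] at hPi
      have h1 : P v MS ≤ 2 * (m * (m + 1)) + 1 := by
        rw [hPi]; exact P_le (by omega)
      have h2 : MS < (2 * (m * (m + 1)) + 1) ^ 3 := hlt.trans_le (Nat.pow_le_pow_left h1 3)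
      rw [← hu] at h2 hN0 hu6
      rw [hN0] at h2MS
      have h3 : 16 * u ^ 2 * (2 * u + 1) < 2 * (2 * u + 1) ^ 2 * (2 * u + 1) := by
        calc 16 * u ^ 2 * (2 * u + 1) ≤ 2 * MS := h2MS
          _ < 2 * (2 * u + 1) ^ 3 := by omega
          _ = _ := by ring
      have h4 := Nat.lt_of_mul_lt_mul_right h3
      nlinarith only [h2MS, hu6, h2]
    · rw [P_eq_one hd, mul_one] at hPi
      have h1 : P v (m * (m + 1)) ≤ m + 1 := by
        rw [P_mul (by omega) (by omega)]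
        by_cases h2 : v ∣ m
        · have h3 : P v (m + 1) = 1 := by
            refine P_eq_one fun h => hv.one_lt.ne' ?_
            have h4 : v ∣ (m + 1) - m := Nat.dvd_sub h h2
            rw [Nat.add_sub_cancel_left] at h4
            exact Nat.dvd_one.1 h4
          rw [h3, mul_one]
          exact (P_le (by omega)).trans (by omega)
        · rw [P_eq_one h2, one_mul]
          exact P_le (by omega)
      have h2 : P v MS ≤ (m + 1) * (m + 1) := by
        rw [hPi]; exact Nat.mul_le_mul h1 h1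
      have h3 : MS < ((m + 1) * (m + 1)) ^ 3 := hlt.trans_le (Nat.pow_le_pow_left h2 3)
      have h4 : (m + 1) ^ 3 * (16 * m ^ 3) < (m + 1) ^ 3 * (m + 1) ^ 3 := by
        have h5 : 32 * (m * (m + 1)) ^ 3 ≤ N0 m := by
          rw [hN0]
          calc 32 * (m * (m + 1)) ^ 3 = 16 * (m * (m + 1)) ^ 2 * (2 * (m * (m + 1))) := by ring
            _ ≤ _ := Nat.mul_le_mul_left _ (by omega)
        calc (m + 1) ^ 3 * (16 * m ^ 3) = 16 * (m * (m + 1)) ^ 3 := by ring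
          _ ≤ MS := by omega
          _ < ((m + 1) * (m + 1)) ^ 3 := h3
          _ = _ := by ring
      have h6 := Nat.lt_of_mul_lt_mul_left h4
      have h7 : (m + 1) ^ 3 ≤ (2 * m) ^ 3 := Nat.pow_le_pow_left (by omega) 3
      have h8 : (2 * m) ^ 3 = 8 * m ^ 3 := by ring
      omega

end Cfsg.Agent.H365.SpFour
end

private theorem dce_11bf4df04b15 : _root_.True := by
  try have : _root_.True := by simp only [_root_.Cfsg.Agent.H365.SpFour.N0.eq_1]
  exact _root_.True.intro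
end
end
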