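import Mathlib
import Cfsg.Agent.H364.DCross_m3
import Cfsg.Agent.H902.EntsFast
import Cfsg.Agent.Lib.RingK
import Cfsg.Agent.Prune
set_option linter.all false

section
prune_inst 0x7ffffffdffbff7ffffff7e7ffff9fffe3bd7dfffffdff94bfffffbffffffb3ff2bedffaf1de4b8ffced6e6b738b9f853fbffffffef6ffc7ffffdfff75ffbee7ff7ffbf8911d79974ef7ceffffbf17fae7f3fffffffffffffffffffffffffffffffffffffffff

-- part: H364/DEnum
section
set_option linter.all false
open scoped Cfsg.Agent.FastGrp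

/-!
# `D_n`, `n ≥ 6` even: no simple groups of Lie type in cross characteristic, small `q` (helper364)
-/

set_option autoImplicit false

namespace Cfsg.Agent.H364.DEnum

open Finset Cfsg.Agent.H902.Lte Cfsg.Agent.H902.Art Cfsg.Agent.H364.SpVal Cfsg.Agent.H364.SpPrim
  Cfsg.Agent.H364.SpCross Cfsg.Agent.H364.SpSmall Cfsg.Agent.H364.SpEnum Cfsg.Agent.H364.DIneq Cfsg.Agent.H364.DCross

/-- the part with orders larger than `n / 2` -/
def te (n q : ℕ) : ℕ := strip 40 (AA (n - 1) q) (AA (n / 2) q)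

def good (n q t : ℕ) : Bool := (AA (n - 1) q % t == 0) && (Nat.gcd t (AA (n / 2) q) == 1)

theorem good_C {n q t : ℕ} (hn : 1 ≤ n) (h : good n q t = true) : SpSmall.good n q t = true := by
  simp only [good, SpSmall.good, Bool.and_eq_true, beq_iff_eq] at h ⊢
  refine ⟨?_, h.2⟩
  have h1 := Nat.dvd_of_mod_eq_zero h.1
  apply Nat.mod_eq_zero_of_dvd
  obtain ⟨m, rfl⟩ := Nat.exists_eq_add_of_le' hn
  rw [Nat.add_sub_cancel] at h1
  rw [AA, Finset.prod_range_succ]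
  exact h1.mul_right _

theorem FrD.good {n q I MS t : ℕ} (h : FrD n q I MS) (hn : 1 ≤ n) (hq : 2 ≤ q) (hg : good n q t = true) :
    t ∣ I * MS := by
  refine h t ?_ fun r hr hd => order_of_good hq hr (good_C hn hg) hd
  simp only [DEnum.good, Bool.and_eq_true, beq_iff_eq] at hg
  exact Nat.dvd_of_mod_eq_zero hg.1

section

variable {n p f q M : ℕ} {X : Sh} {v g MS I t : ℕ}

/-- `v` odd, not dividing `t`, of order `e` -/
theorem ck_false (hc : CrD n p f M X v g MS I) (hq : p ^ f = q) (hd : t ∣ I * MS)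
    (hv2 : v ≠ 2) (hvt : ¬ v ∣ t)
    (hck : ∀ e, 1 ≤ e → e ≤ n → e = orderOf ((q ^ 2 : ℕ) : ZMod v) → ck n q t e = true) : False := by
  obtain ⟨hY, hX, hX2, hvp, hMS, hI, hI0, -, -⟩ := hc
  have hv := hX.hp
  have hq2 := hY.q_ge
  have hvq := hY.not_dvd_q hv hvp
  have h1 := pow_le_P hX hY hMS
  have h2 : P v M ≤ P v (AA n (p ^ f)) := P_le_AA hY hv hvp
  rw [hq] at hq2 hvq h2
  have hN1 : 1 ≤ g * NN X := Nat.mul_pos hX.hf (NN_pos hX)
  have hv3 : 3 ≤ v := by have := hv.two_le; omega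
  have hcop : Nat.Coprime t v := (Nat.Coprime.symm ((Nat.Prime.coprime_iff_not_dvd hv).2 hvt))
  have h3 := cube_num hX hX2 hI hI0 hcop hd
  obtain ⟨he, h4 | ⟨h4, h5⟩⟩ := PC_odd' hv hv2 hq2 hvq n
  · rw [h4.2] at h2
    have h6 : v ^ 1 ≤ v ^ (g * NN X) := Nat.pow_le_pow_right (by omega) hN1
    rw [pow_one] at h6
    omega
  · have h6 := hck _ he h4 rfl
    have h7 : (v ^ (g * NN X)) ^ 2 ≤ Be n q (orderOf ((q ^ 2 : ℕ) : ZMod v)) :=
      (Nat.pow_le_pow_left (h1.trans h2) 2).trans h5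
    generalize orderOf ((q ^ 2 : ℕ) : ZMod v) = e at *
    generalize g * NN X = N at *
    rw [ck, Bool.and_eq_true, decide_eq_true_eq, List.all_eq_true] at h6
    obtain ⟨h8, h9⟩ := h6
    have h10 : 9 ^ N ≤ Be n q e := by
      calc 9 ^ N = (3 ^ N) ^ 2 := by rw [← pow_mul, mul_comm, pow_mul]; norm_num
        _ ≤ (v ^ N) ^ 2 := Nat.pow_le_pow_left (Nat.pow_le_pow_left hv3 N) 2
        _ ≤ _ := h7
    have h11 : N < 64 := by
      by_contra hcon
      have := Nat.pow_le_pow_right (show 0 < 9 by norm_num) (show 64 ≤ N by omega)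
      omega
    have h12 := h9 N (List.mem_range.2 h11)
    rw [Bool.or_eq_true, decide_eq_true_eq, decide_eq_true_eq] at h12
    rcases h12 with h12 | h12
    · omega
    · have h13 : t ^ 6 ≤ Be n q e ^ 5 * N ^ 6 := by
        calc t ^ 6 = (t ^ 3) ^ 2 := by rw [← pow_mul]
          _ ≤ ((v ^ N) ^ 5 * N ^ 3) ^ 2 := Nat.pow_le_pow_left h3 2
          _ = ((v ^ N) ^ 2) ^ 5 * N ^ 6 := by rw [mul_pow]; ring
          _ ≤ _ := Nat.mul_le_mul_right _ (Nat.pow_le_pow_left h7 5)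
      omega

/-- `v` divides `t` -/
theorem ck2_false {b : ℕ} (hc : CrD n p f M X v g MS I) (hd : t ∣ I * MS)
    (hv2 : v ≠ 2) (hb : P v M ≤ b) (hck : ck2 b t = true) : False := by
  obtain ⟨hY, hX, hX2, hvp, hMS, hI, hI0, -, -⟩ := hc
  have hv := hX.hp
  have h1 := (pow_le_P hX hY hMS).trans hb
  have hv3 : 3 ≤ v := by have := hv.two_le; omega
  have h3 := cube_all hX hX2 hI hI0 hd
  generalize g * NN X = N at *
  rw [ck2, Bool.and_eq_true, decide_eq_true_eq, List.all_eq_true] at hck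
  obtain ⟨h8, h9⟩ := hck
  have h10 : 3 ^ N ≤ b := (Nat.pow_le_pow_left hv3 N).trans h1
  have h11 : N < 64 := by
    by_contra hcon
    have := Nat.pow_le_pow_right (show 0 < 3 by norm_num) (show 64 ≤ N by omega)
    omega
  have h12 := h9 N (List.mem_range.2 h11)
  rw [Bool.or_eq_true, decide_eq_true_eq, decide_eq_true_eq] at h12
  rcases h12 with h12 | h12
  · omega
  · have h13 : (v ^ N) ^ 8 * N ^ 3 ≤ b ^ 8 * N ^ 3 := Nat.mul_le_mul_right _ (Nat.pow_le_pow_left h1 8)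
    omega

/-- `v = 2` -/
theorem ck3_false {b : ℕ} (hc : CrD n p f M X v g MS I) (hd : t ∣ I * MS)
    (hvt : ¬ v ∣ t) (hb : P v M ≤ b) (hck : ck3 b t = true) : False := by
  obtain ⟨hY, hX, hX2, hvp, hMS, hI, hI0, -, -⟩ := hc
  have hv := hX.hp
  have h1 := (pow_le_P hX hY hMS).trans hb
  have hcop : Nat.Coprime t v := (Nat.Coprime.symm ((Nat.Prime.coprime_iff_not_dvd hv).2 hvt))
  have h3 := cube_num hX hX2 hI hI0 hcop hd
  generalize g * NN X = N at *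
  rw [ck3, Bool.and_eq_true, decide_eq_true_eq, List.all_eq_true] at hck
  obtain ⟨h8, h9⟩ := hck
  have h10 : 2 ^ N ≤ b := (Nat.pow_le_pow_left hv.two_le N).trans h1
  have h11 : N < 150 := by
    by_contra hcon
    have := Nat.pow_le_pow_right (show 0 < 2 by norm_num) (show 150 ≤ N by omega)
    omega
  have h12 := h9 N (List.mem_range.2 h11)
  rw [Bool.or_eq_true, decide_eq_true_eq, decide_eq_true_eq] at h12
  rcases h12 with h12 | h12
  · omega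
  · have h13 : (v ^ N) ^ 5 * N ^ 3 ≤ b ^ 5 * N ^ 3 := Nat.mul_le_mul_right _ (Nat.pow_le_pow_left h1 5)
    omega

/-- the `2`-part of the order -/
theorem P_two_le (hY : Real (.D n) p f M) (hq : p ^ f = q) (hp2 : 2 ≠ p) (hev : n % 2 = 0) :
    P 2 M ≤ (4 * (q + 1)) ^ n / 16 := by
  have hn : 4 ≤ n := hY.ok
  have hq2 := hY.q_ge
  have hvq := hY.not_dvd_q Nat.prime_two hp2
  have h2 := hY.P_other Nat.prime_two hp2
  have hn0 := hY.num_ne
  rw [hq] at hq2 hvq h2 hn0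
  have hodd : Odd q := Nat.not_even_iff_odd.1 fun h => hvq h.two_dvd
  have hq3 : 3 ≤ q := by
    rcases hodd with ⟨k, hk⟩; omega
  have hdd : dd (.D n) q = 4 := by
    show Nat.gcd 4 (q ^ n - 1) = 4
    apply Nat.gcd_eq_left
    obtain ⟨m, rfl⟩ : ∃ m, n = 2 * m := ⟨n / 2, by omega⟩
    have h4 : 4 ∣ q ^ 2 - 1 := by
      obtain ⟨k, rfl⟩ := hodd
      have : (2 * k + 1) ^ 2 = 4 * (k ^ 2 + k) + 1 := by ring
      rw [this, Nat.add_sub_cancel]
      exact Dvd.intro _ rfl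
    rw [pow_mul]
    exact h4.trans (Nat.sub_one_dvd_pow_sub_one _ _)
  have hP : ∀ k, P 2 (2 ^ k) = 2 ^ k := fun k => by
    have := P_pow_self (r := 2) (k := k) (a := 1) Nat.prime_two (by norm_num)
    simpa using this
  have h4 : P 2 4 = 4 := hP 2
  rw [hdd, h4] at h2
  have h5 := PC_two hq3 hodd (show 1 ≤ n by omega)
  have h6 : AA n q = ∏ i ∈ range n, (q ^ (2 * (i + 1)) - 1) := rfl
  rw [← h6] at h5
  have h7 : P 2 (num (.D n) q) * P 2 (q ^ n + 1) = P 2 (AA n q) := by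
    rw [← P_mul hn0 (by positivity), num_D_mul (by omega) (by omega)]
  have h8 : 2 ≤ P 2 (q ^ n + 1) := by
    have h9 : 2 ∣ q ^ n + 1 := by
      have : Odd (q ^ n) := hodd.pow
      obtain ⟨k, hk⟩ := this
      exact ⟨k + 1, by omega⟩
    have h10 : P 2 2 ≤ P 2 (q ^ n + 1) := P_mono Nat.prime_two (by positivity) h9
    have h11 : P 2 2 = 2 := hP 1
    omega
  rw [Nat.le_div_iff_mul_le (by norm_num)]
  have h9 : P 2 M * 8 ≤ P 2 (AA n q) := by
    rw [← h7, ← h2]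
    calc P 2 M * 8 = 4 * P 2 M * 2 := by ring
      _ ≤ _ := Nat.mul_le_mul_left _ h8
  omega

/-- the order -/
def cardD (n q : ℕ) : ℕ := q ^ (n * (n - 1)) * ((q ^ n - 1) * AA (n - 1) q) / Nat.gcd 4 (q ^ n - 1)

theorem M_eq (hY : Real (.D n) p f M) (hq : p ^ f = q) : M = cardD n q := by
  subst hq
  have h1 := hY.eq
  have hd := hY.dd_ne
  have h2 : num (.D n) (p ^ f) = ((p ^ f) ^ n - 1) * AA (n - 1) (p ^ f) := rfl
  have h3 : dd (.D n) (p ^ f) = Nat.gcd 4 ((p ^ f) ^ n - 1) := rfl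
  have h4 : NN (.D n) = n * (n - 1) := rfl
  rw [h2, h3, h4] at h1
  rw [cardD, ← h1]
  exact (Nat.mul_div_cancel_left _ (Nat.gcd_pos_of_pos_left _ (by norm_num))).symm

/-- the enumeration -/
def en (n q D v a : ℕ) : Bool :=
  (cardD n q % v ^ (a + 1) != 0) && (List.range (a + 1)).all fun N => (ents v N).all fun x =>
    decide (x.1 = .L 2) || (cardD n q % val v x != 0) || ((24 * dd x.1 (v ^ x.2) * x.2 * val v x) % D != 0)

theorem en_false {a : ℕ} (hc : CrD n p f M X v g MS I) (hq : p ^ f = q) (hd : t ∣ I * MS)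
    (hen : en n q t v a = true) : False := by
  obtain ⟨hY, hX, hX2, hvp, hMS, -, -, hI, -⟩ := hc
  have hM := M_eq hY hq
  have hM0 := hY.M_ne
  have hv := hX.hp
  rw [en, Bool.and_eq_true, bne_iff_ne, List.all_eq_true] at hen
  obtain ⟨h1, h2⟩ := hen
  have hN : g * NN X ≤ a := by
    by_contra hcon
    apply h1
    apply Nat.mod_eq_zero_of_dvd
    rw [← hM]
    have h3 : v ^ (g * NN X) ∣ M := by
      have := P_dvd v MS
      rw [hX.P_self, ← pow_mul] at this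
      exact this.trans hMS
    exact (pow_dvd_pow v (by omega)).trans h3
  have h3 := h2 _ (List.mem_range.2 (show g * NN X < a + 1 by omega))
  rw [List.all_eq_true] at h3
  have h4 := h3 _ (mem_ents hX rfl)
  rw [val_eq hX] at h4
  simp only [Bool.or_eq_true, decide_eq_true_eq, bne_iff_ne, ne_eq] at h4
  rcases h4 with (h4 | h4) | h4
  · exact hX2 h4
  · exact h4 (Nat.mod_eq_zero_of_dvd (by rw [← hM]; exact hMS))
  · exact h4 (Nat.mod_eq_zero_of_dvd (hd.trans (Nat.mul_dvd_mul_right hI _)))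

theorem cross_fin {b : ℕ} (hc : CrD n p f M X v g MS I) (hq : p ^ f = q) (hn : 2 ≤ n)
    (hg : good n q (te n q) = true)
    (hb : ∀ v : ℕ, v.Prime → v ≠ p → v ∣ te n q → P v M ≤ b) (hck2 : ck2 b (te n q) = true)
    (hE : ∀ e, 1 ≤ e → e ≤ n → ck n q (te n q) e = true ∨
      ∀ v : ℕ, v.Prime → v ≠ 2 → v ∣ q ^ (2 * e) - 1 → ∃ a, en n q (te n q) v a = true)
    (h2 : p ≠ 2 → (∃ B, P 2 M ≤ B ∧ ck3 B (te n q) = true) ∨ ∃ a, en n q (te n q) 2 a = true) : False := by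
  have hv := hc.hX.hp
  have hvp := hc.hvp
  have hq2 := hc.hY.q_ge
  have hvq := hc.hY.not_dvd_q hv hc.hvp
  have hd := hc.hd
  rw [hq] at hq2 hvq hd
  have hd' := FrD.good hd (by omega) hq2 hg
  by_cases hvt : v ∣ te n q
  · have hv2 : v ≠ 2 := by
      rintro rfl
      have h1 := order_of_good hq2 Nat.prime_two (good_C (by omega) hg) hvt
      have h3 : orderOf ((q ^ 2 : ℕ) : ZMod 2) ≤ 1 := by
        have hodd : ¬ 2 ∣ q ^ 2 := fun h => hvq (Nat.prime_two.dvd_of_dvd_pow h)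
        have h4 : ((q ^ 2 : ℕ) : ZMod 2) = 1 := by
          rw [← Nat.cast_one, ZMod.natCast_eq_natCast_iff]
          show q ^ 2 % 2 = 1 % 2
          omega
        rw [h4, orderOf_one]
      omega
    exact ck2_false hc hd' hv2 (hb v hv hvp hvt) hck2
  · by_cases hv2 : v = 2
    · subst hv2
      rcases h2 (Ne.symm hvp) with ⟨B, h3, h4⟩ | ⟨a, h3⟩
      · exact ck3_false hc hd' hvt h3 h4
      · exact en_false hc hq hd' h3
    · by_cases hs : ∃ a, en n q (te n q) v a = true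
      · obtain ⟨a, hs⟩ := hs
        exact en_false hc hq hd' hs
      · refine ck_false hc hq hd' hv2 hvt fun e he hen heo => ?_
        rcases hE e he hen with h | h
        · exact h
        · exfalso
          apply hs
          apply h v hv hv2
          rw [pow_mul, heo, Cfsg.Agent.Lib.Zsigmondy.dvd_pow_sub_one_iff (Nat.one_le_pow _ _ (by omega))]

/-- the checks -/
def fl (n q b s : ℕ) : Bool :=
  good n q (te n q) && ck2 b (te n q) && ((List.range n).all fun e => decide (e + 1 ≤ s) || ck n q (te n q) (e + 1))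

/-- the check for the prime `2` -/
def tw (n q a : ℕ) : Bool := ck3 ((4 * (q + 1)) ^ n / 16) (te n q) || en n q (te n q) 2 a

theorem cross_fl {b s a : ℕ} (hc : CrD n p f M X v g MS I) (hq : p ^ f = q) (hn : 2 ≤ n) (hev : n % 2 = 0)
    (hb : ∀ v : ℕ, v.Prime → v ≠ p → v ∣ te n q → P v M ≤ b) (hfl : fl n q b s = true)
    (hs : ∀ e, 1 ≤ e → e ≤ s → ∀ v : ℕ, v.Prime → v ≠ 2 → v ∣ q ^ (2 * e) - 1 → ∃ a, en n q (te n q) v a = true)
    (h2 : p ≠ 2 → tw n q a = true) : False := by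
  simp only [fl, Bool.and_eq_true] at hfl
  obtain ⟨⟨h3, h4⟩, h5⟩ := hfl
  refine cross_fin hc hq hn h3 hb h4 ?_ ?_
  · intro e he hen
    rw [List.all_eq_true] at h5
    have h6 := h5 (e - 1) (List.mem_range.2 (by omega))
    rw [show e - 1 + 1 = e by omega, Bool.or_eq_true, decide_eq_true_eq] at h6
    rcases h6 with h6 | h6
    · exact Or.inr (hs e he h6)
    · exact Or.inl h6
  · intro hp2
    have h6 := h2 hp2
    rw [tw, Bool.or_eq_true] at h6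
    rcases h6 with h6 | h6
    · exact Or.inl ⟨_, P_two_le hc.hY hq (Ne.symm hp2) hev, h6⟩
    · exact Or.inr ⟨a, h6⟩

/-- the primes of the top part -/
theorem te_bound (hc : CrD n p f M X v g MS I) (hq : p ^ f = q) (hn : 2 ≤ n) (hg : good n q (te n q) = true) :
    ∀ v : ℕ, v.Prime → v ≠ p → v ∣ te n q → P v M ≤ q ^ (n - 1) + 1 := by
  intro w hw hwp hd
  have hq2 := hc.hY.q_ge
  have hvq := hc.hY.not_dvd_q hw hwp
  have h2 : P w M ≤ P w (AA n (p ^ f)) := P_le_AA hc.hY hw hwp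
  rw [hq] at hq2 hvq h2
  have h1 := order_of_good hq2 hw (good_C (by omega) hg) hd
  have hw2 : w ≠ 2 := by
    rintro rfl
    have h3 : orderOf ((q ^ 2 : ℕ) : ZMod 2) ≤ 1 := by
      have hodd : ¬ 2 ∣ q ^ 2 := fun h => hvq (Nat.prime_two.dvd_of_dvd_pow h)
      have h4 : ((q ^ 2 : ℕ) : ZMod 2) = 1 := by
        rw [← Nat.cast_one, ZMod.natCast_eq_natCast_iff]
        show q ^ 2 % 2 = 1 % 2
        omega
      rw [h4, orderOf_one]
    omega
  have h3 : w ∣ AA (n - 1) q := by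
    simp only [good, Bool.and_eq_true, beq_iff_eq] at hg
    exact hd.trans (Nat.dvd_of_mod_eq_zero hg.1)
  obtain ⟨h4, h5 | ⟨h5, -⟩⟩ := PC_odd' hw hw2 hq2 hvq (n - 1)
  · exfalso
    have h6 : P w (AA (n - 1) q) ≠ 1 := by
      rw [P, Ne, Nat.pow_eq_one]
      have := hw.factorization_pos_of_dvd (AA_ne hq2) h3
      have := hw.two_le
      omega
    exact h6 h5.2
  · have h6 := P_le_of_order hw hw2 hq2 hvq h1
    have h7 := Nat.pow_le_pow_right (show 0 < q by omega) h5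
    omega

theorem good_of_fl {b s : ℕ} (h : fl n q b s = true) : good n q (te n q) = true := by
  simp only [fl, Bool.and_eq_true] at h
  exact h.1.1

end

private noncomputable def _root_.Cfsg.Agent.KO82c10aa.k0 : type_of% @Decidable.decide := @(fun x0 x1 => @Decidable.rec.{1} _ @(fun x2 => @Bool) @(fun x2 => @Bool.false) @(fun x2 => @Bool.true) @x1)
private theorem _root_.Cfsg.Agent.KO82c10aa.e0 : @Decidable.decide = @_root_.Cfsg.Agent.KO82c10aa.k0 := by delta _root_.Cfsg.Agent.KO82c10aa.k0; rfl'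
private theorem _root_.Cfsg.Agent.KO82c10aa.e1.{ku, kv} {α : Type kv} {M : List α → Sort ku} (φ : ∀ l, M l) {z : M List.nil} {s : ∀ a l, M l → M (List.cons a l)} (h0 : φ List.nil = z) (hs : ∀ a l, φ (List.cons a l) = s a l (φ l)) (l : List α) : φ l = @List.rec α M z s l := List.rec h0 (fun a l ih => (hs a l).trans (congrArg (s a l) ih)) l
private noncomputable def _root_.Cfsg.Agent.KO82c10aa.k2.{ku0} : type_of% @List.decidableBAll.{ku0} := @(fun x0 x1 x2 x3 => @List.rec.{1, ku0} @x0 @(fun x4 => @Decidable ((x5 : @x0) → (@Membership.mem.{ku0, ku0} _ _ _ @x4 @x5) → @x1 @x5)) (@Decidable.isTrue _ (@List.decidableBAll._proof_1.{ku0} _ @x1)) @(fun x4 x5 x6 => @Decidable.rec.{1} _ @(fun x7 => @Decidable ((x8 : @x0) → (@Membership.mem.{ku0, ku0} _ _ _ (@x4 :: @x5) @x8) → @x1 @x8)) @(fun x7 => @Decidable.isFalse _ (@List.decidableBAll._proof_4.{ku0} _ @x1 @x4 @x5 @x7)) @(fun x7 => @Decidable.rec.{1}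 _ @(fun x8 => @Decidable ((x9 : @x0) → (@Membership.mem.{ku0, ku0} _ _ _ (@x4 :: @x5) @x9) → @x1 @x9)) @(fun x8 => @Decidable.isFalse _ (@List.decidableBAll._proof_3.{ku0} _ @x1 @x4 @x5 @x8)) @(fun x8 => @Decidable.isTrue _ (@List.decidableBAll._proof_2.{ku0} _ @x1 @x4 @x5 @x7 @x8)) @x6) (@x2 @x4)) @x3)
private theorem _root_.Cfsg.Agent.KO82c10aa.e2.{ku0} : @List.decidableBAll.{ku0} = @_root_.Cfsg.Agent.KO82c10aa.k2.{ku0} := by delta _root_.Cfsg.Agent.KO82c10aa.k2; funext a0 a1 a2 a3; refine (_root_.Cfsg.Agent.KO82c10aa.e1 (fun a3 => @List.decidableBAll.{ku0} a0 a1 a2 a3) ?_ (fun c0 c1 => ?_) a3 :) <;> (rfl')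
private noncomputable def _root_.Cfsg.Agent.KO82c10aa.k3 : type_of% @Bool.decEq := @(fun x0 x1 => @Bool.rec.{1} @(fun x2 => @Decidable (@Eq.{1} _ @x2 @x1)) (@Bool.rec.{1} @(fun x2 => @Decidable (@Eq.{1} _ @Bool.false @x2)) (@Decidable.isTrue _ (@rfl.{1} _ _)) (@Decidable.isFalse _ @(fun x2 => @Bool.noConfusion.{0} _ _ _ @x2)) @x1) (@Bool.rec.{1} @(fun x2 => @Decidable (@Eq.{1} _ @Bool.true @x2)) (@Decidable.isFalse _ @(fun x2 => @Bool.noConfusion.{0} _ _ _ @x2)) (@Decidable.isTrue _ (@rfl.{1} _ _)) @x1) @x0)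
private theorem _root_.Cfsg.Agent.KO82c10aa.e3 : @Bool.decEq = @_root_.Cfsg.Agent.KO82c10aa.k3 := by delta _root_.Cfsg.Agent.KO82c10aa.k3; rfl'
private noncomputable def _root_.Cfsg.Agent.KO82c10aa.k4 : type_of% @instDecidableEqBool := @Cfsg.Agent.KO82c10aa.k3
private theorem _root_.Cfsg.Agent.KO82c10aa.e4 : @instDecidableEqBool = @_root_.Cfsg.Agent.KO82c10aa.k4 := by delta _root_.Cfsg.Agent.KO82c10aa.k4; rewrite [← Cfsg.Agent.KO82c10aa.e3]; rfl'
private noncomputable def _root_.Cfsg.Agent.KO82c10aa.oLe.{ku} (α : Sort ku) (a b : Nat) (f t : α) : α := @Decidable.rec (@LE.le Nat instLENat a b) (fun _ => α) (fun _ => f) (fun _ => t) (Nat.decLe a b)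
private noncomputable def _root_.Cfsg.Agent.KO82c10aa.k5.{ku} (α : Sort ku) (a b : Nat) (f t : α) : α := @Bool.rec (fun _ => α) f t (Nat.ble a b)
private theorem _root_.Cfsg.Agent.KO82c10aa.e5.{ku} : @_root_.Cfsg.Agent.KO82c10aa.oLe.{ku} = @_root_.Cfsg.Agent.KO82c10aa.k5.{ku} := funext fun α => funext fun a => funext fun b => funext fun f => funext fun t => by delta _root_.Cfsg.Agent.KO82c10aa.oLe _root_.Cfsg.Agent.KO82c10aa.k5; cases h : Nat.ble a b <;> cases Nat.decLe a b <;> rename_i g <;> first | rfl | exact absurd (h.symm.trans (Nat.ble_eq_true_of_le g)) Bool.false_ne_true | exact absurd (Nat.le_of_ble_eq_true h) g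
private noncomputable def _root_.Cfsg.Agent.KO82c10aa.k6.{ku0} : type_of% @List.all.{ku0} := @(fun x0 x1 x2 => @List.rec.{(ku0+1), ku0} @x0 @(fun x3 => (@x0 → @Bool) → @Bool) @(fun x3 => @Bool.true) @(fun x3 x4 x5 x6 => @Bool.rec.{1} @(fun x7 => @Bool) @Bool.false (@x5 @x6) (@x6 @x3)) @x1 @x2)
private theorem _root_.Cfsg.Agent.KO82c10aa.e6.{ku0} : @List.all.{ku0} = @_root_.Cfsg.Agent.KO82c10aa.k6.{ku0} := by delta _root_.Cfsg.Agent.KO82c10aa.k6; funext a0 a1 a2; refine (congrFun (_root_.Cfsg.Agent.KO82c10aa.e1 (fun a1 a2 => @List.all.{ku0} a0 a1 a2) ?_ (fun c0 c1 => ?_) a1) a2 :) <;> (rfl')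
private theorem _root_.Cfsg.Agent.KO82c10aa.e7.{ku} {M : Nat → Sort ku} (φ : ∀ n, M n) {z : M Nat.zero} {s : ∀ n, M n → M (Nat.succ n)} (h0 : φ Nat.zero = z) (hs : ∀ n, φ (Nat.succ n) = s n (φ n)) (n : Nat) : φ n = @Nat.rec M z s n := Nat.rec h0 (fun n ih => (hs n).trans (congrArg (s n) ih)) n
private noncomputable def _root_.Cfsg.Agent.KO82c10aa.k8 : type_of% @List.range.loop := @(fun x0 x1 => @Nat.rec.{1} @(fun x2 => (@List.{0} ℕ) → @List.{0} ℕ) @(fun x2 => @x2) @(fun x2 x3 x4 => @x3 (@x2 :: @x4)) @x0 @x1)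
private theorem _root_.Cfsg.Agent.KO82c10aa.e8 : @List.range.loop = @_root_.Cfsg.Agent.KO82c10aa.k8 := by delta _root_.Cfsg.Agent.KO82c10aa.k8; funext a0 a1; refine (congrFun (_root_.Cfsg.Agent.KO82c10aa.e7 (fun a0 a1 => @List.range.loop a0 a1) ?_ (fun c0 => ?_) a0) a1 :) <;> (rfl')
private noncomputable def _root_.Cfsg.Agent.KO82c10aa.k9 : (by first | exact type_of% @Cfsg.Agent.H364.SpSmall.Be | exact Unit : Sort _) := by first | (refine @Subtype.val _ (fun g => @Cfsg.Agent.H364.SpSmall.Be = @g) (@Subtype.mk _ _ (@(fun x0 x1 x2 => @Nat.mul (@Nat.pow (@Nat.pow (@Nat.add (@Nat.pow @x1 @x2) (nat_lit 1)) (nat_lit 2)) (@Nat.div @x0 @x2)) (@Nat.pow (nat_lit 3) (@Nat.sub (@Nat.div @x0 @x2) (nat_lit 1))))) ?_); rfl') | exact @Cfsg.Agent.H364.SpSmall.Be | exact ()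
private theorem _root_.Cfsg.Agent.KO82c10aa.e9 : (by first | exact @Cfsg.Agent.H364.SpSmall.Be = @_root_.Cfsg.Agent.KO82c10aa.k9 | exact True : Prop) := by first | (delta _root_.Cfsg.Agent.KO82c10aa.k9; exact @Subtype.property _ (fun g => @Cfsg.Agent.H364.SpSmall.Be = @g) _) | rfl | trivial
private noncomputable def _root_.Cfsg.Agent.KO82c10aa.k10 : (by first | exact type_of% @Cfsg.Agent.H364.SpSmall.ck | exact Unit : Sort _) := by first | (refine @Subtype.val _ (fun g => @Cfsg.Agent.H364.SpSmall.ck = @g) (@Subtype.mk _ _ (@(fun x0 x1 x2 x3 => @Bool.rec.{1} @(fun x4 => @Bool) @Bool.false (@Cfsg.Agent.KO82c10aa.k6.{0} _ (@Cfsg.Agent.KO82c10aa.k8 (nat_lit 64) []) @(fun x4 => @Bool.rec.{1} @(fun x5 => @Bool) (@Cfsg.Agent.KO82c10aa.k5.{1} @Bool (@Nat.succ (@Nat.mul (@Nat.pow (@Cfsg.Agent.KO82c10aa.k9 @x0 @x1 @x3) (nat_lit 5)) (@Nat.pow @x4 (nat_lit 6)))) (@Nat.pow @x2 (nat_lit 6)) @Bool.false @Bool.true)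 @Bool.true (@Cfsg.Agent.KO82c10aa.k5.{1} @Bool (@Nat.succ (@Cfsg.Agent.KO82c10aa.k9 @x0 @x1 @x3)) (@Nat.pow (nat_lit 9) @x4) @Bool.false @Bool.true))) (@Cfsg.Agent.KO82c10aa.k5.{1} @Bool (@Nat.succ (@Cfsg.Agent.KO82c10aa.k9 @x0 @x1 @x3)) (@Nat.pow (nat_lit 9) (nat_lit 64)) @Bool.false @Bool.true))) ?_); rewrite [← Cfsg.Agent.KO82c10aa.e9, ← Cfsg.Agent.KO82c10aa.e5.{1}, ← Cfsg.Agent.KO82c10aa.e8, ← Cfsg.Agent.KO82c10aa.e6.{0}]; (try delta Cfsg.Agent.H364.SpSmall.ck); (try generalize @Cfsg.Agent.H364.SpSmall.Be = g0); rfl') | exact @Cfsg.Agent.H364.SpSmall.ck | exact ()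
private theorem _root_.Cfsg.Agent.KO82c10aa.e10 : (by first | exact @Cfsg.Agent.H364.SpSmall.ck = @_root_.Cfsg.Agent.KO82c10aa.k10 | exact True : Prop) := by first | (delta _root_.Cfsg.Agent.KO82c10aa.k10; exact @Subtype.property _ (fun g => @Cfsg.Agent.H364.SpSmall.ck = @g) _) | rfl | trivial
private noncomputable def _root_.Cfsg.Agent.KO82c10aa.oEq.{ku} (α : Sort ku) (a b : Nat) (f t : α) : α := @Decidable.rec (a = b) (fun _ => α) (fun _ => f) (fun _ => t) (Nat.decEq a b)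
private noncomputable def _root_.Cfsg.Agent.KO82c10aa.k11.{ku} (α : Sort ku) (a b : Nat) (f t : α) : α := @Bool.rec (fun _ => α) f t (Nat.beq a b)
private theorem _root_.Cfsg.Agent.KO82c10aa.e11.{ku} : @_root_.Cfsg.Agent.KO82c10aa.oEq.{ku} = @_root_.Cfsg.Agent.KO82c10aa.k11.{ku} := funext fun α => funext fun a => funext fun b => funext fun f => funext fun t => by delta _root_.Cfsg.Agent.KO82c10aa.oEq _root_.Cfsg.Agent.KO82c10aa.k11; cases h : Nat.beq a b <;> cases Nat.decEq a b <;> rename_i g <;> first | rfl | exact absurd g (Nat.ne_of_beq_eq_false h) | exact absurd (Nat.eq_of_beq_eq_true h) g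
private noncomputable def _root_.Cfsg.Agent.KO82c10aa.k12 : (by first | exact type_of% @Cfsg.Agent.H364.SpSmall.strip | exact Unit : Sort _) := by first | (refine @Subtype.val _ (fun g => @Cfsg.Agent.H364.SpSmall.strip = @g) (@Subtype.mk _ _ (@(fun x0 x1 x2 => @Nat.rec.{1} @(fun x3 => ℕ → ℕ → ℕ) @(fun x3 x4 => @x3) @(fun x3 x4 x5 x6 => (let x7 : ℕ := @Nat.gcd @x5 @x6; @Cfsg.Agent.KO82c10aa.k11.{1} ℕ (@Nat.gcd @x5 @x6) (nat_lit 1) (@x4 (@Nat.div @x5 @x7) @x6) @x5)) @x0 @x1 @x2)) ?_); rewrite [← Cfsg.Agent.KO82c10aa.e11.{1}]; funext a0 a1 a2; refine (congrFun (congrFun (_root_.Cfsg.Agent.KO82c10aa.e7 (fun a0 a1 a2 => @Cfsg.Agent.H364.SpSmall.strip a0 a1 a2) ?_ (fun c0 => ?_) a0) a1) a2 :) <;> (rfl')) | exact @Cfsg.Agent.H364.SpSmall.strip | exact ()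
private theorem _root_.Cfsg.Agent.KO82c10aa.e12 : (by first | exact @Cfsg.Agent.H364.SpSmall.strip = @_root_.Cfsg.Agent.KO82c10aa.k12 | exact True : Prop) := by first | (delta _root_.Cfsg.Agent.KO82c10aa.k12; exact @Subtype.property _ (fun g => @Cfsg.Agent.H364.SpSmall.strip = @g) _) | rfl | trivial
private noncomputable def _root_.Cfsg.Agent.KO82c10aa.k14.{ku0, ku1} : type_of% @Multiset.foldr.{ku0, ku1} := @(fun x0 x1 x2 x3 x4 x5 => @Quot.lift.{(ku1+1), (ku0+1)} _ _ _ @(fun x6 => @List.foldr.{ku1, ku0} _ _ @x2 @x4 @x6) @(fun x6 x7 x8 => @List.Perm.foldr_eq.{ku1, ku0} _ _ _ _ _ _ @x8 @x4) @x5)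
private theorem _root_.Cfsg.Agent.KO82c10aa.e14.{ku0, ku1} : @Multiset.foldr.{ku0, ku1} = @_root_.Cfsg.Agent.KO82c10aa.k14.{ku0, ku1} := by delta _root_.Cfsg.Agent.KO82c10aa.k14; rfl'
private noncomputable def _root_.Cfsg.Agent.KO82c10aa.k15.{ku0} : type_of% @Multiset.prod.{ku0} := @(fun x0 x1 => @Cfsg.Agent.KO82c10aa.k14.{ku0, ku0} _ _ @(fun x2 x3 => @Mul.mul.{ku0} _ (@Semigroup.toMul.{ku0} _ (@Monoid.toSemigroup.{ku0} _ (@CommMonoid.toMonoid.{ku0} _ @x1))) @x2 @x3) (@Multiset.prod._proof_1.{ku0} _ _) (@One.one.{ku0} _ (@Monoid.toOne.{ku0} _ (@CommMonoid.toMonoid.{ku0} _ @x1))))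
private theorem _root_.Cfsg.Agent.KO82c10aa.e15.{ku0} : @Multiset.prod.{ku0} = @_root_.Cfsg.Agent.KO82c10aa.k15.{ku0} := by delta _root_.Cfsg.Agent.KO82c10aa.k15; rewrite [← Cfsg.Agent.KO82c10aa.e14.{ku0, ku0}]; rfl'
private noncomputable def _root_.Cfsg.Agent.KO82c10aa.k17 : (by first | exact type_of% @Cfsg.Agent.H364.SpVal.AA | exact Unit : Sort _) := by first | (refine @Subtype.val _ (fun g => @Cfsg.Agent.H364.SpVal.AA = @g) (@Subtype.mk _ _ (@(fun x0 x1 => @Cfsg.Agent.KO82c10aa.k15.{0} _ @Nat.instCommMonoid (@Quot.lift.{1, 1} _ _ _ @(fun x2 => @Quot.mk.{1} _ (@Setoid.r.{1} _ _) (@List.map.{0, 0} _ _ @(fun x3 => @Nat.sub (@Nat.pow @x1 (@Nat.mul (nat_lit 2) (@Nat.add @x3 (nat_lit 1)))) (nat_lit 1)) @x2)) (@Multiset.map._proof_1.{0, 0} _ _ @(fun x2 => @HSub.hSub.{0, 0, 0} _ _ _ _ (@HPow.hPow.{0, 0, 0} _ _ _ _ @x1 (@HMul.hMul.{0, 0, 0} _ _ _ _ ((2 : ℕ)) (@HAdd.hAdd.{0, 0, 0} _ _ _ _ @x2 ((1 :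 ℕ))))) ((1 : ℕ)))) (@Quot.mk.{1} _ (@Setoid.r.{1} _ _) (@Cfsg.Agent.KO82c10aa.k8 @x0 []))))) ?_); rewrite [← Cfsg.Agent.KO82c10aa.e8, ← Cfsg.Agent.KO82c10aa.e15.{0}]; rfl') | exact @Cfsg.Agent.H364.SpVal.AA | exact ()
private theorem _root_.Cfsg.Agent.KO82c10aa.e17 : (by first | exact @Cfsg.Agent.H364.SpVal.AA = @_root_.Cfsg.Agent.KO82c10aa.k17 | exact True : Prop) := by first | (delta _root_.Cfsg.Agent.KO82c10aa.k17; exact @Subtype.property _ (fun g => @Cfsg.Agent.H364.SpVal.AA = @g) _) | rfl | trivial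
private noncomputable def _root_.Cfsg.Agent.KO82c10aa.k18 : (by first | exact type_of% @Cfsg.Agent.H364.DEnum.te | exact Unit : Sort _) := by first | (refine @Subtype.val _ (fun g => @Cfsg.Agent.H364.DEnum.te = @g) (@Subtype.mk _ _ (@(fun x0 x1 => @Cfsg.Agent.KO82c10aa.k12 (nat_lit 40) (@Cfsg.Agent.KO82c10aa.k17 (@Nat.sub @x0 (nat_lit 1)) @x1) (@Cfsg.Agent.KO82c10aa.k17 (@Nat.div @x0 (nat_lit 2)) @x1))) ?_); rewrite [← Cfsg.Agent.KO82c10aa.e17, ← Cfsg.Agent.KO82c10aa.e12]; (try delta Cfsg.Agent.H364.DEnum.te); (try generalize @Cfsg.Agent.H364.SpSmall.strip = g0); (try generalize @Cfsg.Agent.H364.SpVal.AA = g1); rfl') | exact @Cfsg.Agent.H364.DEnum.te | exact ()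
private theorem _root_.Cfsg.Agent.KO82c10aa.e18 : (by first | exact @Cfsg.Agent.H364.DEnum.te = @_root_.Cfsg.Agent.KO82c10aa.k18 | exact True : Prop) := by first | (delta _root_.Cfsg.Agent.KO82c10aa.k18; exact @Subtype.property _ (fun g => @Cfsg.Agent.H364.DEnum.te = @g) _) | rfl | trivial
private noncomputable def _root_.Cfsg.Agent.KO82c10aa.k19 : (by first | exact type_of% @Cfsg.Agent.H364.SpSmall.ck2 | exact Unit : Sort _) := by first | (refine @Subtype.val _ (fun g => @Cfsg.Agent.H364.SpSmall.ck2 = @g) (@Subtype.mk _ _ (@(fun x0 x1 => @Bool.rec.{1} @(fun x2 => @Bool) @Bool.false (@Cfsg.Agent.KO82c10aa.k6.{0} _ (@Cfsg.Agent.KO82c10aa.k8 (nat_lit 64) []) @(fun x2 => @Bool.rec.{1} @(fun x3 => @Bool) (@Cfsg.Agent.KO82c10aa.k5.{1} @Bool (@Nat.succ (@Nat.mul (@Nat.pow @x0 (nat_lit 8)) (@Nat.pow @x2 (nat_lit 3)))) (@Nat.pow @x1 (nat_lit 3)) @Bool.false @Bool.true) @Bool.true (@Cfsg.Agent.KO82c10aa.k5.{1}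 @Bool (@Nat.succ @x0) (@Nat.pow (nat_lit 3) @x2) @Bool.false @Bool.true))) (@Cfsg.Agent.KO82c10aa.k5.{1} @Bool (@Nat.succ @x0) (@Nat.pow (nat_lit 3) (nat_lit 64)) @Bool.false @Bool.true))) ?_); rewrite [← Cfsg.Agent.KO82c10aa.e5.{1}, ← Cfsg.Agent.KO82c10aa.e8, ← Cfsg.Agent.KO82c10aa.e6.{0}]; rfl') | exact @Cfsg.Agent.H364.SpSmall.ck2 | exact ()
private theorem _root_.Cfsg.Agent.KO82c10aa.e19 : (by first | exact @Cfsg.Agent.H364.SpSmall.ck2 = @_root_.Cfsg.Agent.KO82c10aa.k19 | exact True : Prop) := by first | (delta _root_.Cfsg.Agent.KO82c10aa.k19; exact @Subtype.property _ (fun g => @Cfsg.Agent.H364.SpSmall.ck2 = @g) _) | rfl | trivial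
private noncomputable def _root_.Cfsg.Agent.KO82c10aa.k20 : (by first | exact type_of% @Cfsg.Agent.H364.DEnum.good | exact Unit : Sort _) := by first | (refine @Subtype.val _ (fun g => @Cfsg.Agent.H364.DEnum.good = @g) (@Subtype.mk _ _ (@(fun x0 x1 x2 => @Bool.rec.{1} @(fun x3 => @Bool) @Bool.false (@Cfsg.Agent.KO82c10aa.k11.{1} @Bool (@Nat.gcd @x2 (@Cfsg.Agent.KO82c10aa.k17 (@Nat.div @x0 (nat_lit 2)) @x1)) (nat_lit 1) @Bool.false @Bool.true) (@Cfsg.Agent.KO82c10aa.k11.{1} @Bool (@Nat.mod (@Cfsg.Agent.KO82c10aa.k17 (@Nat.sub @x0 (nat_lit 1)) @x1) @x2) (nat_lit 0) @Bool.false @Bool.true))) ?_); rewrite [← Cfsg.Agent.KO82c10aa.e17, ← Cfsg.Agent.KO82c10aa.e11.{1}]; (try delta Cfsg.Agent.H364.DEnum.good); (try generalize @Cfsg.Agent.H364.SpVal.AA = g0); rfl') | exact @Cfsg.Agent.H364.DEnum.good | exact ()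
private theorem _root_.Cfsg.Agent.KO82c10aa.e20 : (by first | exact @Cfsg.Agent.H364.DEnum.good = @_root_.Cfsg.Agent.KO82c10aa.k20 | exact True : Prop) := by first | (delta _root_.Cfsg.Agent.KO82c10aa.k20; exact @Subtype.property _ (fun g => @Cfsg.Agent.H364.DEnum.good = @g) _) | rfl | trivial
private noncomputable def _root_.Cfsg.Agent.KO82c10aa.k21 : (by first | exact type_of% @Cfsg.Agent.H364.DEnum.fl | exact Unit : Sort _) := by first | (refine @Subtype.val _ (fun g => @Cfsg.Agent.H364.DEnum.fl = @g) (@Subtype.mk _ _ (@(fun x0 x1 x2 x3 => @Bool.rec.{1} @(fun x4 => @Bool) @Bool.false (@Cfsg.Agent.KO82c10aa.k6.{0} _ (@Cfsg.Agent.KO82c10aa.k8 @x0 []) @(fun x4 => @Bool.rec.{1} @(fun x5 => @Bool) (@Cfsg.Agent.KO82c10aa.k10 @x0 @x1 (@Cfsg.Agent.KO82c10aa.k18 @x0 @x1) (@Nat.add @x4 (nat_lit 1))) @Bool.true (@Cfsg.Agent.KO82c10aa.k5.{1} @Bool (@Nat.add @x4 (nat_lit 1)) @x3 @Bool.false @Bool.true)))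 (@Bool.rec.{1} @(fun x4 => @Bool) @Bool.false (@Cfsg.Agent.KO82c10aa.k19 @x2 (@Cfsg.Agent.KO82c10aa.k18 @x0 @x1)) (@Cfsg.Agent.KO82c10aa.k20 @x0 @x1 (@Cfsg.Agent.KO82c10aa.k18 @x0 @x1))))) ?_); rewrite [← Cfsg.Agent.KO82c10aa.e20, ← Cfsg.Agent.KO82c10aa.e19, ← Cfsg.Agent.KO82c10aa.e5.{1}, ← Cfsg.Agent.KO82c10aa.e18, ← Cfsg.Agent.KO82c10aa.e10, ← Cfsg.Agent.KO82c10aa.e8, ← Cfsg.Agent.KO82c10aa.e6.{0}]; (try delta Cfsg.Agent.H364.DEnum.fl); (try generalize @Cfsg.Agent.H364.SpSmall.ck = g0); (try generalize @Cfsg.Agent.H364.DEnum.te = g1); (try generalize @Cfsg.Agent.H364.SpSmall.ck2 = g2); (try generalize @Cfsg.Agent.H364.DEnum.good = g3); rfl') | exact @Cfsg.Agent.H364.DEnum.fl | exact ()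
private theorem _root_.Cfsg.Agent.KO82c10aa.e21 : (by first | exact @Cfsg.Agent.H364.DEnum.fl = @_root_.Cfsg.Agent.KO82c10aa.k21 | exact True : Prop) := by first | (delta _root_.Cfsg.Agent.KO82c10aa.k21; exact @Subtype.property _ (fun g => @Cfsg.Agent.H364.DEnum.fl = @g) _) | rfl | trivial

theorem fl_list : ∀ a ∈ [(8, 2, 1), (8, 3, 1), (8, 4, 0), (8, 5, 0), (8, 7, 0), (8, 8, 0), (8, 9, 0), (8, 11, 0),
    (8, 13, 0), (8, 16, 0), (10, 2, 1), (10, 3, 0), (10, 4, 0), (10, 5, 0), (10, 7, 0), (12, 2, 0), (12, 3, 0),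
    (14, 2, 0), (16, 2, 0), (18, 2, 0), (20, 2, 0), (22, 2, 0)],
    fl a.1 a.2.1 (a.2.1 ^ (a.1 - 1) + 1) a.2.2 = true := by
  (first | (refine of_decide_eq_true ?_; rewrite [Cfsg.Agent.KO82c10aa.e0, Cfsg.Agent.KO82c10aa.e2.{0}, Cfsg.Agent.KO82c10aa.e4, Cfsg.Agent.KO82c10aa.e21]; decide +kernel) | decide +kernel)

private noncomputable def _root_.Cfsg.Agent.KO82c10aa.k16.{ku0, ku1} : type_of% @List.map.{ku0, ku1} := @(fun x0 x1 x2 x3 => @List.rec.{(ku1+1), ku0} @x0 @(fun x4 => @List.{ku1} @x1) [] @(fun x4 x5 x6 => (@x2 @x4) :: @x6) @x3)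
private theorem _root_.Cfsg.Agent.KO82c10aa.e16.{ku0, ku1} : @List.map.{ku0, ku1} = @_root_.Cfsg.Agent.KO82c10aa.k16.{ku0, ku1} := by delta _root_.Cfsg.Agent.KO82c10aa.k16; funext a0 a1 a2 a3; refine (_root_.Cfsg.Agent.KO82c10aa.e1 (fun a3 => @List.map.{ku0, ku1} a0 a1 a2 a3) ?_ (fun c0 c1 => ?_) a3 :) <;> (rfl')
private noncomputable def _root_.Cfsg.Agent.KO82c10aa.k22 : type_of% @Bool.or := @(fun x0 x1 => @Bool.rec.{1} @(fun x2 => @Bool) @x1 @Bool.true @x0)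
private theorem _root_.Cfsg.Agent.KO82c10aa.e22 : @Bool.or = @_root_.Cfsg.Agent.KO82c10aa.k22 := by delta _root_.Cfsg.Agent.KO82c10aa.k22; rfl'
private noncomputable def _root_.Cfsg.Agent.KO82c10aa.k23 : (by first | exact type_of% @Cfsg.Agent.H364.SpSmall.ck3 | exact Unit : Sort _) := by first | (refine @Subtype.val _ (fun g => @Cfsg.Agent.H364.SpSmall.ck3 = @g) (@Subtype.mk _ _ (@(fun x0 x1 => @Bool.rec.{1} @(fun x2 => @Bool) @Bool.false (@Cfsg.Agent.KO82c10aa.k6.{0} _ (@Cfsg.Agent.KO82c10aa.k8 (nat_lit 150) []) @(fun x2 => @Bool.rec.{1} @(fun x3 => @Bool) (@Cfsg.Agent.KO82c10aa.k5.{1} @Bool (@Nat.succ (@Nat.mul (@Nat.pow @x0 (nat_lit 5)) (@Nat.pow @x2 (nat_lit 3)))) (@Nat.pow @x1 (nat_lit 3)) @Bool.false @Bool.true) @Bool.true (@Cfsg.Agent.KO82c10aa.k5.{1} @Bool (@Nat.succ @x0) (@Nat.pow (nat_lit 2) @x2) @Bool.false @Bool.true))) (@Cfsg.Agent.KO82c10aa.k5.{1} @Bool (@Nat.succ @x0) (@Nat.pow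 (nat_lit 2) (nat_lit 150)) @Bool.false @Bool.true))) ?_); rewrite [← Cfsg.Agent.KO82c10aa.e5.{1}, ← Cfsg.Agent.KO82c10aa.e8, ← Cfsg.Agent.KO82c10aa.e6.{0}]; rfl') | exact @Cfsg.Agent.H364.SpSmall.ck3 | exact ()
private theorem _root_.Cfsg.Agent.KO82c10aa.e23 : (by first | exact @Cfsg.Agent.H364.SpSmall.ck3 = @_root_.Cfsg.Agent.KO82c10aa.k23 | exact True : Prop) := by first | (delta _root_.Cfsg.Agent.KO82c10aa.k23; exact @Subtype.property _ (fun g => @Cfsg.Agent.H364.SpSmall.ck3 = @g) _) | rfl | trivial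
private noncomputable def _root_.Cfsg.Agent.KO82c10aa.k24 : type_of% @Bool.and := @(fun x0 x1 => @Bool.rec.{1} @(fun x2 => @Bool) @Bool.false @x1 @x0)
private theorem _root_.Cfsg.Agent.KO82c10aa.e24 : @Bool.and = @_root_.Cfsg.Agent.KO82c10aa.k24 := by delta _root_.Cfsg.Agent.KO82c10aa.k24; rfl'
private noncomputable def _root_.Cfsg.Agent.KO82c10aa.k25.{ku0} : type_of% @bne.{ku0} := @(fun x0 x1 x2 x3 => @Bool.rec.{1} @(fun x4 => @Bool) @Bool.true @Bool.false (@BEq.beq.{ku0} _ @x1 @x2 @x3))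
private theorem _root_.Cfsg.Agent.KO82c10aa.e25.{ku0} : @bne.{ku0} = @_root_.Cfsg.Agent.KO82c10aa.k25.{ku0} := by delta _root_.Cfsg.Agent.KO82c10aa.k25; rfl'
private noncomputable def _root_.Cfsg.Agent.KO82c10aa.k26 : type_of% @Nat.decEq := @(fun x0 x1 => @Bool.rec.{1} @(fun x2 => (@Eq.{1} _ (@Nat.beq @x0 @x1) @x2) → @Decidable (@Eq.{1} _ @x0 @x1)) @(fun x2 => @Decidable.isFalse _ (@Nat.ne_of_beq_eq_false _ _ @x2)) @(fun x2 => @Decidable.isTrue _ (@Nat.eq_of_beq_eq_true _ _ @x2)) (@Nat.beq @x0 @x1) (@Eq.refl.{1} _ (@Nat.beq @x0 @x1)))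
private theorem _root_.Cfsg.Agent.KO82c10aa.e26 : @Nat.decEq = @_root_.Cfsg.Agent.KO82c10aa.k26 := by delta _root_.Cfsg.Agent.KO82c10aa.k26; rfl'
private noncomputable def _root_.Cfsg.Agent.KO82c10aa.k27 : type_of% @instDecidableEqNat := @Cfsg.Agent.KO82c10aa.k26
private theorem _root_.Cfsg.Agent.KO82c10aa.e27 : @instDecidableEqNat = @_root_.Cfsg.Agent.KO82c10aa.k27 := by delta _root_.Cfsg.Agent.KO82c10aa.k27; rewrite [← Cfsg.Agent.KO82c10aa.e26]; rfl'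
private noncomputable def _root_.Cfsg.Agent.KO82c10aa.k28 : (by first | exact type_of% @Cfsg.Agent.H364.DEnum.cardD | exact Unit : Sort _) := by first | (refine @Subtype.val _ (fun g => @Cfsg.Agent.H364.DEnum.cardD = @g) (@Subtype.mk _ _ (@(fun x0 x1 => @Nat.div (@Nat.mul (@Nat.pow @x1 (@Nat.mul @x0 (@Nat.sub @x0 (nat_lit 1)))) (@Nat.mul (@Nat.sub (@Nat.pow @x1 @x0) (nat_lit 1)) (@Cfsg.Agent.KO82c10aa.k17 (@Nat.sub @x0 (nat_lit 1)) @x1))) (@Nat.gcd (nat_lit 4) (@Nat.sub (@Nat.pow @x1 @x0) (nat_lit 1))))) ?_); rewrite [← Cfsg.Agent.KO82c10aa.e17]; (try delta Cfsg.Agent.H364.DEnum.cardD); (try generalize @Cfsg.Agent.H364.SpVal.AA = g0); rfl') | exact @Cfsg.Agent.H364.DEnum.cardD | exact ()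
private theorem _root_.Cfsg.Agent.KO82c10aa.e28 : (by first | exact @Cfsg.Agent.H364.DEnum.cardD = @_root_.Cfsg.Agent.KO82c10aa.k28 | exact True : Prop) := by first | (delta _root_.Cfsg.Agent.KO82c10aa.k28; exact @Subtype.property _ (fun g => @Cfsg.Agent.H364.DEnum.cardD = @g) _) | rfl | trivial
private noncomputable def _root_.Cfsg.Agent.KO82c10aa.k29 : type_of% @List.range := @(fun x0 => @Cfsg.Agent.KO82c10aa.k8 @x0 [])
private theorem _root_.Cfsg.Agent.KO82c10aa.e29 : @List.range = @_root_.Cfsg.Agent.KO82c10aa.k29 := by delta _root_.Cfsg.Agent.KO82c10aa.k29; rewrite [← Cfsg.Agent.KO82c10aa.e8]; rfl'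
private noncomputable def _root_.Cfsg.Agent.KO82c10aa.k30.{ku0} : type_of% @List.append.{ku0} := @(fun x0 x1 x2 => @List.rec.{(ku0+1), ku0} @x0 @(fun x3 => (@List.{ku0} @x0) → @List.{ku0} @x0) @(fun x3 => @x3) @(fun x3 x4 x5 x6 => @x3 :: (@x5 @x6)) @x1 @x2)
private theorem _root_.Cfsg.Agent.KO82c10aa.e30.{ku0} : @List.append.{ku0} = @_root_.Cfsg.Agent.KO82c10aa.k30.{ku0} := by delta _root_.Cfsg.Agent.KO82c10aa.k30; funext a0 a1 a2; refine (congrFun (_root_.Cfsg.Agent.KO82c10aa.e1 (fun a1 a2 => @List.append.{ku0} a0 a1 a2) ?_ (fun c0 c1 => ?_) a1) a2 :) <;> (rfl')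
private noncomputable def _root_.Cfsg.Agent.KO82c10aa.k31.{ku0} : type_of% @List.flatten.{ku0} := @(fun x0 x1 => @List.rec.{(ku0+1), ku0} (@List.{ku0} @x0) @(fun x2 => @List.{ku0} @x0) [] @(fun x2 x3 x4 => @Cfsg.Agent.KO82c10aa.k30.{ku0} _ @x2 @x4) @x1)
private theorem _root_.Cfsg.Agent.KO82c10aa.e31.{ku0} : @List.flatten.{ku0} = @_root_.Cfsg.Agent.KO82c10aa.k31.{ku0} := by delta _root_.Cfsg.Agent.KO82c10aa.k31; rewrite [← Cfsg.Agent.KO82c10aa.e30.{ku0}]; funext a0 a1; refine (_root_.Cfsg.Agent.KO82c10aa.e1 (fun a1 => @List.flatten.{ku0} a0 a1) ?_ (fun c0 c1 => ?_) a1 :) <;> (rfl')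
private noncomputable def _root_.Cfsg.Agent.KO82c10aa.k32 : (by first | exact type_of% @Cfsg.Agent.H902.Art.NN | exact Unit : Sort _) := by first | (refine @Subtype.val _ (fun g => @Cfsg.Agent.H902.Art.NN = @g) (@Subtype.mk _ _ (@(fun x0 => @Cfsg.Agent.H902.Art.Sh.rec.{1} @(fun x1 => ℕ) @(fun x1 => @Nat.div (@Nat.mul @x1 (@Nat.sub @x1 (nat_lit 1))) (nat_lit 2)) @(fun x1 => @Nat.pow @x1 (nat_lit 2)) @(fun x1 => @Nat.div (@Nat.mul @x1 (@Nat.sub @x1 (nat_lit 1))) (nat_lit 2)) @(fun x1 => @Nat.mul @x1 (@Nat.sub @x1 (nat_lit 1))) @(fun x1 => @Nat.mul @x1 (@Nat.sub @x1 (nat_lit 1))) (nat_lit 6) (nat_lit 24) (nat_lit 36) (nat_lit 63) (nat_lit 120) (nat_lit 36) (nat_lit 12) (nat_lit 2) (nat_lit 3) (nat_lit 12) @x0)) ?_); rfl') | exact @Cfsg.Agent.H902.Art.NN | exact ()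
private theorem _root_.Cfsg.Agent.KO82c10aa.e32 : (by first | exact @Cfsg.Agent.H902.Art.NN = @_root_.Cfsg.Agent.KO82c10aa.k32 | exact True : Prop) := by first | (delta _root_.Cfsg.Agent.KO82c10aa.k32; exact @Subtype.property _ (fun g => @Cfsg.Agent.H902.Art.NN = @g) _) | rfl | trivial
private noncomputable def _root_.Cfsg.Agent.KO82c10aa.k33 : (by first | exact type_of% @Cfsg.Agent.H902.Art.shapes | exact Unit : Sort _) := by first | (refine @Subtype.val _ (fun g => @Cfsg.Agent.H902.Art.shapes = @g) (@Subtype.mk _ _ (@(fun x0 => @Cfsg.Agent.KO82c10aa.k30.{0} _ (@Cfsg.Agent.KO82c10aa.k30.{0} _ (@Cfsg.Agent.KO82c10aa.k30.{0} _ (@Cfsg.Agent.KO82c10aa.k30.{0} _ (@Cfsg.Agent.KO82c10aa.k30.{0} _ (@Cfsg.Agent.KO82c10aa.k16.{0, 0} _ _ @Cfsg.Agent.H902.Art.Sh.L (@Cfsg.Agent.KO82c10aa.k8 (@Nat.add @x0 (nat_lit 2)) [])) (@Cfsg.Agent.KO82c10aa.k16.{0, 0} _ _ @Cfsg.Agent.H902.Art.Sh.C (@Cfsg.Agent.KO82c10aa.k8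 (@Nat.add @x0 (nat_lit 1)) []))) (@Cfsg.Agent.KO82c10aa.k16.{0, 0} _ _ @Cfsg.Agent.H902.Art.Sh.U (@Cfsg.Agent.KO82c10aa.k8 (@Nat.add @x0 (nat_lit 2)) []))) (@Cfsg.Agent.KO82c10aa.k16.{0, 0} _ _ @Cfsg.Agent.H902.Art.Sh.D (@Cfsg.Agent.KO82c10aa.k8 (@Nat.add @x0 (nat_lit 1)) []))) (@Cfsg.Agent.KO82c10aa.k16.{0, 0} _ _ @Cfsg.Agent.H902.Art.Sh.DD (@Cfsg.Agent.KO82c10aa.k8 (@Nat.add @x0 (nat_lit 1)) []))) (@Cfsg.Agent.H902.Art.Sh.G2 :: (@Cfsg.Agent.H902.Art.Sh.F4 :: (@Cfsg.Agent.H902.Art.Sh.E6 :: (@Cfsg.Agent.H902.Art.Sh.E7 :: (@Cfsg.Agent.H902.Art.Sh.E8 :: (@Cfsg.Agent.H902.Art.Sh.TE6 :: (@Cfsg.Agent.H902.Art.Sh.TD4 :: (@Cfsg.Agent.H902.Art.Sh.Sz :: (@Cfsg.Agent.H902.Art.Sh.Ree :: (@Cfsg.Agent.H902.Art.Sh.TF4 :: [])))))))))))) ?_); rewrite [← Cfsg.Agent.KO82c10aa.e8, ← Cfsg.Agent.KO82c10aa.e16.{0, 0}, ← Cfsg.Agent.KO82c10aa.e30.{0}]; rfl') | exact @Cfsg.Agent.H902.Art.shapes | exact ()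
private theorem _root_.Cfsg.Agent.KO82c10aa.e33 : (by first | exact @Cfsg.Agent.H902.Art.shapes = @_root_.Cfsg.Agent.KO82c10aa.k33 | exact True : Prop) := by first | (delta _root_.Cfsg.Agent.KO82c10aa.k33; exact @Subtype.property _ (fun g => @Cfsg.Agent.H902.Art.shapes = @g) _) | rfl | trivial
private noncomputable def _root_.Cfsg.Agent.KO82c10aa.k34 : (by first | exact type_of% @Cfsg.Agent.H902.EntsFast.entsF | exact Unit : Sort _) := by first | (refine @Subtype.val _ (fun g => @Cfsg.Agent.H902.EntsFast.entsF = @g) (@Subtype.mk _ _ (@(fun x0 x1 => @Cfsg.Agent.KO82c10aa.k31.{0} _ (@Cfsg.Agent.KO82c10aa.k16.{0, 0} _ _ @(fun x2 => @Bool.rec.{1} @(fun x3 => @List.{0} (@Cfsg.Agent.H902.Art.Sh × ℕ)) [] (((@x2, @Nat.div @x1 (@Cfsg.Agent.KO82c10aa.k32 @x2))) :: []) (@Bool.rec.{1} @(fun x3 => @Bool) @Bool.false (@Decidable.rec.{1} _ @(fun x3 => @Bool) @(fun x3 => @Bool.false) @(fun x3 => @Bool.true)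 (@Cfsg.Agent.H902.Art.instDecidableOk @x2 @x0 (@Nat.div @x1 (@Cfsg.Agent.KO82c10aa.k32 @x2)))) (@Nat.beq (@Nat.mod @x1 (@Cfsg.Agent.KO82c10aa.k32 @x2)) (nat_lit 0)))) (@Cfsg.Agent.KO82c10aa.k33 @x1)))) ?_); rewrite [← Cfsg.Agent.KO82c10aa.e33, ← Cfsg.Agent.KO82c10aa.e32, ← Cfsg.Agent.KO82c10aa.e16.{0, 0}, ← Cfsg.Agent.KO82c10aa.e31.{0}]; (try delta Cfsg.Agent.H902.EntsFast.entsF); (try generalize @Cfsg.Agent.H902.Art.NN = g0); (try generalize @Cfsg.Agent.H902.Art.shapes = g1); rfl') | exact @Cfsg.Agent.H902.EntsFast.entsF | exact ()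
private theorem _root_.Cfsg.Agent.KO82c10aa.e34 : (by first | exact @Cfsg.Agent.H902.EntsFast.entsF = @_root_.Cfsg.Agent.KO82c10aa.k34 | exact True : Prop) := by first | (delta _root_.Cfsg.Agent.KO82c10aa.k34; exact @Subtype.property _ (fun g => @Cfsg.Agent.H902.EntsFast.entsF = @g) _) | rfl | trivial
private noncomputable def _root_.Cfsg.Agent.KO82c10aa.k35 : (by first | exact type_of% @Cfsg.Agent.H902.EntsFast.numF | exact Unit : Sort _) := by first | (refine @Subtype.val _ (fun g => @Cfsg.Agent.H902.EntsFast.numF = @g) (@Subtype.mk _ _ (@(fun x0 x1 => @Cfsg.Agent.H902.Art.Sh.rec.{1} @(fun x2 => ((@Nat.hasNotBit (nat_lit 31) (@Cfsg.Agent.H902.Art.Sh.ctorIdx @x2)) → ℕ) → ℕ) @(fun x2 x3 => @Nat.rec.{1} @(fun x4 => ℕ) (nat_lit 1) @(fun x4 x5 => @Nat.mul @x5 (@Nat.sub (@Nat.pow @x1 (@Nat.add @x4 (nat_lit 2))) (nat_lit 1))) (@Nat.sub @x2 (nat_lit 1))) @(fun x2 x3 => @Nat.rec.{1} @(fun x4 => ℕ) (nat_lit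 1) @(fun x4 x5 => @Nat.mul @x5 (@Nat.sub (@Nat.pow @x1 (@Nat.mul (nat_lit 2) (@Nat.add @x4 (nat_lit 1)))) (nat_lit 1))) @x2) @(fun x2 x3 => @Nat.rec.{1} @(fun x4 => ℕ) (nat_lit 1) @(fun x4 x5 => @Nat.mul @x5 (@Bool.rec.{1} @(fun x6 => ℕ) (@Nat.add (@Nat.pow @x1 (@Nat.add @x4 (nat_lit 2))) (nat_lit 1)) (@Nat.sub (@Nat.pow @x1 (@Nat.add @x4 (nat_lit 2))) (nat_lit 1)) (@Nat.beq (@Nat.mod @x4 (nat_lit 2)) (nat_lit 0)))) (@Nat.sub @x2 (nat_lit 1))) @(fun x2 x3 => @Nat.mul (@Nat.sub (@Nat.pow @x1 @x2) (nat_lit 1)) (@Nat.rec.{1} @(fun x4 => ℕ) (nat_lit 1) @(fun x4 x5 => @Nat.mul @x5 (@Nat.sub (@Nat.pow @x1 (@Nat.mul (nat_lit 2) (@Nat.add @x4 (nat_lit 1)))) (nat_lit 1))) (@Nat.sub @x2 (nat_lit 1)))) @(fun x2 x3 => @Nat.mul (@Nat.add (@Nat.pow @x1 @x2) (nat_lit 1)) (@Nat.rec.{1} @(fun x4 => ℕ) (nat_lit 1) @(fun x4 x5 => @Nat.mul @x5 (@Nat.sub (@Nat.pow @x1 (@Nat.mul (nat_lit 2) (@Nat.add @x4 (nat_lit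 1)))) (nat_lit 1))) (@Nat.sub @x2 (nat_lit 1)))) @(fun x2 => @x2 (@Nat.ne_of_beq_eq_false _ _ (@Eq.refl.{1} _ @Bool.false))) @(fun x2 => @x2 (@Nat.ne_of_beq_eq_false _ _ (@Eq.refl.{1} _ @Bool.false))) @(fun x2 => @x2 (@Nat.ne_of_beq_eq_false _ _ (@Eq.refl.{1} _ @Bool.false))) @(fun x2 => @x2 (@Nat.ne_of_beq_eq_false _ _ (@Eq.refl.{1} _ @Bool.false))) @(fun x2 => @x2 (@Nat.ne_of_beq_eq_false _ _ (@Eq.refl.{1} _ @Bool.false))) @(fun x2 => @x2 (@Nat.ne_of_beq_eq_false _ _ (@Eq.refl.{1} _ @Bool.false))) @(fun x2 => @x2 (@Nat.ne_of_beq_eq_false _ _ (@Eq.refl.{1} _ @Bool.false))) @(fun x2 => @x2 (@Nat.ne_of_beq_eq_false _ _ (@Eq.refl.{1} _ @Bool.false))) @(fun x2 => @x2 (@Nat.ne_of_beq_eq_false _ _ (@Eq.refl.{1} _ @Bool.false))) @(fun x2 => @x2 (@Nat.ne_of_beq_eq_false _ _ (@Eq.refl.{1} _ @Bool.false))) @x0 @(fun x2 => @Cfsg.Agent.H902.Art.num @x0 @x1))) ?_); (try delta Cfsg.Agent.H902.EntsFast.numF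 Cfsg.Agent.H902.EntsFast.prodF); (try generalize @Cfsg.Agent.H902.Art.Sh.ctorIdx = g0); (try generalize @Cfsg.Agent.H902.Art.num = g1); rfl') | exact @Cfsg.Agent.H902.EntsFast.numF | exact ()
private theorem _root_.Cfsg.Agent.KO82c10aa.e35 : (by first | exact @Cfsg.Agent.H902.EntsFast.numF = @_root_.Cfsg.Agent.KO82c10aa.k35 | exact True : Prop) := by first | (delta _root_.Cfsg.Agent.KO82c10aa.k35; exact @Subtype.property _ (fun g => @Cfsg.Agent.H902.EntsFast.numF = @g) _) | rfl | trivial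
private noncomputable def _root_.Cfsg.Agent.KO82c10aa.k36 : (by first | exact type_of% @Cfsg.Agent.H902.Art.dd | exact Unit : Sort _) := by first | (refine @Subtype.val _ (fun g => @Cfsg.Agent.H902.Art.dd = @g) (@Subtype.mk _ _ (@(fun x0 x1 => @Cfsg.Agent.H902.Art.Sh.rec.{1} @(fun x2 => ((@Nat.hasNotBit (nat_lit 1439) (@Cfsg.Agent.H902.Art.Sh.ctorIdx @x2)) → ℕ) → ℕ) @(fun x2 x3 => @Nat.gcd @x2 (@Nat.sub @x1 (nat_lit 1))) @(fun x2 x3 => @Nat.gcd (nat_lit 2) (@Nat.sub @x1 (nat_lit 1))) @(fun x2 x3 => @Nat.gcd @x2 (@Nat.add @x1 (nat_lit 1))) @(fun x2 x3 => @Nat.gcd (nat_lit 4) (@Nat.sub (@Nat.pow @x1 @x2) (nat_lit 1))) @(fun x2 x3 => @Nat.gcd (nat_lit 4) (@Nat.add (@Nat.pow @x1 @x2) (nat_lit 1))) @(fun x2 => @x2 (@Nat.ne_of_beq_eq_false _ _ (@Eq.refl.{1} _ @Bool.false))) @(fun x2 => @x2 (@Nat.ne_of_beq_eq_false _ _ (@Eq.refl.{1} _ @Bool.false))) @(fun x2 => @Nat.gcd (nat_lit 3) (@Nat.sub @x1 (nat_lit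 1))) @(fun x2 => @Nat.gcd (nat_lit 2) (@Nat.sub @x1 (nat_lit 1))) @(fun x2 => @x2 (@Nat.ne_of_beq_eq_false _ _ (@Eq.refl.{1} _ @Bool.false))) @(fun x2 => @Nat.gcd (nat_lit 3) (@Nat.add @x1 (nat_lit 1))) @(fun x2 => @x2 (@Nat.ne_of_beq_eq_false _ _ (@Eq.refl.{1} _ @Bool.false))) @(fun x2 => @x2 (@Nat.ne_of_beq_eq_false _ _ (@Eq.refl.{1} _ @Bool.false))) @(fun x2 => @x2 (@Nat.ne_of_beq_eq_false _ _ (@Eq.refl.{1} _ @Bool.false))) @(fun x2 => @x2 (@Nat.ne_of_beq_eq_false _ _ (@Eq.refl.{1} _ @Bool.false))) @x0 @(fun x2 => nat_lit 1))) ?_); (try delta Cfsg.Agent.H902.Art.dd); (try generalize @Cfsg.Agent.H902.Art.Sh.ctorIdx = g0); rfl') | exact @Cfsg.Agent.H902.Art.dd | exact ()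
private theorem _root_.Cfsg.Agent.KO82c10aa.e36 : (by first | exact @Cfsg.Agent.H902.Art.dd = @_root_.Cfsg.Agent.KO82c10aa.k36 | exact True : Prop) := by first | (delta _root_.Cfsg.Agent.KO82c10aa.k36; exact @Subtype.property _ (fun g => @Cfsg.Agent.H902.Art.dd = @g) _) | rfl | trivial
private noncomputable def _root_.Cfsg.Agent.KO82c10aa.k37 : (by first | exact type_of% @Cfsg.Agent.H902.EntsFast.valF | exact Unit : Sort _) := by first | (refine @Subtype.val _ (fun g => @Cfsg.Agent.H902.EntsFast.valF = @g) (@Subtype.mk _ _ (@(fun x0 x1 => @Nat.div (@Nat.mul (@Nat.pow (@Nat.pow @x0 (@Prod.snd.{0, 0} _ _ @x1)) (@Cfsg.Agent.KO82c10aa.k32 (@Prod.fst.{0, 0} _ _ @x1))) (@Cfsg.Agent.KO82c10aa.k35 (@Prod.fst.{0, 0} _ _ @x1) (@Nat.pow @x0 (@Prod.snd.{0, 0} _ _ @x1)))) (@Cfsg.Agent.KO82c10aa.k36 (@Prod.fst.{0, 0} _ _ @x1) (@Nat.pow @x0 (@Prod.snd.{0, 0} _ _ @x1))))) ?_); rewrite [← Cfsg.Agent.KO82c10aa.e36,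 ← Cfsg.Agent.KO82c10aa.e35, ← Cfsg.Agent.KO82c10aa.e32]; (try delta Cfsg.Agent.H902.EntsFast.valF); (try generalize @Cfsg.Agent.H902.Art.NN = g0); (try generalize @Cfsg.Agent.H902.EntsFast.numF = g1); (try generalize @Cfsg.Agent.H902.Art.dd = g2); rfl') | exact @Cfsg.Agent.H902.EntsFast.valF | exact ()
private theorem _root_.Cfsg.Agent.KO82c10aa.e37 : (by first | exact @Cfsg.Agent.H902.EntsFast.valF = @_root_.Cfsg.Agent.KO82c10aa.k37 | exact True : Prop) := by first | (delta _root_.Cfsg.Agent.KO82c10aa.k37; exact @Subtype.property _ (fun g => @Cfsg.Agent.H902.EntsFast.valF = @g) _) | rfl | trivial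

theorem tw_list : ∀ a ∈ [(8, 3, 28), (8, 5, 28), (8, 7, 0), (8, 9, 0), (8, 11, 0), (8, 13, 0), (10, 3, 35),
    (10, 5, 0), (10, 7, 0), (12, 3, 0)], tw a.1 a.2.1 a.2.2 = true := by
  delta tw en
  rw [Cfsg.Agent.H902.EntsFast.ents_eq, Cfsg.Agent.H902.EntsFast.val_eqF]
  (first | (refine of_decide_eq_true ?_; rewrite [Cfsg.Agent.KO82c10aa.e0, Cfsg.Agent.KO82c10aa.e2.{0}, Cfsg.Agent.KO82c10aa.e4, Cfsg.Agent.KO82c10aa.e22, Cfsg.Agent.KO82c10aa.e23, Cfsg.Agent.KO82c10aa.e18, Cfsg.Agent.KO82c10aa.e24, Cfsg.Agent.KO82c10aa.e25.{0}, Cfsg.Agent.KO82c10aa.e27, Cfsg.Agent.KO82c10aa.e28, Cfsg.Agent.KO82c10aa.e6.{0}, Cfsg.Agent.KO82c10aa.e29, Cfsg.Agent.KO82c10aa.e34, Cfsg.Agent.KO82c10aa.e37, Cfsg.Agent.KO82c10aa.e36]; decide +kernel) | decide +kernel)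

theorem en_list : ∀ a ∈ [(8, 2, 3, 10), (10, 2, 3, 14)], en a.1 a.2.1 (te a.1 a.2.1) a.2.2.1 a.2.2.2 = true := by
  delta en
  rw [Cfsg.Agent.H902.EntsFast.ents_eq, Cfsg.Agent.H902.EntsFast.val_eqF]
  (first | (refine of_decide_eq_true ?_; rewrite [Cfsg.Agent.KO82c10aa.e0, Cfsg.Agent.KO82c10aa.e2.{0}, Cfsg.Agent.KO82c10aa.e4, Cfsg.Agent.KO82c10aa.e24, Cfsg.Agent.KO82c10aa.e25.{0}, Cfsg.Agent.KO82c10aa.e27, Cfsg.Agent.KO82c10aa.e28, Cfsg.Agent.KO82c10aa.e6.{0}, Cfsg.Agent.KO82c10aa.e29, Cfsg.Agent.KO82c10aa.e34, Cfsg.Agent.KO82c10aa.e22, Cfsg.Agent.KO82c10aa.e37, Cfsg.Agent.KO82c10aa.e36, Cfsg.Agent.KO82c10aa.e18]; decide +kernel) | decide +kernel)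

end Cfsg.Agent.H364.DEnum

private theorem dce_dfa06bcb0dff : _root_.True := by
  try have : _root_.True := by simp only [_root_.Cfsg.Agent.H364.DEnum.en.eq_1]
  try have : _root_.True := by simp only [_root_.Cfsg.Agent.H364.DEnum.tw.eq_1]
  try have : _root_.True := by simp only [_root_.Cfsg.Agent.H364.DEnum.cardD.eq_1]
  try have : _root_.True := by simp only [_root_.Cfsg.Agent.H364.DEnum.good.eq_1]
  try have : _root_.True := by simp only [_root_.Cfsg.Agent.H364.DEnum.fl.eq_1]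
  exact _root_.True.intro
end

-- part: H364/DSixB
section
prune_inst 0x20000000000000000000000000000000000000000000000000000000000200000000000000000000000000000000000000000000000000000000000000
set_option linter.all false
open scoped Cfsg.Agent.FastGrp

-- part: H364/DEight
section
/-!
# `D_n`, `n ≥ 8` even: no simple groups of Lie type in cross characteristic (helper364)
-/

set_option autoImplicit false

namespace Cfsg.Agent.H364.DEight

open Finset Cfsg.Agent.H902.Lte Cfsg.Agent.H902.Art Cfsg.Agent.H364.DIneq Cfsg.Agent.H364.DCross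
  Cfsg.Agent.H364.DEnum
open Cfsg.Agent.H364.SpFin (two_primes dvd_three dvd_eight)

variable {n p f q M : ℕ} {X : Sh} {v g MS I : ℕ}

theorem eq_of_pow {p f r : ℕ} (hp : p.Prime) (hr : r.Prime) (h : r ∣ p ^ f) : p = r :=
  ((Nat.prime_dvd_prime_iff_eq hr hp).1 (hr.dvd_of_dvd_pow h)).symm

theorem use (hc : CrD n p f M X v g MS I) (hev : n % 2 = 0) {q s a : ℕ} (hq : p ^ f = q)
    (hfl : fl n q (q ^ (n - 1) + 1) s = true)
    (hs : s = 0 ∨ (s = 1 ∧ ∀ v : ℕ, v.Prime → v ≠ 2 → v ∣ q ^ 2 - 1 → ∃ a, en n q (te n q) v a = true))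
    (h2 : 2 ∣ q ∨ tw n q a = true) : False := by
  have hn : 4 ≤ n := hc.hY.ok
  refine cross_fl (a := a) hc hq (by omega) hev (te_bound hc hq (by omega) (good_of_fl hfl)) hfl ?_ ?_
  · intro e he hes v hv hv2 hd
    rcases hs with hs | ⟨hs, h3⟩
    · omega
    · have : e = 1 := by omega
      subst this
      exact h3 v hv hv2 hd
  · intro hp2
    rcases h2 with h2 | h2
    · exfalso
      rw [← hq] at h2
      exact hp2 (eq_of_pow hc.hY.hp Nat.prime_two h2)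
    · exact h2

theorem ten (hc : CrD 10 p f M X v g MS I) (hq : p ^ f < 8) : False := by
  have hp := hc.hY.hp
  have hq2 := hc.hY.q_ge
  obtain ⟨q, hqe⟩ : ∃ q, p ^ f = q := ⟨_, rfl⟩
  have h2 := Nat.prime_two
  have h3 := Nat.prime_three
  rw [hqe] at hq hq2
  interval_cases q
  · exact use (s := 1) (a := 0) hc rfl hqe (fl_list (10, 2, 1) (by decide)) (Or.inr ⟨rfl, fun v hv hv2 hd => by
      have : v = 3 := dvd_three hv hd
      subst this
      exact ⟨14, en_list (10, 2, 3, 14) (by decide)⟩⟩) (Or.inl (by norm_num))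
  · exact use (s := 0) (a := 35) hc rfl hqe (fl_list (10, 3, 0) (by decide)) (Or.inl rfl)
      (Or.inr (tw_list (10, 3, 35) (by decide)))
  · exact use (s := 0) (a := 0) hc rfl hqe (fl_list (10, 4, 0) (by decide)) (Or.inl rfl) (Or.inl (by norm_num))
  · exact use (s := 0) (a := 0) hc rfl hqe (fl_list (10, 5, 0) (by decide)) (Or.inl rfl)
      (Or.inr (tw_list (10, 5, 0) (by decide)))
  · exact two_primes hp h2 h3 (by norm_num) (by rw [hqe]; norm_num) (by rw [hqe]; norm_num)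
  · exact use (s := 0) (a := 0) hc rfl hqe (fl_list (10, 7, 0) (by decide)) (Or.inl rfl)
      (Or.inr (tw_list (10, 7, 0) (by decide)))

theorem eight (hc : CrD 8 p f M X v g MS I) (hq : p ^ f < 17) : False := by
  have hp := hc.hY.hp
  have hq2 := hc.hY.q_ge
  obtain ⟨q, hqe⟩ : ∃ q, p ^ f = q := ⟨_, rfl⟩
  have h2 := Nat.prime_two
  have h3 := Nat.prime_three
  have h5 := Nat.prime_five
  rw [hqe] at hq hq2
  interval_cases q
  · exact use (s := 1) (a := 0) hc rfl hqe (fl_list (8, 2, 1) (by decide)) (Or.inr ⟨rfl, fun v hv hv2 hd => by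
      have : v = 3 := dvd_three hv hd
      subst this
      exact ⟨10, en_list (8, 2, 3, 10) (by decide)⟩⟩) (Or.inl (by norm_num))
  · exact use (s := 1) (a := 28) hc rfl hqe (fl_list (8, 3, 1) (by decide)) (Or.inr ⟨rfl, fun v hv hv2 hd =>
      (dvd_eight hv hv2 hd).elim⟩) (Or.inr (tw_list (8, 3, 28) (by decide)))
  · exact use (s := 0) (a := 0) hc rfl hqe (fl_list (8, 4, 0) (by decide)) (Or.inl rfl) (Or.inl (by norm_num))
  · exact use (s := 0) (a := 28) hc rfl hqe (fl_list (8, 5, 0) (by decide)) (Or.inl rfl)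
      (Or.inr (tw_list (8, 5, 28) (by decide)))
  · exact two_primes hp h2 h3 (by norm_num) (by rw [hqe]; norm_num) (by rw [hqe]; norm_num)
  · exact use (s := 0) (a := 0) hc rfl hqe (fl_list (8, 7, 0) (by decide)) (Or.inl rfl)
      (Or.inr (tw_list (8, 7, 0) (by decide)))
  · exact use (s := 0) (a := 0) hc rfl hqe (fl_list (8, 8, 0) (by decide)) (Or.inl rfl) (Or.inl (by norm_num))
  · exact use (s := 0) (a := 0) hc rfl hqe (fl_list (8, 9, 0) (by decide)) (Or.inl rfl)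
      (Or.inr (tw_list (8, 9, 0) (by decide)))
  · exact two_primes hp h2 h5 (by norm_num) (by rw [hqe]; norm_num) (by rw [hqe]; norm_num)
  · exact use (s := 0) (a := 0) hc rfl hqe (fl_list (8, 11, 0) (by decide)) (Or.inl rfl)
      (Or.inr (tw_list (8, 11, 0) (by decide)))
  · exact two_primes hp h2 h3 (by norm_num) (by rw [hqe]; norm_num) (by rw [hqe]; norm_num)
  · exact use (s := 0) (a := 0) hc rfl hqe (fl_list (8, 13, 0) (by decide)) (Or.inl rfl)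
      (Or.inr (tw_list (8, 13, 0) (by decide)))
  · exact two_primes hp h2 (show Nat.Prime 7 by norm_num) (by norm_num) (by rw [hqe]; norm_num)
      (by rw [hqe]; norm_num)
  · exact two_primes hp h3 h5 (by norm_num) (by rw [hqe]; norm_num) (by rw [hqe]; norm_num)
  · exact use (s := 0) (a := 0) hc rfl hqe (fl_list (8, 16, 0) (by decide)) (Or.inl rfl) (Or.inl (by norm_num))

/-- **`n ≥ 8`.** -/
theorem cross_eight (hc : CrD n p f M X v g MS I) (hn : 8 ≤ n) (hev : n % 2 = 0) : False := by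
  rcases Nat.lt_or_ge (p ^ f) (q0 n) with h | h
  · have hq2 := hc.hY.q_ge
    by_cases h8 : n = 8
    · subst h8
      exact eight hc h
    by_cases h10 : n = 10
    · subst h10
      exact ten hc h
    by_cases h12 : n = 12
    · subst h12
      have h' : p ^ f < 4 := h
      obtain ⟨q, hqe⟩ : ∃ q, p ^ f = q := ⟨_, rfl⟩
      rw [hqe] at h' hq2
      interval_cases q
      · exact use (s := 0) (a := 0) hc rfl hqe (fl_list (12, 2, 0) (by decide)) (Or.inl rfl) (Or.inl (by norm_num))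
      · exact use (s := 0) (a := 0) hc rfl hqe (fl_list (12, 3, 0) (by decide)) (Or.inl rfl)
          (Or.inr (tw_list (12, 3, 0) (by decide)))
    · rw [q0, if_neg h8, if_neg h10, if_neg h12] at h
      split_ifs at h with h22
      · have hqe : p ^ f = 2 := by omega
        have hn' : n = 14 ∨ n = 16 ∨ n = 18 ∨ n = 20 ∨ n = 22 := by omega
        rcases hn' with rfl | rfl | rfl | rfl | rfl
        · exact use (s := 0) (a := 0) hc rfl hqe (fl_list (14, 2, 0) (by decide)) (Or.inl rfl) (Or.inl (by norm_num))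
        · exact use (s := 0) (a := 0) hc rfl hqe (fl_list (16, 2, 0) (by decide)) (Or.inl rfl) (Or.inl (by norm_num))
        · exact use (s := 0) (a := 0) hc rfl hqe (fl_list (18, 2, 0) (by decide)) (Or.inl rfl) (Or.inl (by norm_num))
        · exact use (s := 0) (a := 0) hc rfl hqe (fl_list (20, 2, 0) (by decide)) (Or.inl rfl) (Or.inl (by norm_num))
        · exact use (s := 0) (a := 0) hc rfl hqe (fl_list (22, 2, 0) (by decide)) (Or.inl rfl) (Or.inl (by norm_num))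
      · omega
  · exact cross_gen hn hev hc h

end Cfsg.Agent.H364.DEight
end

-- part: H364/DSix
section
/-!
# `D_6`: no simple groups of Lie type in cross characteristic, the estimates (helper364)
-/

set_option autoImplicit false

namespace Cfsg.Agent.H364.DSix

open Finset Cfsg.Agent.H902.Lte Cfsg.Agent.H902.Art Cfsg.Agent.H364.DIneq Cfsg.Agent.H364.DCross
  Cfsg.Agent.H364.DEnum Cfsg.Agent.H364.DEight
open Cfsg.Agent.H364.SpVal (AA AA_ne PC_odd' P_le_of_order P_odd_sq_le)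
open Cfsg.Agent.H364.SpPrim (pk Ph_le)

variable {n p f q M : ℕ} {X : Sh} {v g MS I : ℕ}

/-- the abstract end, `v ∤ t` -/
theorem finA (hc : CrD n p f M X v g MS I) {t P1 NB C D w : ℕ} (hd : t ∣ I * MS) (hC : D ≤ t * C) (h1 : P v M ≤ P1)
    (hvt : ¬ v ∣ t) (hw : w ≤ v) (hN : P1 < w ^ (NB + 1)) (hw0 : 1 ≤ w) (e1 : C ^ 3 * (P1 ^ 5 * NB ^ 3) < D ^ 3) :
    False := by
  have hX := hc.hX
  have hv := hX.hp
  have hP := SpCross.pow_le_P hX hc.hY hc.hMS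
  set N := g * NN X with hNdef
  have hNle : N ≤ NB := by
    by_contra hcon
    have h3 : w ^ (NB + 1) ≤ v ^ N :=
      (Nat.pow_le_pow_right hw0 (by omega)).trans (Nat.pow_le_pow_left hw N)
    omega
  have hD : D ^ 3 ≤ C ^ 3 * t ^ 3 := by
    calc D ^ 3 ≤ (t * C) ^ 3 := Nat.pow_le_pow_left hC 3
      _ = _ := by rw [mul_pow, mul_comm]
  have hcop : Nat.Coprime t v := (Nat.Coprime.symm ((Nat.Prime.coprime_iff_not_dvd hv).2 hvt))
  have h3 := SpCross.cube_num hX hc.hX2 hc.hI hc.hI0 hcop hd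
  have h4 : (v ^ N) ^ 5 * N ^ 3 ≤ P1 ^ 5 * NB ^ 3 :=
    Nat.mul_le_mul (Nat.pow_le_pow_left (hP.trans h1) 5) (Nat.pow_le_pow_left hNle 3)
  have h5 := Nat.mul_le_mul_left (C ^ 3) (h3.trans h4)
  omega

/-- the abstract end, arbitrary `v` -/
theorem finB (hc : CrD n p f M X v g MS I) {t P1 NB C D w : ℕ} (hd : t ∣ I * MS) (hC : D ≤ t * C) (h1 : P v M ≤ P1)
    (hw : w ≤ v) (hN : P1 < w ^ (NB + 1)) (hw0 : 1 ≤ w) (e1 : C ^ 3 * (P1 ^ 8 * NB ^ 3) < D ^ 3) :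
    False := by
  have hX := hc.hX
  have hv := hX.hp
  have hP := SpCross.pow_le_P hX hc.hY hc.hMS
  set N := g * NN X with hNdef
  have hNle : N ≤ NB := by
    by_contra hcon
    have h3 : w ^ (NB + 1) ≤ v ^ N :=
      (Nat.pow_le_pow_right hw0 (by omega)).trans (Nat.pow_le_pow_left hw N)
    omega
  have hD : D ^ 3 ≤ C ^ 3 * t ^ 3 := by
    calc D ^ 3 ≤ (t * C) ^ 3 := Nat.pow_le_pow_left hC 3
      _ = _ := by rw [mul_pow, mul_comm]
  have h3 := SpCross.cube_all hX hc.hX2 hc.hI hc.hI0 hd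
  have h4 : (v ^ N) ^ 8 * N ^ 3 ≤ P1 ^ 8 * NB ^ 3 :=
    Nat.mul_le_mul (Nat.pow_le_pow_left (hP.trans h1) 8) (Nat.pow_le_pow_left hNle 3)
  have h5 := Nat.mul_le_mul_left (C ^ 3) (h3.trans h4)
  omega

theorem tD_six {q : ℕ} (hq : 2 ≤ q) : (q ^ 2 - 1) ^ 6 ≤ tD 6 (q ^ 2) * 20 := by
  have h := tD_ge (n := 6) (Q := q ^ 2) (by nlinarith)
  have hs : sD 6 = 6 := by decide +kernel
  have hl : lD 6 = 20 := by decide +kernel
  rw [hs, hl] at h
  exact h

/-! ### numerical inequalities -/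

theorem ineq_odd {y : ℕ} (hy : 6 ≤ y) : 20 ^ 3 * ((24 * y ^ 6) ^ 5 * (2 * y) ^ 3) < ((4 * (y * (y - 1))) ^ 6) ^ 3 := by
  obtain ⟨x, rfl⟩ := Nat.exists_eq_add_of_le' (show 1 ≤ y by omega)
  rw [Nat.add_sub_cancel]
  have hx : 5 ≤ x := by omega
  have h1 : (x + 1) * 5 ≤ 6 * x := by omega
  have h2 : (x + 1) ^ 15 * 5 ^ 15 ≤ 6 ^ 15 * x ^ 15 := by
    rw [← mul_pow, ← mul_pow]
    exact Nat.pow_le_pow_left h1 15
  have h3 : 5 ^ 3 ≤ x ^ 3 := Nat.pow_le_pow_left hx 3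
  have h4 : 20 ^ 3 * (24 ^ 5 * 8) * (x + 1) ^ 15 < 4 ^ 18 * x ^ 18 := by
    refine lt_of_mul_lt_mul_right ?_ (Nat.zero_le (5 ^ 15))
    calc 20 ^ 3 * (24 ^ 5 * 8) * (x + 1) ^ 15 * 5 ^ 15 = 20 ^ 3 * (24 ^ 5 * 8) * ((x + 1) ^ 15 * 5 ^ 15) := by (set_option synthInstance.maxSize 99999 in exact Cfsg.Agent.Lib.RingK.eqN (by decide +kernel))
      _ ≤ 20 ^ 3 * (24 ^ 5 * 8) * (6 ^ 15 * x ^ 15) := Nat.mul_le_mul_left _ h2
      _ = (20 ^ 3 * (24 ^ 5 * 8) * 6 ^ 15) * x ^ 15 := by ring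
      _ < (4 ^ 18 * 5 ^ 15 * 5 ^ 3) * x ^ 15 := Nat.mul_lt_mul_of_pos_right (by norm_num) (pow_pos (by omega) _)
      _ ≤ (4 ^ 18 * 5 ^ 15 * x ^ 3) * x ^ 15 := Nat.mul_le_mul_right _ (Nat.mul_le_mul_left _ h3)
      _ = 4 ^ 18 * x ^ 18 * 5 ^ 15 := by ring
  calc 20 ^ 3 * ((24 * (x + 1) ^ 6) ^ 5 * (2 * (x + 1)) ^ 3)
      = (20 ^ 3 * (24 ^ 5 * 8) * (x + 1) ^ 15) * (x + 1) ^ 18 := by (set_option synthInstance.maxSize 99999 in exact Cfsg.Agent.Lib.RingK.eqN (by decide +kernel))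
    _ < (4 ^ 18 * x ^ 18) * (x + 1) ^ 18 := Nat.mul_lt_mul_of_pos_right h4 (pow_pos (by omega) _)
    _ = _ := by (set_option synthInstance.maxSize 99999 in exact Cfsg.Agent.Lib.RingK.eqN (by decide +kernel))

theorem ineq_odd_N {y : ℕ} (hy : 6 ≤ y) : 24 * y ^ 6 < 3 ^ (2 * y + 1) := by
  induction y, hy using Nat.le_induction with
  | base => norm_num
  | succ k hk ih =>
    have h1 : 3 ^ (2 * (k + 1) + 1) = 9 * 3 ^ (2 * k + 1) := by ring
    rw [h1]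
    have h2 : (k + 1) ^ 6 * 6 ^ 6 ≤ 7 ^ 6 * k ^ 6 := by
      rw [← mul_pow, ← mul_pow]
      exact Nat.pow_le_pow_left (by omega) 6
    have h3 : (k + 1) ^ 6 ≤ 9 * k ^ 6 := by
      have h4 : (7 : ℕ) ^ 6 ≤ 9 * 6 ^ 6 := by norm_num
      have h5 : (k + 1) ^ 6 * 6 ^ 6 ≤ (9 * k ^ 6) * 6 ^ 6 := by
        calc _ ≤ 7 ^ 6 * k ^ 6 := h2
          _ ≤ (9 * 6 ^ 6) * k ^ 6 := Nat.mul_le_mul_right _ h4
          _ = _ := by ring
      exact Nat.le_of_mul_le_mul_right h5 (by norm_num)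
    omega

theorem ineq_even {z : ℕ} (hz : 64 ≤ z) :
    20 ^ 3 * ((16 * (8 * z + 1) ^ 6) ^ 5 * z ^ 3) < (((8 * z) ^ 2 - 1) ^ 6) ^ 3 := by
  obtain ⟨x, hx⟩ : ∃ x, 8 * z = x + 1 := ⟨8 * z - 1, by omega⟩
  have hx2 : 511 ≤ x := by omega
  have e : (8 * z) ^ 2 - 1 = x * (x + 2) := by
    rw [hx]
    have : (x + 1) ^ 2 = x * (x + 2) + 1 := by ring
    rw [this, Nat.add_sub_cancel]
  rw [e, hx]
  have h1 : (x + 2) * 511 ≤ 513 * x := by linarith only [hz, hx]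
  have h1' : (x + 1) * 511 ≤ 512 * x := by linarith only [hz, hx]
  have hz3 : z ^ 3 * 512 = (x + 1) ^ 3 := by rw [← hx]; ring
  have h2 : (x + 2) ^ 12 * (x + 1) ^ 3 * 511 ^ 15 ≤ 513 ^ 12 * 512 ^ 3 * x ^ 15 := by
    calc (x + 2) ^ 12 * (x + 1) ^ 3 * 511 ^ 15 = ((x + 2) * 511) ^ 12 * ((x + 1) * 511) ^ 3 := by (set_option synthInstance.maxSize 99999 in exact Cfsg.Agent.Lib.RingK.eqN (by decide +kernel))
      _ ≤ (513 * x) ^ 12 * (512 * x) ^ 3 := Nat.mul_le_mul (Nat.pow_le_pow_left h1 12) (Nat.pow_le_pow_left h1' 3)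
      _ = _ := by ring
  have h3 : 511 ^ 3 ≤ x ^ 3 := Nat.pow_le_pow_left hx2 3
  have h4 : 20 ^ 3 * 2 ^ 20 * ((x + 2) ^ 12 * z ^ 3) < x ^ 18 := by
    refine lt_of_mul_lt_mul_right ?_ (Nat.zero_le (512 * 511 ^ 15))
    calc 20 ^ (3:ℕ) * 2 ^ (20:ℕ) * ((x + 2) ^ (12:ℕ) * z ^ (3:ℕ)) * (512 * 511 ^ (15:ℕ))
        = 20 ^ (3:ℕ) * 2 ^ (20:ℕ) * ((x + 2) ^ (12:ℕ) * (z ^ (3:ℕ) * 512) * 511 ^ (15:ℕ)) := by (set_option synthInstance.maxSize 99999 in exact Cfsg.Agent.Lib.RingK.eqN (by decide +kernel))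
      _ = 20 ^ (3:ℕ) * 2 ^ (20:ℕ) * ((x + 2) ^ (12:ℕ) * (x + 1) ^ (3:ℕ) * 511 ^ (15:ℕ)) := by rw [hz3]
      _ ≤ 20 ^ (3:ℕ) * 2 ^ (20:ℕ) * (513 ^ (12:ℕ) * 512 ^ (3:ℕ) * x ^ (15:ℕ)) := Nat.mul_le_mul_left _ h2
      _ = (20 ^ (3:ℕ) * 2 ^ (20:ℕ) * (513 ^ (12:ℕ) * 512 ^ (3:ℕ))) * x ^ (15:ℕ) := by ring
      _ < (512 * 511 ^ (15:ℕ) * 511 ^ (3:ℕ)) * x ^ (15:ℕ) := Nat.mul_lt_mul_of_pos_right (by norm_num) (pow_pos (by omega) _)
      _ ≤ (512 * 511 ^ (15:ℕ) * x ^ (3:ℕ)) * x ^ (15:ℕ) := Nat.mul_le_mul_right _ (Nat.mul_le_mul_left _ h3)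
      _ = x ^ (18:ℕ) * (512 * 511 ^ (15:ℕ)) := by ring
  calc 20 ^ 3 * ((16 * (x + 1 + 1) ^ 6) ^ 5 * z ^ 3)
      = (20 ^ 3 * 2 ^ 20 * ((x + 2) ^ 12 * z ^ 3)) * (x + 2) ^ 18 := by (set_option synthInstance.maxSize 99999 in exact Cfsg.Agent.Lib.RingK.eqN (by decide +kernel))
    _ < x ^ 18 * (x + 2) ^ 18 := Nat.mul_lt_mul_of_pos_right h4 (pow_pos (by omega) _)
    _ = _ := by (set_option synthInstance.maxSize 99999 in exact Cfsg.Agent.Lib.RingK.eqN (by decide +kernel))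

theorem ineq_even_N {z : ℕ} (hz : 64 ≤ z) : 16 * (8 * z + 1) ^ 6 < 3 ^ (z + 1) := by
  induction z, hz using Nat.le_induction with
  | base => norm_num
  | succ k hk ih =>
    have h1 : 3 ^ (k + 1 + 1) = 3 * 3 ^ (k + 1) := by ring
    rw [h1]
    have h2 : (8 * (k + 1) + 1) ^ 6 * 64 ^ 6 ≤ 65 ^ 6 * (8 * k + 1) ^ 6 := by
      rw [← mul_pow, ← mul_pow]
      exact Nat.pow_le_pow_left (by omega) 6
    have h3 : (8 * (k + 1) + 1) ^ 6 ≤ 3 * (8 * k + 1) ^ 6 := by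
      have h4 : (65 : ℕ) ^ 6 ≤ 3 * 64 ^ 6 := by norm_num
      have h5 : (8 * (k + 1) + 1) ^ 6 * 64 ^ 6 ≤ (3 * (8 * k + 1) ^ 6) * 64 ^ 6 := by
        calc _ ≤ 65 ^ 6 * (8 * k + 1) ^ 6 := h2
          _ ≤ (3 * 64 ^ 6) * (8 * k + 1) ^ 6 := Nat.mul_le_mul_right _ h4
          _ = _ := by ring
      exact Nat.le_of_mul_le_mul_right h5 (by norm_num)
    omega

/-- `v` divides `t` -/
theorem ineq_top {q : ℕ} (hq : 49 ≤ q) :
    20 ^ 3 * ((q ^ 4 + q ^ 3 + q ^ 2 + q + 1) ^ 8 * (q / 6) ^ 3) < ((q ^ 2 - 1) ^ 6) ^ 3 := by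
  have h1 : (q ^ 4 + q ^ 3 + q ^ 2 + q + 1) * 48 ≤ 49 * q ^ 4 := by
    have h2 : 49 * q ^ 3 ≤ q ^ 4 := by
      calc 49 * q ^ 3 ≤ q * q ^ 3 := Nat.mul_le_mul_right _ hq
        _ = q ^ 4 := by ring
    have h3 : 49 * q ^ 2 ≤ q ^ 3 := by
      calc 49 * q ^ 2 ≤ q * q ^ 2 := Nat.mul_le_mul_right _ hq
        _ = q ^ 3 := by ring
    have h4 : 49 * q ≤ q ^ 2 := by nlinarith
    omega
  have h2 : q ^ 2 * 2400 ≤ 2401 * (q ^ 2 - 1) := by
    have : 49 ^ 2 ≤ q ^ 2 := Nat.pow_le_pow_left hq 2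
    (clear * - this; omega)
  have h3 : q / 6 * 6 ≤ q := Nat.div_mul_le_self q 6
  have h4 : ((q ^ 4 + q ^ 3 + q ^ 2 + q + 1) ^ 8 * (q / 6) ^ 3) * (48 ^ 8 * 6 ^ 3) ≤ 49 ^ 8 * q ^ 35 := by
    calc ((q ^ 4 + q ^ 3 + q ^ 2 + q + 1) ^ 8 * (q / 6) ^ 3) * (48 ^ 8 * 6 ^ 3)
        = ((q ^ 4 + q ^ 3 + q ^ 2 + q + 1) * 48) ^ 8 * (q / 6 * 6) ^ 3 := by
          rw [mul_pow (q ^ 4 + q ^ 3 + q ^ 2 + q + 1) 48, mul_pow (q / 6) 6]; ac_rfl
      _ ≤ (49 * q ^ 4) ^ 8 * q ^ 3 := Nat.mul_le_mul (Nat.pow_le_pow_left h1 8) (Nat.pow_le_pow_left h3 3)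
      _ = 49 ^ 8 * q ^ 35 := by ring
  have h5 : q ^ 36 * 2400 ^ 18 ≤ 2401 ^ 18 * ((q ^ 2 - 1) ^ 6) ^ 3 := by
    calc q ^ 36 * 2400 ^ 18 = (q ^ 2 * 2400) ^ 18 := by rw [mul_pow, ← pow_mul]
      _ ≤ (2401 * (q ^ 2 - 1)) ^ 18 := Nat.pow_le_pow_left h2 18
      _ = _ := by rw [mul_pow, ← pow_mul]
  refine lt_of_mul_lt_mul_right ?_ (Nat.zero_le ((48 ^ 8 * 6 ^ 3) * 2401 ^ 18))
  calc 20 ^ (3:ℕ) * ((q ^ (4:ℕ) + q ^ (3:ℕ) + q ^ (2:ℕ) + q + 1) ^ (8:ℕ) * (q / 6) ^ (3:ℕ)) * ((48 ^ (8:ℕ) * 6 ^ (3:ℕ)) * 2401 ^ (18:ℕ))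
      = (20 ^ (3:ℕ) * 2401 ^ (18:ℕ)) * (((q ^ (4:ℕ) + q ^ (3:ℕ) + q ^ (2:ℕ) + q + 1) ^ (8:ℕ) * (q / 6) ^ (3:ℕ)) * (48 ^ (8:ℕ) * 6 ^ (3:ℕ))) := by
        generalize (q ^ (4:ℕ) + q ^ (3:ℕ) + q ^ (2:ℕ) + q + 1) ^ (8:ℕ) * (q / 6) ^ (3:ℕ) = y
        ac_rfl
    _ ≤ (20 ^ (3:ℕ) * 2401 ^ (18:ℕ)) * (49 ^ (8:ℕ) * q ^ (35:ℕ)) := Nat.mul_le_mul_left _ h4
    _ = (20 ^ (3:ℕ) * 2401 ^ (18:ℕ) * 49 ^ (8:ℕ)) * q ^ (35:ℕ) := by ac_rfl
    _ < (49 * 2400 ^ (18:ℕ) * (48 ^ (8:ℕ) * 6 ^ (3:ℕ))) * q ^ (35:ℕ) :=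
        Nat.mul_lt_mul_of_pos_right (by norm_num) (pow_pos (by omega) _)
    _ ≤ (q * 2400 ^ (18:ℕ) * (48 ^ (8:ℕ) * 6 ^ (3:ℕ))) * q ^ (35:ℕ) := by
        apply Nat.mul_le_mul_right
        apply Nat.mul_le_mul_right
        exact Nat.mul_le_mul_right _ hq
    _ = (q ^ 36 * 2400 ^ 18) * (48 ^ 8 * 6 ^ 3) := by
        rw [show q ^ 36 = q * q ^ 35 by ring]
        ac_rfl
    _ ≤ (2401 ^ 18 * ((q ^ 2 - 1) ^ 6) ^ 3) * (48 ^ 8 * 6 ^ 3) := Nat.mul_le_mul_right _ h5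
    _ = _ := by ac_rfl

theorem ineq_top_N {q : ℕ} (hq : 49 ≤ q) : q ^ 4 + q ^ 3 + q ^ 2 + q + 1 < 11 ^ (q / 6 + 1) := by
  have key : ∀ k, 8 ≤ k → (6 * k + 6) ^ 5 < 11 ^ (k + 1) := by
    intro k hk
    induction k, hk using Nat.le_induction with
    | base => norm_num
    | succ k hk ih =>
      have h1 : 11 ^ (k + 1 + 1) = 11 * 11 ^ (k + 1) := by ring
      rw [h1]
      have h2 : (6 * (k + 1) + 6) ^ 5 * 9 ^ 5 ≤ 10 ^ 5 * (6 * k + 6) ^ 5 := by
        rw [← mul_pow, ← mul_pow]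
        exact Nat.pow_le_pow_left (by omega) 5
      have h3 : (6 * (k + 1) + 6) ^ 5 ≤ 11 * (6 * k + 6) ^ 5 := by
        have h4 : (10 : ℕ) ^ 5 ≤ 11 * 9 ^ 5 := by norm_num
        have h5 : (6 * (k + 1) + 6) ^ 5 * 9 ^ 5 ≤ (11 * (6 * k + 6) ^ 5) * 9 ^ 5 := by
          calc _ ≤ 10 ^ 5 * (6 * k + 6) ^ 5 := h2
            _ ≤ (11 * 9 ^ 5) * (6 * k + 6) ^ 5 := Nat.mul_le_mul_right _ h4
            _ = _ := by ring
        exact Nat.le_of_mul_le_mul_right h5 (by norm_num)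
      omega
  refine lt_of_le_of_lt ?_ (key (q / 6) (by omega))
  have h1 : q + 1 ≤ 6 * (q / 6) + 6 := by omega
  calc q ^ 4 + q ^ 3 + q ^ 2 + q + 1 ≤ (q + 1) ^ 5 := by
        have : (q + 1) ^ 5 = q ^ 5 + 5 * q ^ 4 + 10 * q ^ 3 + 10 * q ^ 2 + 5 * q + 1 := by ring
        omega
    _ ≤ _ := Nat.pow_le_pow_left h1 5

theorem ineq_two {y : ℕ} (hy : 6 ≤ y) :
    20 ^ 3 * ((12 * y ^ 6) ^ 5 * (3 * y + 1) ^ 3) < ((4 * (y * (y - 1))) ^ 6) ^ 3 := by
  obtain ⟨x, rfl⟩ := Nat.exists_eq_add_of_le' (show 1 ≤ y by omega)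
  rw [Nat.add_sub_cancel]
  have hx : 5 ≤ x := by omega
  have h1 : (x + 1) * 5 ≤ 6 * x := by omega
  have h1' : (3 * (x + 1) + 1) * 5 ≤ 19 * x := by omega
  have h2 : (x + 1) ^ 12 * (3 * (x + 1) + 1) ^ 3 * 5 ^ 15 ≤ 6 ^ 12 * 19 ^ 3 * x ^ 15 := by
    calc (x + 1) ^ 12 * (3 * (x + 1) + 1) ^ 3 * 5 ^ 15 = ((x + 1) * 5) ^ 12 * ((3 * (x + 1) + 1) * 5) ^ 3 := by (set_option synthInstance.maxSize 99999 in exact Cfsg.Agent.Lib.RingK.eqN (by decide +kernel))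
      _ ≤ (6 * x) ^ 12 * (19 * x) ^ 3 := Nat.mul_le_mul (Nat.pow_le_pow_left h1 12) (Nat.pow_le_pow_left h1' 3)
      _ = _ := by ring
  have h3 : 5 ^ 3 ≤ x ^ 3 := Nat.pow_le_pow_left hx 3
  have h4 : 20 ^ 3 * 12 ^ 5 * ((x + 1) ^ 12 * (3 * (x + 1) + 1) ^ 3) < 4 ^ 18 * x ^ 18 := by
    refine lt_of_mul_lt_mul_right ?_ (Nat.zero_le (5 ^ 15))
    calc 20 ^ (3:ℕ) * 12 ^ (5:ℕ) * ((x + 1) ^ (12:ℕ) * (3 * (x + 1) + 1) ^ (3:ℕ)) * 5 ^ (15:ℕ)
        = 20 ^ (3:ℕ) * 12 ^ (5:ℕ) * ((x + 1) ^ (12:ℕ) * (3 * (x + 1) + 1) ^ (3:ℕ) * 5 ^ (15:ℕ)) := by (set_option synthInstance.maxSize 99999 in exact Cfsg.Agent.Lib.RingK.eqN (by decide +kernel))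
      _ ≤ 20 ^ (3:ℕ) * 12 ^ (5:ℕ) * (6 ^ (12:ℕ) * 19 ^ (3:ℕ) * x ^ (15:ℕ)) := Nat.mul_le_mul_left _ h2
      _ = (20 ^ (3:ℕ) * 12 ^ (5:ℕ) * (6 ^ (12:ℕ) * 19 ^ (3:ℕ))) * x ^ (15:ℕ) := by ring
      _ < (4 ^ (18:ℕ) * 5 ^ (15:ℕ) * 5 ^ (3:ℕ)) * x ^ (15:ℕ) := Nat.mul_lt_mul_of_pos_right (by norm_num) (pow_pos (by omega) _)
      _ ≤ (4 ^ (18:ℕ) * 5 ^ (15:ℕ) * x ^ (3:ℕ)) * x ^ (15:ℕ) := Nat.mul_le_mul_right _ (Nat.mul_le_mul_left _ h3)
      _ = 4 ^ (18:ℕ) * x ^ (18:ℕ) * 5 ^ (15:ℕ) := by ring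
  calc 20 ^ 3 * ((12 * (x + 1) ^ 6) ^ 5 * (3 * (x + 1) + 1) ^ 3)
      = (20 ^ 3 * 12 ^ 5 * ((x + 1) ^ 12 * (3 * (x + 1) + 1) ^ 3)) * (x + 1) ^ 18 := by (set_option synthInstance.maxSize 99999 in exact Cfsg.Agent.Lib.RingK.eqN (by decide +kernel))
    _ < (4 ^ 18 * x ^ 18) * (x + 1) ^ 18 := Nat.mul_lt_mul_of_pos_right h4 (pow_pos (by omega) _)
    _ = _ := by (set_option synthInstance.maxSize 99999 in exact Cfsg.Agent.Lib.RingK.eqN (by decide +kernel))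

theorem ineq_two_N {y : ℕ} (hy : 6 ≤ y) : 12 * y ^ 6 < 2 ^ (3 * y + 1 + 1) := by
  induction y, hy using Nat.le_induction with
  | base => norm_num
  | succ k hk ih =>
    have h1 : 2 ^ (3 * (k + 1) + 1 + 1) = 8 * 2 ^ (3 * k + 1 + 1) := by ring
    rw [h1]
    have h2 : (k + 1) ^ 6 * 6 ^ 6 ≤ 7 ^ 6 * k ^ 6 := by
      rw [← mul_pow, ← mul_pow]
      exact Nat.pow_le_pow_left (by omega) 6
    have h3 : (k + 1) ^ 6 ≤ 8 * k ^ 6 := by
      have h4 : (7 : ℕ) ^ 6 ≤ 8 * 6 ^ 6 := by norm_num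
      have h5 : (k + 1) ^ 6 * 6 ^ 6 ≤ (8 * k ^ 6) * 6 ^ 6 := by
        calc _ ≤ 7 ^ 6 * k ^ 6 := h2
          _ ≤ (8 * 6 ^ 6) * k ^ 6 := Nat.mul_le_mul_right _ h4
          _ = _ := by ring
      exact Nat.le_of_mul_le_mul_right h5 (by norm_num)
    omega

/-- the special odd `q` -/
theorem ineq_spec {k : ℕ} (hk : 12 ≤ k) :
    20 ^ 3 * ((2 ^ (6 * k + 7)) ^ 5 * (6 * k + 7) ^ 3) < ((2 ^ (k + 1) * (2 ^ (k - 1) - 1)) ^ 6) ^ 3 := by
  have key : 2 ^ 49 * (6 * k + 7) ^ 3 < 2 ^ (6 * k) := by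
    induction k, hk using Nat.le_induction with
    | base => norm_num
    | succ k hk ih =>
      have h1 : 2 ^ (6 * (k + 1)) = 64 * 2 ^ (6 * k) := by ring
      rw [h1]
      have h2 : (6 * (k + 1) + 7) ^ 3 ≤ 64 * (6 * k + 7) ^ 3 := by
        calc (6 * (k + 1) + 7) ^ 3 ≤ (4 * (6 * k + 7)) ^ 3 := Nat.pow_le_pow_left (by omega) 3
          _ = _ := by ring
      calc 2 ^ 49 * (6 * (k + 1) + 7) ^ 3 ≤ 2 ^ 49 * (64 * (6 * k + 7) ^ 3) := Nat.mul_le_mul_left _ h2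
        _ = 64 * (2 ^ 49 * (6 * k + 7) ^ 3) := by ring
        _ < _ := by omega
  obtain ⟨m, rfl⟩ := Nat.exists_eq_add_of_le' (show 1 ≤ k by omega)
  rw [Nat.add_sub_cancel]
  have h1 : 2 ^ 11 ≤ 2 ^ m := Nat.pow_le_pow_right (by norm_num) (by omega)
  have h2 : 2 ^ m * 2047 ≤ 2048 * (2 ^ m - 1) := by omega
  have h3 : (2 ^ m) ^ 18 * 2047 ^ 18 ≤ 2048 ^ 18 * (2 ^ m - 1) ^ 18 := by
    rw [← mul_pow, ← mul_pow]
    exact Nat.pow_le_pow_left h2 18
  refine lt_of_mul_lt_mul_right ?_ (Nat.zero_le (2048 ^ 18))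
  calc 20 ^ 3 * ((2 ^ (6 * (m + 1) + 7)) ^ 5 * (6 * (m + 1) + 7) ^ 3) * 2048 ^ 18
      = (20 ^ 3 * 2048 ^ 18) * (2 ^ (5 * (6 * (m + 1) + 7)) * (6 * (m + 1) + 7) ^ 3) := by
        rw [← pow_mul]; ring_nf
    _ = (20 ^ 3 * 2048 ^ 18) * (2 ^ (30 * (m + 1)) * 2 ^ 35 * (6 * (m + 1) + 7) ^ 3) := by
        rw [← pow_add]; congr 3; ring
    _ ≤ (2 ^ 14 * 2047 ^ 18) * (2 ^ (30 * (m + 1)) * 2 ^ 35 * (6 * (m + 1) + 7) ^ 3) :=
        Nat.mul_le_mul_right _ (by norm_num)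
    _ = 2047 ^ 18 * 2 ^ (30 * (m + 1)) * (2 ^ 49 * (6 * (m + 1) + 7) ^ 3) := by ring
    _ < 2047 ^ 18 * 2 ^ (30 * (m + 1)) * 2 ^ (6 * (m + 1)) :=
        Nat.mul_lt_mul_of_pos_left key (by positivity)
    _ = (2 ^ (m + 1 + 1)) ^ 18 * ((2 ^ m) ^ 18 * 2047 ^ 18) := by
        rw [← pow_mul, ← pow_mul, mul_assoc, ← pow_add, ← mul_assoc, ← pow_add, mul_comm]
        congr 2
        ring
    _ ≤ (2 ^ (m + 1 + 1)) ^ 18 * (2048 ^ 18 * (2 ^ m - 1) ^ 18) := Nat.mul_le_mul_left _ h3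
    _ = _ := by rw [← pow_mul, mul_pow]; ring

end Cfsg.Agent.H364.DSix
end

-- part: H364/DSixB
section
/-!
# `D_6`: the parts of the order (helper364)
-/

set_option autoImplicit false

namespace Cfsg.Agent.H364.DSixB

open Finset Cfsg.Agent.H902.Lte Cfsg.Agent.H902.Art Cfsg.Agent.H364.DIneq Cfsg.Agent.H364.DCross
  Cfsg.Agent.H364.DEnum Cfsg.Agent.H364.DEight
open Cfsg.Agent.H364.SpVal (AA AA_ne PC_odd' cast_sq)

variable {n p f q M : ℕ} {X : Sh} {v g MS I : ℕ}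

/-- the square of the part, with the exact base -/
theorem P_sq_gen {r : ℕ} (hr : r.Prime) (hr2 : r ≠ 2) (hq : 2 ≤ q) (hrq : ¬ r ∣ q) (m : ℕ)
    (he : orderOf ((q ^ 2 : ℕ) : ZMod r) ≤ m) {b : ℕ} (hb : P r (q ^ (2 * orderOf ((q ^ 2 : ℕ) : ZMod r)) - 1) ≤ b) :
    (P r (AA m q)) ^ 2 ≤ (b ^ 2) ^ (m / orderOf ((q ^ 2 : ℕ) : ZMod r)) *
      3 ^ (m / orderOf ((q ^ 2 : ℕ) : ZMod r) - 1) := by
  have hx := abs_sq_ge hq
  have hrx := not_dvd_sq hr hrq
  rw [← cast_sq] at he hb ⊢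
  set x : ℤ := (q : ℤ) ^ 2 with hxdef
  have hpos := order_pos (q := q) hr hrx
  have h1 : (x ^ orderOf (x : ZMod r) - 1).natAbs = q ^ (2 * orderOf (x : ZMod r)) - 1 := by
    have h2 : x ^ orderOf (x : ZMod r) - 1 = ((q ^ (2 * orderOf (x : ZMod r)) - 1 : ℕ) : ℤ) := by
      rw [Nat.cast_sub (Nat.one_le_pow _ _ (by omega)), hxdef, ← pow_mul]; push_cast; rfl
    rw [h2, Int.natAbs_natCast]
  rw [AA, ← W_sq hq]
  apply PW_odd_sq hr hr2 hx hrx
  · rw [h1]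
    exact Nat.pow_le_pow_left hb 2
  · exact (Nat.div_pos he (by omega)).ne'

theorem P_le_half {r a : ℕ} (hr : r.Prime) (hr2 : r ≠ 2) (ha : a ≠ 0) (h2 : 2 ∣ a) : 2 * P r a ≤ a := by
  have h1 : Nat.Coprime 2 (P r a) := by
    rw [P]
    apply Nat.Coprime.pow_right
    exact (Nat.coprime_primes Nat.prime_two hr).2 (Ne.symm hr2)
  exact Nat.le_of_dvd (Nat.pos_of_ne_zero ha) (h1.mul_dvd_of_dvd_of_dvd h2 (P_dvd r a))

theorem odd_two {r : ℕ} (hr : r.Prime) (hr2 : r ≠ 2) : ¬ r ∣ 2 := fun h =>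
  hr2 ((Nat.prime_dvd_prime_iff_eq hr Nat.prime_two).1 h)

theorem P_one {r : ℕ} (hr : r.Prime) (hr2 : r ≠ 2) (hq : 3 ≤ q) (ho : Odd q) : 2 * P r (q ^ (2 * 1) - 1) ≤ q + 1 := by
  obtain ⟨a, rfl⟩ := Nat.exists_eq_add_of_le' (show 1 ≤ q by omega)
  have e1 : (a + 1) ^ (2 * 1) - 1 = a * (a + 2) := by
    have : (a + 1) ^ (2 * 1) = a * (a + 2) + 1 := by ring
    rw [this, Nat.add_sub_cancel]
  have ha : 2 ∣ a := by
    obtain ⟨k, hk⟩ := ho
    exact ⟨k, by omega⟩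
  rw [e1, P_mul (by omega) (by omega)]
  by_cases h : r ∣ a
  · have h2 : ¬ r ∣ a + 2 := fun h2 => odd_two hr hr2 ((Nat.dvd_add_right h).1 h2)
    rw [P_eq_one h2, mul_one]
    have := P_le_half hr hr2 (show a ≠ 0 by omega) ha
    omega
  · rw [P_eq_one h, one_mul]
    have := P_le_half hr hr2 (show a + 2 ≠ 0 by omega) (by omega)
    omega

theorem P_two {r : ℕ} (hr : r.Prime) (hr2 : r ≠ 2) (hq : 3 ≤ q) (ho : Odd q)
    (h : orderOf ((q ^ 2 : ℕ) : ZMod r) = 2) : 2 * P r (q ^ (2 * 2) - 1) ≤ q ^ 2 + 1 := by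
  have h1 : ¬ r ∣ q ^ (2 * 1) - 1 := by
    rw [SpSix.dvd_pow_iff (by omega), h]; norm_num
  have hq1 : 1 < q ^ 2 := Nat.one_lt_pow (by norm_num) (by omega)
  have e1 : q ^ (2 * 2) - 1 = (q ^ (2 * 1) - 1) * (q ^ 2 + 1) := by
    rw [mul_one, pow_mul]
    obtain ⟨a, ha⟩ := Nat.exists_eq_add_of_le' hq1.le
    rw [ha, Nat.add_sub_cancel]
    have : (a + 1) ^ 2 = a * (a + 1 + 1) + 1 := by ring
    rw [this, Nat.add_sub_cancel]
  rw [e1, P_mul (by rw [mul_one]; omega) (by omega), P_eq_one h1, one_mul]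
  apply P_le_half hr hr2 (by omega)
  have : Odd (q ^ 2) := ho.pow
  obtain ⟨k, hk⟩ := this
  exact ⟨k + 1, by omega⟩

theorem P_four {r : ℕ} (hr : r.Prime) (hr2 : r ≠ 2) (hq : 2 ≤ q) :
    P r (q ^ (2 * 4) - 1) ≤ q ^ 4 + q ^ 3 + q ^ 2 + q + 1 := by
  have := P_sq_sub_one_le (j := 4) hr hr2 hq (by norm_num)
  have h3 : 0 ≤ q ^ 3 := Nat.zero_le _
  omega

theorem P_five {r : ℕ} (hr : r.Prime) (hr2 : r ≠ 2) (hq : 2 ≤ q)
    (h : orderOf ((q ^ 2 : ℕ) : ZMod r) = 5) : P r (q ^ (2 * 5) - 1) ≤ q ^ 4 + q ^ 3 + q ^ 2 + q + 1 := by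
  have h1 : ¬ r ∣ q ^ (2 * 1) - 1 := by
    rw [SpSix.dvd_pow_iff hq, h]; norm_num
  obtain ⟨a, rfl⟩ := Nat.exists_eq_add_of_le' (show 1 ≤ q by omega)
  set A := (a + 1) ^ 4 + (a + 1) ^ 3 + (a + 1) ^ 2 + (a + 1) + 1 with hA
  set B := a * ((a + 1) ^ 3 + (a + 1)) + 1 with hB
  have e1 : (a + 1) ^ (2 * 5) - 1 = ((a + 1) ^ (2 * 1) - 1) * (A * B) := by
    have e2 : (a + 1) ^ (2 * 1) - 1 = a ^ 2 + 2 * a := by
      have : (a + 1) ^ (2 * 1) = a ^ 2 + 2 * a + 1 := by ring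
      rw [this, Nat.add_sub_cancel]
    rw [e2]
    have : (a + 1) ^ (2 * 5) = (a ^ 2 + 2 * a) * (A * B) + 1 := by rw [hA, hB]; (set_option synthInstance.maxSize 99999 in exact Cfsg.Agent.Lib.RingK.eqN (by decide +kernel))
    rw [this, Nat.add_sub_cancel]
  have h10 : (a + 1) ^ (2 * 1) - 1 ≠ 0 := by
    intro h0
    rw [h0] at h1
    exact h1 (dvd_zero _)
  have h11 : A ≠ 0 := by (clear * -; positivity)
  have h12 : B ≠ 0 := by (clear * -; positivity)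
  have hBA : B ≤ A := by
    have : A = B + 2 * ((a + 1) ^ 3 + (a + 1)) := by rw [hA, hB]; ring
    omega
  rw [e1, P_mul h10 (Nat.mul_ne_zero h11 h12), P_eq_one h1, one_mul, P_mul h11 h12]
  by_cases h2 : r ∣ A
  · by_cases h3 : r ∣ B
    · exfalso
      -- `A - B = 2 (q³ + q)`, so `r ∣ q² + 1`; then `r ∣ q⁴ - 1`
      have h4 : r ∣ 2 * ((a + 1) ^ 3 + (a + 1)) := by
        have e3 : A = B + 2 * ((a + 1) ^ 3 + (a + 1)) := by rw [hA, hB]; ring
        rw [e3] at h2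
        exact (Nat.dvd_add_right h3).1 h2
      have h5 : r ∣ (a + 1) ^ 3 + (a + 1) := (hr.dvd_mul.1 h4).resolve_left (odd_two hr hr2)
      have h6 : r ∣ a * ((a + 1) ^ 3 + (a + 1)) := h5.mul_left _
      have h7 : r ∣ 1 := (Nat.dvd_add_right h6).1 h3
      exact hr.one_lt.ne' (Nat.dvd_one.1 h7)
    · rw [P_eq_one h3, mul_one]
      exact P_le h11
  · rw [P_eq_one h2, one_mul]
    exact (P_le h12).trans hBA

/-- only the orders up to 5 occur -/
theorem order_le (hY : Real (.D 6) p f M) (hq : p ^ f = q) (hv : v.Prime) (hvp : v ≠ p) (hd : v ∣ M) :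
    orderOf ((q ^ 2 : ℕ) : ZMod v) ≤ 5 := by
  have hq2 := hY.q_ge
  have hvq := hY.not_dvd_q hv hvp
  have h1 : v ∣ num (.D 6) (p ^ f) := hY.dvd_num_of_dvd hv hvp hd
  rw [hq] at hq2 hvq h1
  have h2 : num (.D 6) q = (q ^ 6 - 1) * AA 5 q := rfl
  rw [h2] at h1
  rcases hv.dvd_mul.1 h1 with h3 | h3
  · have h4 : v ∣ q ^ (2 * 3) - 1 := h3
    rw [SpSix.dvd_pow_iff hq2] at h4
    have := Nat.le_of_dvd (by norm_num) h4
    omega
  · rw [AA] at h3
    obtain ⟨i, hi, h4⟩ := (hv.prime.dvd_finsetProd_iff _).1 h3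
    rw [Finset.mem_range] at hi
    rw [SpSix.dvd_pow_iff hq2] at h4
    have := Nat.le_of_dvd (by omega) h4
    omega

theorem dvd_M (hc : CrD n p f M X v g MS I) : v ∣ M := by
  have hX := hc.hX
  have h1 : v ^ (g * NN X) ∣ MS := by
    have := P_dvd v MS
    rwa [hX.P_self, ← pow_mul] at this
  have h2 : g * NN X ≠ 0 := (Nat.mul_pos hX.hf (NN_pos hX)).ne'
  exact ((dvd_pow_self v h2).trans h1).trans hc.hMS

/-- the odd parts, `q` odd -/
theorem P_odd_le (hc : CrD 6 p f M X v g MS I) {y : ℕ} (hq : p ^ f + 1 = 2 * y) (hy : 2 ≤ y) (hv2 : v ≠ 2)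
    (he : orderOf (((p ^ f) ^ 2 : ℕ) : ZMod v) ≤ 3) : P v M ≤ 24 * y ^ 6 := by
  have hv := hc.hX.hp
  have hq2 := hc.hY.q_ge
  have hvq := hc.hY.not_dvd_q hv hc.hvp
  have h1 : P v M ≤ P v (AA 6 (p ^ f)) := P_le_AA hc.hY hv hc.hvp
  have hpos := (PC_odd' hv hv2 hq2 hvq 6).1
  set q := p ^ f with hqd
  have ho : Odd q := ⟨y - 1, by omega⟩
  apply le_of_sq_le
  refine (Nat.pow_le_pow_left h1 2).trans ?_
  have hqy : q = 2 * y - 1 := by omega
  rcases (show orderOf (((q) ^ 2 : ℕ) : ZMod v) = 1 ∨ orderOf (((q) ^ 2 : ℕ) : ZMod v) = 2 ∨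
      orderOf (((q) ^ 2 : ℕ) : ZMod v) = 3 by omega) with h | h | h
  · have h2 := P_one hv hv2 (show 3 ≤ q by omega) ho
    have h3 := P_sq_gen (b := y) hv hv2 hq2 hvq 6 (by omega) (by rw [h]; omega)
    rw [h] at h3
    refine h3.trans ?_
    calc (y ^ 2) ^ (6 / 1) * 3 ^ (6 / 1 - 1) = 243 * y ^ 12 := by norm_num; ring
      _ ≤ 576 * y ^ 12 := Nat.mul_le_mul_right _ (by norm_num)
      _ = (24 * y ^ 6) ^ 2 := by ring
  · have h2 := P_two hv hv2 (show 3 ≤ q by omega) ho h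
    have h4 : q ^ 2 + 1 ≤ 2 * (2 * y ^ 2) := by
      obtain ⟨x, rfl⟩ := Nat.exists_eq_add_of_le' (show 1 ≤ y by omega)
      have : q = 2 * x + 1 := by omega
      rw [this]
      linarith only [hy]
    have h3 := P_sq_gen (b := 2 * y ^ 2) hv hv2 hq2 hvq 6 (by omega) (by rw [h]; omega)
    rw [h] at h3
    refine h3.trans ?_
    calc ((2 * y ^ 2) ^ 2) ^ (6 / 2) * 3 ^ (6 / 2 - 1) = 576 * y ^ 12 := by norm_num; ring
      _ ≤ (24 * y ^ 6) ^ 2 := by apply le_of_eq; ring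
  · have h2 := SpSix.P_three hv hv2 hq2 hvq h
    have h4 : q ^ 2 + q + 1 ≤ 4 * y ^ 2 := by
      obtain ⟨x, rfl⟩ := Nat.exists_eq_add_of_le' (show 1 ≤ y by omega)
      have : q = 2 * x + 1 := by omega
      rw [this]
      linarith only []
    have h3 := P_sq_gen (b := 4 * y ^ 2) hv hv2 hq2 hvq 6 (by omega) (by rw [h]; omega)
    rw [h] at h3
    refine h3.trans ?_
    have h5 : 2 ^ 4 ≤ y ^ 4 := Nat.pow_le_pow_left hy 4
    calc ((4 * y ^ 2) ^ 2) ^ (6 / 3) * 3 ^ (6 / 3 - 1) = 48 * (2 ^ 4 * y ^ 8) := by norm_num; ring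
      _ ≤ 48 * (y ^ 4 * y ^ 8) := Nat.mul_le_mul_left _ (Nat.mul_le_mul_right _ h5)
      _ ≤ (24 * y ^ 6) ^ 2 := by
        have : (24 * y ^ 6) ^ 2 = 576 * (y ^ 4 * y ^ 8) := by ring
        rw [this]
        exact Nat.mul_le_mul_right _ (by norm_num)

/-- the odd parts, general `q` -/
theorem P_odd_le' (hc : CrD 6 p f M X v g MS I) (hv2 : v ≠ 2)
    (he : orderOf (((p ^ f) ^ 2 : ℕ) : ZMod v) ≤ 3) : P v M ≤ 16 * (p ^ f + 1) ^ 6 := by
  have hv := hc.hX.hp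
  have hq2 := hc.hY.q_ge
  have hvq := hc.hY.not_dvd_q hv hc.hvp
  have h1 : P v M ≤ P v (AA 6 (p ^ f)) := P_le_AA hc.hY hv hc.hvp
  have hpos := (PC_odd' hv hv2 hq2 hvq 6).1
  set q := p ^ f with hqd
  apply le_of_sq_le
  refine (Nat.pow_le_pow_left h1 2).trans ?_
  have hb := P_sq_sub_one_le (r := v) (j := orderOf (((q) ^ 2 : ℕ) : ZMod v)) hv hv2 hq2 hpos
  have h3 := P_sq_gen hv hv2 hq2 hvq 6 (by omega) hb
  refine h3.trans ?_
  rcases (show orderOf (((q) ^ 2 : ℕ) : ZMod v) = 1 ∨ orderOf (((q) ^ 2 : ℕ) : ZMod v) = 2 ∨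
      orderOf (((q) ^ 2 : ℕ) : ZMod v) = 3 by omega) with h | h | h
  · rw [h]
    calc ((q ^ 1 + 1) ^ 2) ^ (6 / 1) * 3 ^ (6 / 1 - 1) = 243 * (q + 1) ^ 12 := by norm_num; (set_option synthInstance.maxSize 99999 in exact Cfsg.Agent.Lib.RingK.eqN (by decide +kernel))
      _ ≤ 256 * (q + 1) ^ 12 := Nat.mul_le_mul_right _ (by norm_num)
      _ = (16 * (q + 1) ^ 6) ^ 2 := by (set_option synthInstance.maxSize 99999 in exact Cfsg.Agent.Lib.RingK.eqN (by decide +kernel))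
  · rw [h]
    have h5 : q ^ 2 + 1 ≤ (q + 1) ^ 2 := by linarith only [hq2]
    calc ((q ^ 2 + 1) ^ 2) ^ (6 / 2) * 3 ^ (6 / 2 - 1) ≤ (((q + 1) ^ 2) ^ 2) ^ (6 / 2) * 3 ^ (6 / 2 - 1) := by
          apply Nat.mul_le_mul_right
          exact Nat.pow_le_pow_left (Nat.pow_le_pow_left h5 2) _
      _ = 9 * (q + 1) ^ 12 := by norm_num; (set_option synthInstance.maxSize 99999 in exact Cfsg.Agent.Lib.RingK.eqN (by decide +kernel))
      _ ≤ 256 * (q + 1) ^ 12 := Nat.mul_le_mul_right _ (by norm_num)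
      _ = (16 * (q + 1) ^ 6) ^ 2 := by (set_option synthInstance.maxSize 99999 in exact Cfsg.Agent.Lib.RingK.eqN (by decide +kernel))
  · rw [h]
    have h5 : q ^ 3 + 1 ≤ (q + 1) ^ 3 := by linarith only [hq2, sq_nonneg (q : ℤ)]
    calc ((q ^ 3 + 1) ^ 2) ^ (6 / 3) * 3 ^ (6 / 3 - 1) ≤ (((q + 1) ^ 3) ^ 2) ^ (6 / 3) * 3 ^ (6 / 3 - 1) := by
          apply Nat.mul_le_mul_right
          exact Nat.pow_le_pow_left (Nat.pow_le_pow_left h5 2) _
      _ = 3 * (q + 1) ^ 12 := by norm_num; (set_option synthInstance.maxSize 99999 in exact Cfsg.Agent.Lib.RingK.eqN (by decide +kernel))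
      _ ≤ 256 * (q + 1) ^ 12 := Nat.mul_le_mul_right _ (by norm_num)
      _ = (16 * (q + 1) ^ 6) ^ 2 := by (set_option synthInstance.maxSize 99999 in exact Cfsg.Agent.Lib.RingK.eqN (by decide +kernel))

/-- the top parts -/
theorem P_top_le (hc : CrD 6 p f M X v g MS I) (hv2 : v ≠ 2)
    (he : 3 < orderOf (((p ^ f) ^ 2 : ℕ) : ZMod v)) :
    P v M ≤ (p ^ f) ^ 4 + (p ^ f) ^ 3 + (p ^ f) ^ 2 + p ^ f + 1 := by
  have hv := hc.hX.hp
  have hq2 := hc.hY.q_ge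
  have hvq := hc.hY.not_dvd_q hv hc.hvp
  have h1 : P v M ≤ P v (AA 6 (p ^ f)) := P_le_AA hc.hY hv hc.hvp
  have hle := order_le hc.hY rfl hv hc.hvp (dvd_M hc)
  rw [SpSix.P_eq_of_order (n := 6) hv hv2 hq2 hvq (by omega) (by omega)] at h1
  refine h1.trans ?_
  rcases (show orderOf (((p ^ f) ^ 2 : ℕ) : ZMod v) = 4 ∨ orderOf (((p ^ f) ^ 2 : ℕ) : ZMod v) = 5 by omega) with h | h
  · rw [h]
    exact P_four hv hv2 hq2
  · rw [h]
    exact P_five hv hv2 hq2 h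

theorem eleven_le (hc : CrD 6 p f M X v g MS I) (hv2 : v ≠ 2)
    (he : 3 < orderOf (((p ^ f) ^ 2 : ℕ) : ZMod v)) : 11 ≤ v := by
  have hv := hc.hX.hp
  have hvq := hc.hY.not_dvd_q hv hc.hvp
  have hle := order_le hc.hY rfl hv hc.hvp (dvd_M hc)
  have := Fact.mk hv
  -- the order of `q` is 5, 8 or 10
  have hq0 : ((p ^ f : ℕ) : ZMod v) ≠ 0 := fun h0 => hvq ((ZMod.natCast_eq_zero_iff _ _).1 h0)
  have h1 : orderOf ((p ^ f : ℕ) : ZMod v) ∣ v - 1 :=
    orderOf_dvd_of_pow_eq_one (ZMod.pow_card_sub_one_eq_one hq0)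
  have h2 : orderOf (((p ^ f) ^ 2 : ℕ) : ZMod v) =
      orderOf ((p ^ f : ℕ) : ZMod v) / Nat.gcd (orderOf ((p ^ f : ℕ) : ZMod v)) 2 := by
    rw [Nat.cast_pow (p ^ f) 2, orderOf_pow' _ (by norm_num)]
  rw [h2] at he hle
  have hpos : 0 < orderOf ((p ^ f : ℕ) : ZMod v) := by
    rcases Nat.eq_zero_or_pos (orderOf ((p ^ f : ℕ) : ZMod v)) with h0 | h0
    · rw [h0] at he
      norm_num at he
    · exact h0
  have hv2' := hv.two_le
  have h3 := Nat.le_of_dvd (by omega) h1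
  generalize orderOf ((p ^ f : ℕ) : ZMod v) = o at *
  obtain ⟨k, hk⟩ := h1
  rcases Nat.even_or_odd o with ho | ho
  · rw [Nat.gcd_eq_right ho.two_dvd] at he hle
    obtain ⟨j, rfl⟩ := ho
    have h4 : j = 4 ∨ j = 5 := by omega
    have h5 : v ≠ 9 := by rintro rfl; exact absurd hv (by norm_num)
    have h6 : v ≠ 10 := by rintro rfl; exact absurd hv (by norm_num)
    omega
  · rw [Nat.coprime_two_right.2 ho, Nat.div_one] at he hle
    obtain ⟨j, rfl⟩ := ho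
    have h4 : j = 2 := by omega
    subst h4
    have h5 : v ≠ 6 := by rintro rfl; exact absurd hv (by norm_num)
    rcases Nat.lt_or_ge k 2 with h6 | h6
    · interval_cases k <;> omega
    · omega

/-- the `2`-part -/
theorem P_two_six (hY : Real (.D 6) p f M) (hq : p ^ f = q) (ho : Odd q) : P 2 M = 2 * (P 2 (q ^ 2 - 1)) ^ 6 := by
  have hp2 : 2 ≠ p := by
    rintro rfl
    rw [← hq] at ho
    have := hY.hf
    exact Nat.not_even_iff_odd.2 ho ((even_two).pow_of_ne_zero (by omega))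
  have h2 := hY.P_other Nat.prime_two hp2
  have hq2 := hY.q_ge
  rw [hq] at h2 hq2
  obtain ⟨t, ht⟩ : ∃ t, q ^ 2 = 8 * t + 1 := by
    obtain ⟨k, rfl⟩ := ho
    obtain ⟨j, hj⟩ := Nat.even_mul_succ_self k
    refine ⟨j, ?_⟩
    have : (2 * k + 1) ^ 2 = 4 * (k * (k + 1)) + 1 := by ring
    rw [this, hj]; ring
  have ht0 : t ≠ 0 := by
    rintro rfl
    have : 2 ^ 2 ≤ q ^ 2 := Nat.pow_le_pow_left hq2 2
    omega
  have hdd : dd (.D 6) q = 4 := by
    show Nat.gcd 4 (q ^ 6 - 1) = 4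
    apply Nat.gcd_eq_left
    have h4 : q ^ 6 = (q ^ 2) ^ 3 := by rw [← pow_mul]
    rw [h4, ht]
    have : (8 * t + 1) ^ 3 = 4 * (2 * t * ((8 * t + 1) ^ 2 + (8 * t + 1) + 1)) + 1 := by ring
    rw [this, Nat.add_sub_cancel]
    exact Dvd.intro _ rfl
  have hP4 : P 2 4 = 4 := by
    have := P_pow_self (r := 2) (k := 2) (a := 1) Nat.prime_two (by norm_num)
    simpa using this
  rw [hdd, hP4] at h2
  have hnum : num (.D 6) q = (8 * t) ^ 6 * (2 ^ 3 * (((4 * t + 1) ^ 2 * (32 * t ^ 2 + 8 * t + 1)) *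
      (((8 * t + 1) ^ 2 + (8 * t + 1) + 1) ^ 2 *
        ((8 * t + 1) ^ 4 + (8 * t + 1) ^ 3 + (8 * t + 1) ^ 2 + (8 * t + 1) + 1)))) := by
    have h3 : num (.D 6) q = (q ^ 6 - 1) * ((q ^ 2 - 1) * (q ^ 4 - 1) * (q ^ 6 - 1) * (q ^ 8 - 1) * (q ^ 10 - 1)) := by
      simp only [num, Finset.prod_range_succ, Finset.prod_range_zero]
      norm_num only [_root_.one_mul]
    have h4 : q ^ 4 = (q ^ 2) ^ 2 := by rw [← pow_mul]
    have h6 : q ^ 6 = (q ^ 2) ^ 3 := by rw [← pow_mul]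
    have h8 : q ^ 8 = (q ^ 2) ^ 4 := by rw [← pow_mul]
    have h10 : q ^ 10 = (q ^ 2) ^ 5 := by rw [← pow_mul]
    rw [h3, h4, h6, h8, h10, ht]
    have e4 : (8 * t + 1) ^ 2 - 1 = 8 * t * (2 * (4 * t + 1)) := by
      have : (8 * t + 1) ^ 2 = 8 * t * (2 * (4 * t + 1)) + 1 := by ring
      rw [this, Nat.add_sub_cancel]
    have e6 : (8 * t + 1) ^ 3 - 1 = 8 * t * ((8 * t + 1) ^ 2 + (8 * t + 1) + 1) := by
      have : (8 * t + 1) ^ 3 = 8 * t * ((8 * t + 1) ^ 2 + (8 * t + 1) + 1) + 1 := by ring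
      rw [this, Nat.add_sub_cancel]
    have e8 : (8 * t + 1) ^ 4 - 1 = 8 * t * (2 * (4 * t + 1)) * (2 * (32 * t ^ 2 + 8 * t + 1)) := by
      have : (8 * t + 1) ^ 4 = 8 * t * (2 * (4 * t + 1)) * (2 * (32 * t ^ 2 + 8 * t + 1)) + 1 := by ring
      rw [this, Nat.add_sub_cancel]
    have e10 : (8 * t + 1) ^ 5 - 1 =
        8 * t * ((8 * t + 1) ^ 4 + (8 * t + 1) ^ 3 + (8 * t + 1) ^ 2 + (8 * t + 1) + 1) := by
      have : (8 * t + 1) ^ 5 =
          8 * t * ((8 * t + 1) ^ 4 + (8 * t + 1) ^ 3 + (8 * t + 1) ^ 2 + (8 * t + 1) + 1) + 1 := by ring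
      rw [this, Nat.add_sub_cancel]
    rw [e4, e6, e8, e10, Nat.add_sub_cancel]
    (set_option synthInstance.maxSize 99999 in exact Cfsg.Agent.Lib.RingK.eqN (by decide +kernel))
  set m := (((4 * t + 1) ^ 2 * (32 * t ^ 2 + 8 * t + 1)) *
      (((8 * t + 1) ^ 2 + (8 * t + 1) + 1) ^ 2 *
        ((8 * t + 1) ^ 4 + (8 * t + 1) ^ 3 + (8 * t + 1) ^ 2 + (8 * t + 1) + 1))) with hm
  have hmo : ¬ 2 ∣ m := by
    have o1 : Odd (4 * t + 1) := ⟨2 * t, by ring⟩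
    have o2 : Odd (32 * t ^ 2 + 8 * t + 1) := ⟨16 * t ^ 2 + 4 * t, by ring⟩
    have o3 : Odd ((8 * t + 1) ^ 2 + (8 * t + 1) + 1) := ⟨32 * t ^ 2 + 12 * t + 1, by ring⟩
    have o4 : Odd ((8 * t + 1) ^ 4 + (8 * t + 1) ^ 3 + (8 * t + 1) ^ 2 + (8 * t + 1) + 1) :=
      ⟨2048 * t ^ 4 + 1280 * t ^ 3 + 320 * t ^ 2 + 40 * t + 2, by ring⟩
    have : Odd m := by
      rw [hm]
      exact ((o1.pow).mul o2).mul ((o3.pow).mul o4)
    exact fun h => (Nat.not_even_iff_odd.2 this) (even_iff_two_dvd.2 h)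
  have hpow : ∀ x k : ℕ, P 2 (x ^ k) = (P 2 x) ^ k := fun x k => by
    rw [P, P, Nat.factorization_pow, Finsupp.smul_apply, smul_eq_mul, ← pow_mul, mul_comm]
  rw [hnum, P_mul (by positivity) (by
    have : m ≠ 0 := fun h => hmo (by rw [h]; exact dvd_zero _)
    (clear * -; positivity)), P_pow_self Nat.prime_two hmo, hpow] at h2
  have e : q ^ 2 - 1 = 8 * t := by omega
  rw [e]
  omega

end Cfsg.Agent.H364.DSixB
end

private theorem dce_3141dc8440eb : _root_.True := by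
  try have : _root_.True := by simp only [_root_.Cfsg.Agent.H902.Art.num.eq_10]
  try have : _root_.True := by simp only [_root_.Cfsg.Agent.H902.Art.num.eq_13]
  try have : _root_.True := by simp only [_root_.Cfsg.Agent.H902.Art.num.eq_11]
  try have : _root_.True := by simp only [_root_.Cfsg.Agent.H902.Art.num.eq_14]
  try have : _root_.True := by simp only [_root_.Cfsg.Agent.H902.Art.num.eq_6]
  try have : _root_.True := by simp only [_root_.Cfsg.Agent.H902.Art.num.eq_1]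
  try have : _root_.True := by simp only [_root_.Cfsg.Agent.H902.Art.num.eq_15]
  try have : _root_.True := by simp only [_root_.Cfsg.Agent.H902.Art.num.eq_2]
  try have : _root_.True := by simp only [_root_.Cfsg.Agent.H902.Art.num.eq_4]
  try have : _root_.True := by simp only [_root_.Cfsg.Agent.H902.Art.num.eq_8]
  try have : _root_.True := by simp only [_root_.Cfsg.Agent.H902.Art.num.eq_7]
  try have : _root_.True := by simp only [_root_.Cfsg.Agent.H902.Art.num.eq_9]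
  try have : _root_.True := by simp only [_root_.Cfsg.Agent.H902.Art.num.eq_5]
  try have : _root_.True := by simp only [_root_.Cfsg.Agent.H902.Art.num.eq_12]
  try have : _root_.True := by simp only [_root_.Cfsg.Agent.H902.Art.num.eq_3]
  exact _root_.True.intro
end

-- part: H364/SpTwo
section
prune_inst 0x20040080000000000000000000000000000000200000004000000000010000000000040001020000800000000000000000000000000000000000000000000000060080680008200000000004000000000000000000000000000000000000000000000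
set_option linter.all false
open scoped Cfsg.Agent.FastGrp

/-!
# `S = L₂(v^g)` in `C_3(q)` and `C_5(2)`: elimination by the order (helper364)
-/

set_option autoImplicit false

namespace Cfsg.Agent.H364.SpTwo

open Finset Cfsg.Agent.H902.Lte Cfsg.Agent.H902.Art Cfsg.Agent.H364.SpVal Cfsg.Agent.H364.SpIneq Cfsg.Agent.H364.SpPrim
  Cfsg.Agent.H364.SpTot Cfsg.Agent.H364.SpCross Cfsg.Agent.H364.SpSmall Cfsg.Agent.H364.SpEnum Cfsg.Agent.H364.SpSix
  Cfsg.Agent.H364.SpFin Cfsg.Agent.H364.SpLarge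

/-- everything known about `S = L₂(v^g)` -/
structure Tw (n p f M v g MS I : ℕ) : Prop where
  hY : Real (.C n) p f M
  hX : Real (.L 2) v g MS
  hvp : v ≠ p
  hMS : MS ∣ M
  hI : I ∣ dd (.L 2) (v ^ g) * g
  hd : Fr n (p ^ f) I MS

variable {n p f q M v g MS I : ℕ}

theorem eq_L2 (hX : Real (.L 2) v g MS) : dd (.L 2) (v ^ g) * MS = v ^ g * ((v ^ g) ^ 2 - 1) := by
  have h := hX.eq
  have h1 : NN (.L 2) = 1 := rfl
  have h2 : num (.L 2) (v ^ g) = (v ^ g) ^ 2 - 1 := by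
    show ∏ i ∈ range (2 - 1), ((v ^ g) ^ (i + 2) - 1) = _
    rw [Finset.prod_range_one]
  rw [h1, h2, pow_one] at h
  exact h

theorem dvd_all {D : ℕ} (hX : Real (.L 2) v g MS) (hI : I ∣ dd (.L 2) (v ^ g) * g) (hd : D ∣ I * MS) :
    D ∣ g * (v ^ g * ((v ^ g) ^ 2 - 1)) := by
  refine hd.trans ?_
  rw [← eq_L2 hX]
  calc I * MS ∣ (dd (.L 2) (v ^ g) * g) * MS := Nat.mul_dvd_mul_right hI _
    _ = g * (dd (.L 2) (v ^ g) * MS) := by ring

theorem pos_sq (hX : Real (.L 2) v g MS) : 0 < (v ^ g) ^ 2 - 1 := by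
  have h1 : 1 < (v ^ g) ^ 2 := Nat.one_lt_pow (by norm_num) (Nat.one_lt_pow (by have := hX.hf; omega) hX.hp.one_lt)
  omega

theorem le_cube {D : ℕ} (hX : Real (.L 2) v g MS) (hI : I ∣ dd (.L 2) (v ^ g) * g) (hd : D ∣ I * MS) :
    D ≤ g * (v ^ g) ^ 3 := by
  have h1 := dvd_all hX hI hd
  have h2 := pos_sq hX
  have h3 : 0 < v ^ g := pow_pos hX.hp.pos _
  refine (Nat.le_of_dvd (Nat.mul_pos hX.hf (Nat.mul_pos h3 h2)) h1).trans ?_
  apply Nat.mul_le_mul_left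
  calc v ^ g * ((v ^ g) ^ 2 - 1) ≤ v ^ g * (v ^ g) ^ 2 := Nat.mul_le_mul_left _ (Nat.sub_le _ _)
    _ = _ := by ring

theorem le_sq {D : ℕ} (hX : Real (.L 2) v g MS) (hI : I ∣ dd (.L 2) (v ^ g) * g) (hd : D ∣ I * MS)
    (hv : Nat.Coprime D v) : D ≤ g * (v ^ g) ^ 2 := by
  have h1 := dvd_all hX hI hd
  have h2 := pos_sq hX
  have h4 : D ∣ g * ((v ^ g) ^ 2 - 1) := by
    have h5 : D ∣ v ^ g * (g * ((v ^ g) ^ 2 - 1)) := by
      rw [show v ^ g * (g * ((v ^ g) ^ 2 - 1)) = g * (v ^ g * ((v ^ g) ^ 2 - 1)) by ring]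
      exact h1
    exact (Nat.Coprime.pow_right _ hv).dvd_of_dvd_mul_left h5
  refine (Nat.le_of_dvd (Nat.mul_pos hX.hf h2) h4).trans ?_
  exact Nat.mul_le_mul_left _ (Nat.sub_le _ _)

/-- the enumeration -/
def e2 (n q v a x : ℕ) : Bool :=
  (cardC n q % v ^ (a + 1) != 0) && (List.range (a + 1)).all fun g => decide (g = 0) || decide (v ^ g = x) ||
    (cardC n q % (v ^ g * ((v ^ g) ^ 2 - 1) / Nat.gcd 2 (v ^ g - 1)) != 0) ||
      ((g * (v ^ g * ((v ^ g) ^ 2 - 1))) % (q ^ cn n * te n q) != 0)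

theorem e2_false {a x : ℕ} (hc : Tw n p f M v g MS I) (hq : p ^ f = q) (hg : good n q (te n q) = true)
    (h : e2 n q v a x = true) : v ^ g = x := by
  have hM := M_eq hc.hY hq
  have hX := hc.hX
  have hv := hX.hp
  have hq2 := hc.hY.q_ge
  have hd := hc.hd
  rw [hq] at hq2 hd
  have hd' := hd.good hq2 hg
  rw [e2, Bool.and_eq_true, bne_iff_ne, List.all_eq_true] at h
  obtain ⟨h1, h2⟩ := h
  have hpow : v ^ g ∣ M := by
    have h3 := P_dvd v MS
    rw [hX.P_self, ← pow_mul, show NN (.L 2) = 1 from rfl, mul_one] at h3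
    exact h3.trans hc.hMS
  have hN : g ≤ a := by
    by_contra hcon
    apply h1
    apply Nat.mod_eq_zero_of_dvd
    rw [← hM]
    exact (pow_dvd_pow v (by omega)).trans hpow
  have h3 := h2 g (List.mem_range.2 (by omega))
  simp only [Bool.or_eq_true, decide_eq_true_eq, bne_iff_ne, ne_eq] at h3
  rcases h3 with ((h3 | h3) | h3) | h3
  · have := hX.hf
    omega
  · exact h3
  · exfalso
    apply h3
    apply Nat.mod_eq_zero_of_dvd
    rw [← hM, ← eq_L2 hX]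
    have h4 : dd (.L 2) (v ^ g) = Nat.gcd 2 (v ^ g - 1) := rfl
    rw [h4, Nat.mul_div_cancel_left _ (Nat.gcd_pos_of_pos_left _ (by norm_num))]
    exact hc.hMS
  · exact (h3 (Nat.mod_eq_zero_of_dvd (dvd_all hX hc.hI hd'))).elim

theorem exponent (hX : Real (.L 2) v g MS) {B w NB : ℕ} (hMS : v ^ g ≤ B) (hw : w ≤ v) (hw0 : 1 ≤ w)
    (hN : B < w ^ (NB + 1)) : g ≤ NB := by
  by_contra hcon
  have h3 : w ^ (NB + 1) ≤ v ^ g :=
    (Nat.pow_le_pow_right hw0 (by omega)).trans (Nat.pow_le_pow_left hw g)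
  omega

theorem pow_le (hc : Tw n p f M v g MS I) : v ^ g ≤ P v M := by
  have h1 := P_mono hc.hX.hp hc.hY.M_ne hc.hMS
  rw [hc.hX.P_self, show NN (.L 2) = 1 from rfl, pow_one] at h1
  exact h1

theorem dvd_M (hc : Tw n p f M v g MS I) : v ∣ M := by
  have h3 := P_dvd v MS
  rw [hc.hX.P_self, show NN (.L 2) = 1 from rfl, pow_one] at h3
  exact ((dvd_pow_self v (by have := hc.hX.hf; omega)).trans h3).trans hc.hMS

/-! ### rank 3 -/

theorem n_two {q : ℕ} (hq : 37 ≤ q) : 16 * (q + 1) ^ 3 < 2 ^ ((q + 1) / 2 + 1) := by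
  have key : ∀ k, 19 ≤ k → 16 * (2 * k + 1) ^ 3 < 2 ^ (k + 1) := by
    intro k hk
    induction k, hk using Nat.le_induction with
    | base => norm_num
    | succ k hk ih =>
      have h1 : 2 ^ (k + 1 + 1) = 2 * 2 ^ (k + 1) := by ring
      rw [h1]
      have h3 : (2 * (k + 1) + 1) ^ 3 ≤ 2 * (2 * k + 1) ^ 3 := by
        obtain ⟨y, rfl⟩ := Nat.exists_eq_add_of_le hk
        ring_nf
        nlinarith only []
      omega
  refine lt_of_le_of_lt ?_ (key ((q + 1) / 2) (by omega))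
  apply Nat.mul_le_mul_left
  exact Nat.pow_le_pow_left (by omega) 3

theorem i_two {q : ℕ} (hq : 37 ≤ q) : 6 * ((q + 1) / 2 * (16 * (q + 1) ^ 3) ^ 2) < q ^ 9 := by
  have h1 : (q + 1) / 2 * 2 ≤ q + 1 := Nat.div_mul_le_self _ 2
  have h2 : (q + 1) * 37 ≤ 38 * q := by omega
  have h3 : (q + 1) ^ 7 * 37 ^ 7 ≤ 38 ^ 7 * q ^ 7 := by
    rw [← mul_pow, ← mul_pow]
    exact Nat.pow_le_pow_left h2 7
  have h4 : 37 ^ 2 ≤ q ^ 2 := Nat.pow_le_pow_left hq 2
  refine lt_of_mul_lt_mul_right ?_ (Nat.zero_le (37 ^ 7))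
  calc 6 * ((q + 1) / 2 * (16 * (q + 1) ^ 3) ^ 2) * 37 ^ 7
      = 768 * ((q + 1) / 2 * 2) * (q + 1) ^ 6 * 37 ^ 7 := by ring
    _ ≤ 768 * (q + 1) * (q + 1) ^ 6 * 37 ^ 7 := by gcongr
    _ = 768 * ((q + 1) ^ 7 * 37 ^ 7) := by ring
    _ ≤ 768 * (38 ^ 7 * q ^ 7) := Nat.mul_le_mul_left _ h3
    _ = (768 * 38 ^ 7) * q ^ 7 := by ring
    _ < (37 ^ 7 * 37 ^ 2) * q ^ 7 := Nat.mul_lt_mul_of_pos_right (by norm_num) (pow_pos (by omega) _)
    _ ≤ (37 ^ 7 * q ^ 2) * q ^ 7 := Nat.mul_le_mul_right _ (Nat.mul_le_mul_left _ h4)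
    _ = q ^ 9 * 37 ^ 7 := by ring

theorem n_odd {q : ℕ} (hq : 9 ≤ q) : 3 * (q + 1) ^ 3 < 3 ^ (q - 2 + 1) := by
  obtain ⟨k, rfl⟩ := Nat.exists_eq_add_of_le hq
  induction k with
  | zero => norm_num
  | succ k ih =>
    have ih' := ih (by omega)
    have h1 : 3 ^ (9 + (k + 1) - 2 + 1) = 3 * 3 ^ (9 + k - 2 + 1) := by
      rw [← pow_succ']; congr 1; omega
    rw [h1]
    have h3 : (9 + (k + 1) + 1) ^ 3 ≤ 3 * (9 + k + 1) ^ 3 := by
      ring_nf
      nlinarith only []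
    omega

theorem i_odd {q : ℕ} (hq : 9 ≤ q) : 6 * ((q - 2) * (3 * (q + 1) ^ 3) ^ 2) < q ^ 9 := by
  have h2 : (q + 1) * 9 ≤ 10 * q := by omega
  have h3 : (q + 1) ^ 6 * 9 ^ 6 ≤ 10 ^ 6 * q ^ 6 := by
    rw [← mul_pow, ← mul_pow]
    exact Nat.pow_le_pow_left h2 6
  have h4 : 54 * 10 ^ 6 * (q - 2) < 9 ^ 6 * q ^ 3 := by
    obtain ⟨k, rfl⟩ := Nat.exists_eq_add_of_le hq
    rw [show 9 + k - 2 = 7 + k by omega]
    ring_nf
    nlinarith only []
  refine lt_of_mul_lt_mul_right ?_ (Nat.zero_le (9 ^ 6))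
  calc 6 * ((q - 2) * (3 * (q + 1) ^ 3) ^ 2) * 9 ^ 6
      = 54 * (q - 2) * ((q + 1) ^ 6 * 9 ^ 6) := by ring
    _ ≤ 54 * (q - 2) * (10 ^ 6 * q ^ 6) := Nat.mul_le_mul_left _ h3
    _ = (54 * 10 ^ 6 * (q - 2)) * q ^ 6 := by ring
    _ < (9 ^ 6 * q ^ 3) * q ^ 6 := Nat.mul_lt_mul_of_pos_right h4 (pow_pos (by omega) _)
    _ = q ^ 9 * 9 ^ 6 := by ring

theorem n_top {q : ℕ} (hq : 3 ≤ q) : q ^ 2 + q + 1 < 5 ^ (q / 2 + 1) := by
  have key : ∀ k, 1 ≤ k → (2 * k + 1) ^ 2 + (2 * k + 1) + 1 < 5 ^ (k + 1) := by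
    intro k hk
    induction k, hk using Nat.le_induction with
    | base => norm_num
    | succ k hk ih =>
      have h1 : 5 ^ (k + 1 + 1) = 5 * 5 ^ (k + 1) := by ring
      rw [h1]
      linarith only [ih, _root_.sq_nonneg (2 * ↑k + 1 : ℤ)]
  refine lt_of_le_of_lt ?_ (key (q / 2) (by omega))
  have h : q ≤ 2 * (q / 2) + 1 := by omega
  have h1 := Nat.pow_le_pow_left h 2
  omega

theorem i_top {q : ℕ} (hq : 3 ≤ q) : 6 * (q / 2 * (q ^ 2 + q + 1) ^ 3) < q ^ 9 := by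
  rcases Nat.lt_or_ge q 4 with h | h
  · have : q = 3 := by omega
    subst this
    norm_num
  · have h1 : q / 2 * 2 ≤ q := Nat.div_mul_le_self _ 2
    have h2 : (q ^ 2 + q + 1) * 16 ≤ 21 * q ^ 2 := by nlinarith only [h]
    have h3 : (q ^ 2 + q + 1) ^ 3 * 16 ^ 3 ≤ 21 ^ 3 * q ^ 6 := by
      calc (q ^ 2 + q + 1) ^ 3 * 16 ^ 3 = ((q ^ 2 + q + 1) * 16) ^ 3 := by rw [mul_pow]
        _ ≤ (21 * q ^ 2) ^ 3 := Nat.pow_le_pow_left h2 3
        _ = _ := by ring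
    have h4 : 4 ^ 2 ≤ q ^ 2 := Nat.pow_le_pow_left h 2
    refine lt_of_mul_lt_mul_right ?_ (Nat.zero_le (16 ^ 3))
    calc 6 * (q / 2 * (q ^ 2 + q + 1) ^ 3) * 16 ^ 3
        = 3 * (q / 2 * 2) * ((q ^ 2 + q + 1) ^ 3 * 16 ^ 3) := by ring
      _ ≤ 3 * q * (21 ^ 3 * q ^ 6) := Nat.mul_le_mul (Nat.mul_le_mul_left _ h1) h3
      _ = (3 * 21 ^ 3) * q ^ 7 := by ring
      _ < (16 ^ 3 * 4 ^ 2) * q ^ 7 := Nat.mul_lt_mul_of_pos_right (by norm_num) (pow_pos (by omega) _)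
      _ ≤ (16 ^ 3 * q ^ 2) * q ^ 7 := Nat.mul_le_mul_right _ (Nat.mul_le_mul_left _ h4)
      _ = q ^ 9 * 16 ^ 3 := by ring

theorem ge_three (hc : Tw 3 p f M v g MS I) : (p ^ f) ^ 9 ≤ 6 * ((p ^ f) ^ 3 * t3 (p ^ f)) := by
  have h1 := t3_ge (q := p ^ f)
  generalize p ^ f = q at *
  calc q ^ 9 = q ^ 3 * q ^ 6 := by rw [← pow_add]
    _ ≤ q ^ 3 * (t3 q * 6) := Nat.mul_le_mul_left _ h1
    _ = _ := by ring

theorem chk_two : ∀ q ∈ List.range 37, q < 3 ∨ q % 2 = 0 ∨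
    (good 3 q (te 3 q) = true ∧ ∃ a ∈ List.range 20, e2 3 q 2 a (if q = 3 then 64 else 0) = true) := by
  decide +kernel

theorem chk_odd : ∀ x ∈ [(4, 3), (4, 5), (5, 3), (7, 3), (8, 3), (8, 7)],
    good 3 x.1 (te 3 x.1) = true ∧ ∃ a ∈ List.range 20, e2 3 x.1 x.2 a 0 = true := by
  decide +kernel

theorem chk_five : good 5 2 (te 5 2) = true ∧ ∀ x ∈ [(3, 6), (5, 2), (7, 1), (11, 1), (17, 1), (31, 1)],
    e2 5 2 x.1 x.2 0 = true := by
  decide +kernel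

/-- **`C_5(2)`.** -/
theorem five (hc : Tw 5 p f M v g MS I) (hq : p ^ f = 2) : False := by
  have hv := hc.hX.hp
  have hM := M_eq hc.hY hq
  have h1 := dvd_M hc
  rw [hM] at h1
  have h2 : cardC 5 2 ∣ 2 ^ 25 * (3 * 5 * 7 * 11 * 17 * 31) ^ 6 := by
    rw [Nat.dvd_iff_mod_eq_zero]
    decide +kernel
  have hp2 : p = 2 := DEight.eq_of_pow hc.hY.hp Nat.prime_two (by rw [hq])
  have hv2 : ¬ v ∣ 2 ^ 25 := fun h => hc.hvp (by
    rw [hp2]; exact (Nat.prime_dvd_prime_iff_eq hv Nat.prime_two).1 (hv.dvd_of_dvd_pow h))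
  have h3 : v ∣ 3 * 5 * 7 * 11 * 17 * 31 :=
    hv.dvd_of_dvd_pow ((hv.dvd_mul.1 (h1.trans h2)).resolve_left hv2)
  have hv0 : v ^ g ≠ 0 := (pow_pos hv.pos _).ne'
  have key : ∀ a b : ℕ, (a, b) ∈ [(3, 6), (5, 2), (7, 1), (11, 1), (17, 1), (31, 1)] → v = a → False := by
    rintro a b hab rfl
    exact hv0 (e2_false hc hq chk_five.1 ((chk_five.2 _ hab :)))
  have he : ∀ {a : ℕ}, a.Prime → v ∣ a → v = a := fun ha h => (Nat.prime_dvd_prime_iff_eq hv ha).1 h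
  rcases hv.dvd_mul.1 h3 with h4 | h4
  · rcases hv.dvd_mul.1 h4 with h5 | h5
    · rcases hv.dvd_mul.1 h5 with h6 | h6
      · rcases hv.dvd_mul.1 h6 with h7 | h7
        · rcases hv.dvd_mul.1 h7 with h8 | h8
          · exact key 3 6 (by simp) (he (by norm_num) h8)
          · exact key 5 2 (by simp) (he (by norm_num) h8)
        · exact key 7 1 (by simp) (he (by norm_num) h7)
      · exact key 11 1 (by simp) (he (by norm_num) h6)
    · exact key 17 1 (by simp) (he (by norm_num) h5)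
  · exact key 31 1 (by simp) (he (by norm_num) h4)

/-- **`C_3(q)`**: only `L₂(64)` in `C_3(3)`. -/
theorem three (hc : Tw 3 p f M v g MS I) (hq3 : 3 ≤ p ^ f) : p ^ f = 3 ∧ v ^ g = 64 := by
  have hv := hc.hX.hp
  have hX := hc.hX
  have hp := hc.hY.hp
  have hq2 := hc.hY.q_ge
  have hvq := hc.hY.not_dvd_q hv hc.hvp
  have hpow := pow_le hc
  have hge := ge_three hc
  have hv0 : v ^ g ≠ 0 := (pow_pos hv.pos _).ne'
  obtain ⟨q, hq⟩ : ∃ q, p ^ f = q := ⟨_, rfl⟩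
  have hfr := hc.hd
  have hd := hfr (t3 (p ^ f)) (t3_dvd (by omega)) fun r hr h => t3_order hq2 hr h
  rw [show cn 3 = 3 from rfl] at hd
  by_cases hvt : v ∣ t3 (p ^ f)
  · -- `v` divides `t`
    exfalso
    have hv2 : v ≠ 2 := by
      rintro rfl
      have h3 := t3_order hq2 hv hvt
      have := order_two_le hvq
      omega
    have ho := t3_order hq2 hv hvt
    have hP := P_le_three hc.hY rfl hv hc.hvp hv2 ho
    have hv3 : v ≠ 3 := by
      rintro rfl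
      have h3 : orderOf (((p ^ f) ^ 2 : ℕ) : ZMod 3) ≤ 1 := by
        have h4 : (((p ^ f) ^ 2 : ℕ) : ZMod 3) = 1 := by
          rw [← Nat.cast_one, ZMod.natCast_eq_natCast_iff]
          have h5 : (p ^ f) % 3 ≠ 0 := fun h => hvq (Nat.dvd_of_mod_eq_zero h)
          have h6 : (p ^ f) % 3 < 3 := Nat.mod_lt _ (by norm_num)
          show (p ^ f) ^ 2 % 3 = 1 % 3
          rw [Nat.pow_mod]
          interval_cases (p ^ f) % 3 <;> simp_all only [_root_.ne_eq, _root_.Nat.pow_eq_zero, _root_.OfNat.ofNat_ne_zero, _root_.false_and, _root_.not_false_eq_true, _root_.Nat.succ_ne_self, _root_.Nat.reduceDiv, _root_.Nat.cast_pow, _root_.not_true_eq_false, _root_.one_ne_zero, _root_.Nat.one_lt_ofNat, _root_.one_pow, _root_.Nat.one_mod, _root_.Nat.lt_add_one, _root_.Nat.reducePow, _root_.Nat.reduceMod]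
        rw [h4, orderOf_one]
      omega
    have hv5 : 5 ≤ v := by
      have := hv.two_le
      have : v ≠ 4 := by rintro rfl; exact absurd hv (by norm_num)
      omega
    have hg := exponent hX (hpow.trans hP) hv5 (by norm_num) (n_top hq3)
    have h1 := le_cube hX hc.hI hd
    have h2 : g * (v ^ g) ^ 3 ≤ p ^ f / 2 * ((p ^ f) ^ 2 + p ^ f + 1) ^ 3 :=
      Nat.mul_le_mul hg (Nat.pow_le_pow_left (hpow.trans hP) 3)
    have h3 := i_top hq3
    omega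
  · have hcop : Nat.Coprime ((p ^ f) ^ 3 * t3 (p ^ f)) v :=
      Nat.Coprime.mul_left (Nat.Coprime.pow_left _ (Nat.Coprime.symm ((Nat.Prime.coprime_iff_not_dvd hv).2 hvq)))
        (Nat.Coprime.symm ((Nat.Prime.coprime_iff_not_dvd hv).2 hvt))
    have h1 := le_sq hX hc.hI hd hcop
    by_cases hv2 : v = 2
    · subst hv2
      rcases Nat.lt_or_ge q 37 with h | h
      · have hodd : q % 2 ≠ 0 := by
          rw [hq] at hvq
          omega
        rcases chk_two q (List.mem_range.2 h) with h2 | h2 | ⟨hg, a, -, h2⟩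
        · omega
        · exact absurd h2 hodd
        · have h3 := e2_false hc hq hg h2
          split_ifs at h3 with h4
          · exact ⟨by rw [hq, h4], h3⟩
          · exact absurd h3 hv0
      · exfalso
        have hP := P_two_le hc.hY rfl hc.hvp (show 1 ≤ 3 by norm_num)
        have e : (4 * (p ^ f + 1)) ^ 3 / 4 = 16 * (p ^ f + 1) ^ 3 := by
          have : (4 * (p ^ f + 1)) ^ 3 = 16 * (p ^ f + 1) ^ 3 * 4 := by ring
          rw [this, Nat.mul_div_cancel _ (by norm_num)]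
        rw [e] at hP
        have hg := exponent hX (hpow.trans hP) le_rfl (by norm_num) (n_two (by omega))
        have h2 : g * (2 ^ g) ^ 2 ≤ (p ^ f + 1) / 2 * (16 * (p ^ f + 1) ^ 3) ^ 2 :=
          Nat.mul_le_mul hg (Nat.pow_le_pow_left (hpow.trans hP) 2)
        have h3 := i_two (q := p ^ f) (by (clear * - hq hvq h; omega))
        omega
    · exfalso
      have hv3 : 3 ≤ v := by have := hv.two_le; omega
      -- the order of `q²` is one
      have hvM := dvd_M hc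
      have h2 : P v M ≤ P v (AA 3 (p ^ f)) := hc.hY.P_other_le hv hc.hvp
      have hle : orderOf (((p ^ f) ^ 2 : ℕ) : ZMod v) = 1 := by
        obtain ⟨he, h4 | ⟨h4, h5⟩⟩ := PC_odd' hv hv2 hq2 hvq 3
        · exfalso
          have h6 : 1 < P v M := by
            rw [P]
            exact Nat.one_lt_pow (hv.factorization_pos_of_dvd hc.hY.M_ne hvM).ne' hv.one_lt
          omega
        · by_contra hcon
          apply hvt
          -- orders 2 and 3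
          have h6 : ¬ v ∣ (p ^ f) ^ (2 * 1) - 1 := by
            rw [dvd_pow_iff hq2]
            intro h
            exact hcon (Nat.dvd_one.1 h)
          have hq4 : 1 ≤ (p ^ f) ^ 2 := Nat.one_le_pow _ _ (by omega)
          rw [t3]
          rcases (show orderOf (((p ^ f) ^ 2 : ℕ) : ZMod v) = 2 ∨ orderOf (((p ^ f) ^ 2 : ℕ) : ZMod v) = 3 by omega)
            with h7 | h7
          · apply Dvd.dvd.mul_right
            have h8 : v ∣ (p ^ f) ^ (2 * 2) - 1 := by rw [dvd_pow_iff hq2, h7]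
            have e1 : (p ^ f) ^ (2 * 2) - 1 = ((p ^ f) ^ (2 * 1) - 1) * ((p ^ f) ^ 2 + 1) := by
              rw [mul_one, pow_mul]
              obtain ⟨a, ha⟩ := Nat.exists_eq_add_of_le' hq4
              rw [ha, Nat.add_sub_cancel]
              have : (a + 1) ^ 2 = a * (a + 1 + 1) + 1 := by ring
              rw [this, Nat.add_sub_cancel]
            rw [e1] at h8
            have h9 := (hv.dvd_mul.1 h8).resolve_left h6
            have h10 : Nat.Coprime v (Nat.gcd ((p ^ f) ^ 2 + 1) 2) :=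
              Nat.Coprime.coprime_dvd_right (Nat.gcd_dvd_right _ _) ((Nat.coprime_primes hv Nat.prime_two).2 hv2)
            have h11 : (p ^ f) ^ 2 + 1 = ((p ^ f) ^ 2 + 1) / Nat.gcd ((p ^ f) ^ 2 + 1) 2 *
              Nat.gcd ((p ^ f) ^ 2 + 1) 2 := (Nat.div_mul_cancel (Nat.gcd_dvd_left _ _)).symm
            rw [h11] at h9
            exact h10.dvd_of_dvd_mul_right h9
          · apply Dvd.dvd.mul_left
            have h8 : v ∣ (p ^ f) ^ (2 * 3) - 1 := by rw [dvd_pow_iff hq2, h7]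
            have e1 : (p ^ f) ^ (2 * 3) - 1 = ((p ^ f) ^ (2 * 1) - 1) * ((p ^ f) ^ 4 + (p ^ f) ^ 2 + 1) := by
              have e4 : (p ^ f) ^ 4 = ((p ^ f) ^ 2) ^ 2 := by ring
              rw [mul_one, pow_mul, e4]
              obtain ⟨a, ha⟩ := Nat.exists_eq_add_of_le' hq4
              rw [ha, Nat.add_sub_cancel]
              have : (a + 1) ^ 3 = a * ((a + 1) ^ 2 + (a + 1) + 1) + 1 := by ring
              rw [this, Nat.add_sub_cancel]
            rw [e1] at h8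
            have h9 := (hv.dvd_mul.1 h8).resolve_left h6
            have hv3' : v ≠ 3 := by
              rintro rfl
              have h3 : orderOf (((p ^ f) ^ 2 : ℕ) : ZMod 3) ≤ 1 := by
                have h4 : (((p ^ f) ^ 2 : ℕ) : ZMod 3) = 1 := by
                  rw [← Nat.cast_one, ZMod.natCast_eq_natCast_iff]
                  have h5 : (p ^ f) % 3 ≠ 0 := fun h => hvq (Nat.dvd_of_mod_eq_zero h)
                  have h6 : (p ^ f) % 3 < 3 := Nat.mod_lt _ (by norm_num)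
                  show (p ^ f) ^ 2 % 3 = 1 % 3
                  rw [Nat.pow_mod]
                  interval_cases (p ^ f) % 3 <;> simp_all only [_root_.Nat.reduceMul, _root_.mul_one, _root_.ne_eq, _root_.Nat.pow_eq_zero, _root_.OfNat.ofNat_ne_zero, _root_.false_and, _root_.not_false_eq_true, _root_.Nat.succ_ne_self, _root_.Std.le_refl, _root_.Nat.cast_pow, _root_.orderOf_eq_one_iff, _root_.sq_eq_one_iff, _root_.not_or, _root_.not_true_eq_false, _root_.one_ne_zero, _root_.Nat.one_lt_ofNat, _root_.one_pow, _root_.Nat.one_mod, _root_.Nat.lt_add_one, _root_.Nat.reducePow, _root_.Nat.reduceMod]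
                rw [h4, orderOf_one]
              omega
            have h10 : Nat.Coprime v (Nat.gcd ((p ^ f) ^ 4 + (p ^ f) ^ 2 + 1) 3) :=
              Nat.Coprime.coprime_dvd_right (Nat.gcd_dvd_right _ _) ((Nat.coprime_primes hv Nat.prime_three).2 hv3')
            have h11 : (p ^ f) ^ 4 + (p ^ f) ^ 2 + 1 = ((p ^ f) ^ 4 + (p ^ f) ^ 2 + 1) /
                Nat.gcd ((p ^ f) ^ 4 + (p ^ f) ^ 2 + 1) 3 * Nat.gcd ((p ^ f) ^ 4 + (p ^ f) ^ 2 + 1) 3 :=
              (Nat.div_mul_cancel (Nat.gcd_dvd_left _ _)).symm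
            rw [h11] at h9
            exact h10.dvd_of_dvd_mul_right h9
      have hP : P v M ≤ 3 * (p ^ f + 1) ^ 3 := by
        apply le_of_sq_le
        refine (Nat.pow_le_pow_left h2 2).trans ?_
        have hb := P_sq_sub_one_le (r := v) (j := orderOf (((p ^ f) ^ 2 : ℕ) : ZMod v)) hv hv2 hq2 (by omega)
        have h3 := DSixB.P_sq_gen hv hv2 hq2 hvq 3 (by omega) hb
        rw [hle] at h3
        refine h3.trans (le_of_eq ?_)
        norm_num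
        ring
      rcases Nat.lt_or_ge q 9 with h | h
      · -- small `q`
        have hd1 : v ∣ q ^ 2 - 1 := by
          have h3 := (dvd_pow_iff (r := v) hq2 1).2 (by rw [hle])
          rw [hq] at h3
          simpa only [_root_.mul_one] using h3
        have key : ∀ a b : ℕ, (a, b) ∈ [(4, 3), (4, 5), (5, 3), (7, 3), (8, 3), (8, 7)] → q = a → v = b → False := by
          intro a b hab h3 h4
          subst h3
          subst h4
          obtain ⟨hg, x, -, h5⟩ := chk_odd _ hab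
          exact hv0 (e2_false hc hq hg h5)
        have he : ∀ {a : ℕ}, a.Prime → v ∣ a → v = a := fun ha h => (Nat.prime_dvd_prime_iff_eq hv ha).1 h
        have hno2 : ∀ k, ¬ v ∣ 2 ^ k := fun k h => hv2 (he Nat.prime_two (hv.dvd_of_dvd_pow h))
        rw [hq] at hq3
        interval_cases q
        · exact hno2 3 hd1
        · have h4 : v ∣ 3 * 5 := hd1
          rcases hv.dvd_mul.1 h4 with h5 | h5
          · exact key 4 3 (by simp) rfl (he (by norm_num) h5)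
          · exact key 4 5 (by simp) rfl (he (by norm_num) h5)
        · have h4 : v ∣ 2 ^ 3 * 3 := hd1
          exact key 5 3 (by simp) rfl (he (by norm_num) ((hv.dvd_mul.1 h4).resolve_left (hno2 3)))
        · exact two_primes hp Nat.prime_two Nat.prime_three (by norm_num) (by rw [hq]; norm_num) (by rw [hq]; norm_num)
        · have h4 : v ∣ 2 ^ 4 * 3 := hd1
          exact key 7 3 (by simp) rfl (he (by norm_num) ((hv.dvd_mul.1 h4).resolve_left (hno2 4)))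
        · have h4 : v ∣ 3 ^ 2 * 7 := hd1
          rcases hv.dvd_mul.1 h4 with h5 | h5
          · exact key 8 3 (by simp) rfl (he (by norm_num) (hv.dvd_of_dvd_pow h5))
          · exact key 8 7 (by simp) rfl (he (by norm_num) h5)
      · have hg := exponent hX (hpow.trans hP) hv3 (by norm_num) (n_odd (by omega))
        have h3 : g * (v ^ g) ^ 2 ≤ (p ^ f - 2) * (3 * (p ^ f + 1) ^ 3) ^ 2 :=
          Nat.mul_le_mul hg (Nat.pow_le_pow_left (hpow.trans hP) 2)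
        have h4 := i_odd (q := p ^ f) (by omega)
        omega

end Cfsg.Agent.H364.SpTwo

private theorem dce_a41bc5414f39 : _root_.True := by
  try have : _root_.True := by simp only [_root_.Cfsg.Agent.H364.SpTwo.e2.eq_1]
  exact _root_.True.intro
end

-- part: H364/DAll
section
prune_inst 0x20040000000000000000400000000000000000200000000000000000010000000800040001000000000000400000000000000000000000000000000000000001020200400100200000000004000000000000000000000000000000000000000000000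
set_option linter.all false
open scoped Cfsg.Agent.FastGrp

-- part: H364/DSixC
section
/-!
# `D_6`: no simple groups of Lie type in cross characteristic (helper364)
-/

set_option autoImplicit false

namespace Cfsg.Agent.H364.DSixC

open Finset Cfsg.Agent.H902.Lte Cfsg.Agent.H902.Art Cfsg.Agent.H364.DIneq Cfsg.Agent.H364.DCross
  Cfsg.Agent.H364.DEnum Cfsg.Agent.H364.DEight Cfsg.Agent.H364.DSix Cfsg.Agent.H364.DSixB
open Cfsg.Agent.H364.SpVal (AA AA_ne PC_odd' cast_sq)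
open Cfsg.Agent.H364.SpFin (two_primes)

variable {p f q M : ℕ} {X : Sh} {v g MS I : ℕ}

/-- the crude check for the top primes -/
def cr (q : ℕ) : Bool := good 6 q (te 6 q) && (List.range 10).any fun NB =>
  decide (q ^ 4 + q ^ 3 + q ^ 2 + q + 1 < 11 ^ (NB + 1)) &&
    decide ((q ^ 4 + q ^ 3 + q ^ 2 + q + 1) ^ 8 * NB ^ 3 < (te 6 q) ^ 3)

theorem cr_list : ∀ q ∈ List.range 49, q < 5 ∨ q = 6 ∨ q = 9 ∨ q = 11 ∨ cr q = true := by
  decide +kernel

/-- the exact check -/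
def ex (k q v a : ℕ) : Bool :=
  ((cardD 6 q % v ^ (a + 1) != 0) && decide (v ^ (k * a) * a ^ 3 < (te 6 q) ^ 3)) || en 6 q (te 6 q) v a

def sm (q : ℕ) (L : List (ℕ × ℕ)) : Bool := good 6 q (te 6 q) &&
  (((2 * (L.map Prod.fst).prod) ^ 40) % ((q ^ 4 - 1) * (q ^ 6 - 1)) == 0) && L.all fun x => ex 5 q x.1 x.2

def tp (q : ℕ) (L : List (ℕ × ℕ)) : Bool := good 6 q (te 6 q) && ((te 6 q * (AA 3 q) ^ 20) % AA 5 q == 0) &&
  (((L.map Prod.fst).prod ^ 5) % te 6 q == 0) && L.all fun x => ex 8 q x.1 x.2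

theorem exact_bound {a : ℕ} (hc : CrD 6 p f M X v g MS I) (hq : p ^ f = q)
    (h : (cardD 6 q % v ^ (a + 1) != 0) = true) : P v M ≤ v ^ a := by
  have hM := M_eq hc.hY hq
  rw [bne_iff_ne] at h
  apply Nat.pow_le_pow_right hc.hX.hp.pos
  by_contra hcon
  apply h
  apply Nat.mod_eq_zero_of_dvd
  rw [← hM]
  exact (hc.hX.hp.pow_dvd_iff_le_factorization hc.hY.M_ne).2 (by omega)

theorem ex5_false {a : ℕ} (hc : CrD 6 p f M X v g MS I) (hq : p ^ f = q) (hd : te 6 q ∣ I * MS) (hvt : ¬ v ∣ te 6 q)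
    (h : ex 5 q v a = true) : False := by
  rw [ex, Bool.or_eq_true, Bool.and_eq_true, decide_eq_true_eq] at h
  rcases h with ⟨h1, h2⟩ | h
  · have hv := hc.hX.hp
    refine finA (C := 1) (D := te 6 q) (P1 := v ^ a) (NB := a) (w := v) hc hd (by omega) (exact_bound hc hq h1) hvt
      le_rfl (Nat.pow_lt_pow_right hv.one_lt (by omega)) hv.pos ?_
    rw [one_pow, one_mul, ← pow_mul, mul_comm a 5]
    exact h2
  · exact en_false hc hq hd h

theorem ex8_false {a : ℕ} (hc : CrD 6 p f M X v g MS I) (hq : p ^ f = q) (hd : te 6 q ∣ I * MS)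
    (h : ex 8 q v a = true) : False := by
  rw [ex, Bool.or_eq_true, Bool.and_eq_true, decide_eq_true_eq] at h
  rcases h with ⟨h1, h2⟩ | h
  · have hv := hc.hX.hp
    refine finB (C := 1) (D := te 6 q) (P1 := v ^ a) (NB := a) (w := v) hc hd (by omega) (exact_bound hc hq h1)
      le_rfl (Nat.pow_lt_pow_right hv.one_lt (by omega)) hv.pos ?_
    rw [one_pow, one_mul, ← pow_mul, mul_comm a 8]
    exact h2
  · exact en_false hc hq hd h

theorem mem_of_dvd_prod {L : List (ℕ × ℕ)} (hL : ∀ x ∈ L, Nat.Prime x.1) (hv : v.Prime) (h : v ∣ (L.map Prod.fst).prod) :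
    ∃ x ∈ L, x.1 = v := by
  obtain ⟨y, hy, hd⟩ := (Prime.dvd_prod_iff hv.prime).1 h
  obtain ⟨x, hx, rfl⟩ := List.mem_map.1 hy
  exact ⟨x, hx, ((Nat.prime_dvd_prime_iff_eq hv (hL x hx)).1 hd).symm⟩

/-- small orders, small `q` -/
theorem sm_false {L : List (ℕ × ℕ)} (hc : CrD 6 p f M X v g MS I) (hq : p ^ f = q) (hv2 : v ≠ 2)
    (he : orderOf ((q ^ 2 : ℕ) : ZMod v) ≤ 3) (hL : ∀ x ∈ L, Nat.Prime x.1) (h : sm q L = true) : False := by
  simp only [sm, Bool.and_eq_true, beq_iff_eq] at h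
  obtain ⟨⟨hg, h1⟩, h2⟩ := h
  have hv := hc.hX.hp
  have hq2 := hc.hY.q_ge
  have hvq := hc.hY.not_dvd_q hv hc.hvp
  have hfr := hc.hd
  rw [hq] at hq2 hvq hfr
  have hd := FrD.good hfr (by norm_num) hq2 hg
  have hvt : ¬ v ∣ te 6 q := fun hvt => by
    have := SpSmall.order_of_good hq2 hv (good_C (by norm_num) hg) hvt
    omega
  have hpos := (PC_odd' hv hv2 hq2 hvq 6).1
  have h3 : v ∣ (q ^ 4 - 1) * (q ^ 6 - 1) := by
    rcases (show orderOf ((q ^ 2 : ℕ) : ZMod v) = 1 ∨ orderOf ((q ^ 2 : ℕ) : ZMod v) = 2 ∨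
      orderOf ((q ^ 2 : ℕ) : ZMod v) = 3 by omega) with h | h | h
    · exact ((SpSix.dvd_pow_iff hq2 2).2 (by rw [h]; norm_num)).mul_right _
    · exact ((SpSix.dvd_pow_iff hq2 2).2 (by rw [h])).mul_right _
    · exact ((SpSix.dvd_pow_iff hq2 3).2 (by rw [h])).mul_left _
  have h4 : v ∣ 2 * (L.map Prod.fst).prod := hv.dvd_of_dvd_pow (h3.trans (Nat.dvd_of_mod_eq_zero h1))
  rcases hv.dvd_mul.1 h4 with h5 | h5
  · exact odd_two hv hv2 h5
  · obtain ⟨x, hx, hxv⟩ := mem_of_dvd_prod hL hv h5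
    rw [List.all_eq_true] at h2
    have h6 := h2 x hx
    rw [hxv] at h6
    exact ex5_false hc hq hd hvt h6

/-- large orders, small `q` -/
theorem tp_false {L : List (ℕ × ℕ)} (hc : CrD 6 p f M X v g MS I) (hq : p ^ f = q)
    (he : 3 < orderOf ((q ^ 2 : ℕ) : ZMod v)) (hL : ∀ x ∈ L, Nat.Prime x.1) (h : tp q L = true) : False := by
  simp only [tp, Bool.and_eq_true, beq_iff_eq] at h
  obtain ⟨⟨⟨hg, h0⟩, h1⟩, h2⟩ := h
  have hv := hc.hX.hp
  have hq2 := hc.hY.q_ge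
  have hvq := hc.hY.not_dvd_q hv hc.hvp
  have hfr := hc.hd
  have hle := order_le hc.hY hq hv hc.hvp (dvd_M hc)
  rw [hq] at hq2 hvq hfr
  have hd := FrD.good hfr (by norm_num) hq2 hg
  have h3 : v ∣ AA 5 q := by
    rw [AA]
    refine ((SpSix.dvd_pow_iff hq2 _).2 ?_).trans (Finset.dvd_prod_of_mem _
      (Finset.mem_range.2 (show orderOf ((q ^ 2 : ℕ) : ZMod v) - 1 < 5 by omega)))
    rw [Nat.sub_add_cancel (by omega)]
  have h4 : ¬ v ∣ AA 3 q := by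
    intro h4
    rw [AA] at h4
    obtain ⟨i, hi, h5⟩ := (hv.prime.dvd_finsetProd_iff _).1 h4
    rw [Finset.mem_range] at hi
    rw [SpSix.dvd_pow_iff hq2] at h5
    have := Nat.le_of_dvd (by omega) h5
    omega
  have h5 : v ∣ te 6 q := by
    rcases hv.dvd_mul.1 (h3.trans (Nat.dvd_of_mod_eq_zero h0)) with h6 | h6
    · exact h6
    · exact absurd (hv.dvd_of_dvd_pow h6) h4
  obtain ⟨x, hx, hxv⟩ := mem_of_dvd_prod hL hv (hv.dvd_of_dvd_pow (h5.trans (Nat.dvd_of_mod_eq_zero h1)))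
  rw [List.all_eq_true] at h2
  have h6 := h2 x hx
  rw [hxv] at h6
  exact ex8_false hc hq hd h6

/-- the lists for small orders -/
def Ls : ℕ → List (ℕ × ℕ)
  | 2 => [(3, 8), (5, 2), (7, 2)]
  | 3 => [(5, 2), (7, 2), (13, 2)]
  | 4 => [(3, 8), (5, 7), (7, 2), (13, 2), (17, 2)]
  | 5 => [(3, 8), (7, 2), (13, 2), (31, 2)]
  | 7 => [(3, 8), (5, 4), (19, 2), (43, 2)]
  | 8 => [(3, 14), (5, 2), (7, 6), (13, 2), (19, 2), (73, 2)]
  | 9 => [(5, 7), (7, 2), (13, 2), (41, 2), (73, 2)]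
  | 16 => [(3, 8), (5, 7), (7, 2), (13, 2), (17, 6), (241, 2), (257, 2)]
  | 32 => [(3, 8), (5, 4), (7, 2), (11, 6), (31, 6), (41, 2), (151, 2), (331, 2)]
  | 64 => [(3, 14), (5, 7), (7, 6), (13, 6), (17, 2), (19, 2), (37, 2), (73, 2), (109, 2), (241, 2)]
  | 128 => [(3, 8), (5, 2), (7, 4), (29, 2), (43, 6), (113, 2), (127, 6), (337, 2), (5419, 2)]
  | 256 => [(3, 8), (5, 7), (7, 2), (13, 2), (17, 6), (97, 2), (241, 2), (257, 6), (673, 2), (65537, 2)]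
  | _ => []

def Lt : ℕ → List (ℕ × ℕ)
  | 2 => [(11, 1), (17, 1), (31, 1)]
  | 3 => [(11, 2), (41, 1), (61, 1)]
  | 4 => [(11, 1), (31, 1), (41, 1), (257, 1)]
  | 9 => [(11, 2), (17, 1), (61, 1), (193, 1), (1181, 1)]
  | 11 => [(3221, 1), (7321, 1), (13421, 1)]
  | _ => []

theorem Ls_prime : ∀ q ∈ [2, 3, 4, 5, 7, 8, 9, 16, 32, 64, 128, 256], ∀ x ∈ Ls q, Nat.Prime x.1 := by
  simp only [List.mem_cons, List.not_mem_nil, or_false]
  rintro q (rfl | rfl | rfl | rfl | rfl | rfl | rfl | rfl | rfl | rfl | rfl | rfl) x hx <;>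
    (simp only [Ls] at hx; fin_cases hx <;> norm_num)

theorem Lt_prime : ∀ q ∈ [2, 3, 4, 9, 11], ∀ x ∈ Lt q, Nat.Prime x.1 := by
  simp only [List.mem_cons, List.not_mem_nil, or_false]
  rintro q (rfl | rfl | rfl | rfl | rfl) x hx <;>
    (simp only [Lt] at hx; fin_cases hx <;> norm_num)

theorem sm_list : ∀ q ∈ [2, 3, 4, 5, 7, 8, 9, 16, 32, 64, 128, 256], sm q (Ls q) = true := by
  decide +kernel

theorem tp_list : ∀ q ∈ [2, 3, 4, 9, 11], tp q (Lt q) = true := by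
  decide +kernel

/-- the fast form of the enumeration: `f = N / NN X` -/
def enF (n q D v a : ℕ) : Bool :=
  (cardD n q % v ^ (a + 1) != 0) && (List.range (a + 1)).all fun N => (shapes N).all fun X =>
    (N % NN X != 0) || !decide (Ok X v (N / NN X)) || (decide (X = .L 2) || (cardD n q % val v (X, N / NN X) != 0) ||
      ((24 * dd X (v ^ (N / NN X)) * (N / NN X) * val v (X, N / NN X)) % D != 0))

theorem NN_pos_of_Ok {X : Sh} {p f : ℕ} (h : Ok X p f) : 0 < NN X := by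
  cases X with
  | L n =>
    have hn : 2 ≤ n := h.1
    have h1 := half_ge hn
    show 0 < n * (n - 1) / 2
    omega
  | C n =>
    have hn : 2 ≤ n := h.1
    exact Nat.pow_pos (by omega)
  | U n =>
    have hn : 3 ≤ n := h.1
    have h1 := half_ge (show 2 ≤ n by omega)
    show 0 < n * (n - 1) / 2
    omega
  | D n =>
    have hn : 4 ≤ n := h
    exact Nat.mul_pos (by omega) (by omega)
  | DD n =>
    have hn : 4 ≤ n := h
    exact Nat.mul_pos (by omega) (by omega)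
  | _ => exact Nat.succ_pos _

theorem en_of_enF {n q D v a : ℕ} (h : enF n q D v a = true) : en n q D v a = true := by
  rw [enF, Bool.and_eq_true, List.all_eq_true] at h
  rw [en, Bool.and_eq_true, List.all_eq_true]
  refine ⟨h.1, fun N hN => ?_⟩
  have h1 := h.2 N hN
  rw [List.all_eq_true] at h1 ⊢
  rintro ⟨X, f⟩ hx
  unfold ents at hx
  rw [List.mem_flatMap] at hx
  obtain ⟨Y, hY, hx⟩ := hx
  rw [List.mem_map] at hx
  obtain ⟨f', hf', e⟩ := hx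
  rw [List.mem_filter, Bool.and_eq_true, decide_eq_true_iff, decide_eq_true_iff] at hf'
  obtain ⟨rfl, rfl⟩ := Prod.mk.inj e
  obtain ⟨-, hN', hok⟩ := hf'
  have hpos := NN_pos_of_Ok hok
  have h2 := h1 Y hY
  have h3 : N / NN Y = f' := by
    rw [← hN']
    exact Nat.mul_div_cancel _ hpos
  have h4 : N % NN Y = 0 := by
    rw [← hN']
    exact Nat.mul_mod_left _ _
  rw [h3, h4] at h2
  simpa [hok] using h2

theorem en_two' : ∀ a ∈ [(3, 19), (5, 19), (7, 25), (9, 25), (17, 31), (31, 37), (127, 49), (257, 55)],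
    good 6 a.1 (te 6 a.1) = true ∧ enF 6 a.1 (te 6 a.1) 2 a.2 = true := by
  decide +kernel

theorem en_two : ∀ a ∈ [(3, 19), (5, 19), (7, 25), (9, 25), (17, 31), (31, 37), (127, 49), (257, 55)],
    good 6 a.1 (te 6 a.1) = true ∧ en 6 a.1 (te 6 a.1) 2 a.2 = true :=
  fun a ha => ⟨(en_two' a ha).1, en_of_enF (en_two' a ha).2⟩

end Cfsg.Agent.H364.DSixC
end

-- part: H364/DAll
section
/-!
# `D_n`, `n ≥ 6` even: no simple groups of Lie type in cross characteristic (helper364)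
-/

set_option autoImplicit false

namespace Cfsg.Agent.H364.DAll

open Finset Cfsg.Agent.H902.Lte Cfsg.Agent.H902.Art Cfsg.Agent.H364.DIneq Cfsg.Agent.H364.DCross
  Cfsg.Agent.H364.DEnum Cfsg.Agent.H364.DEight Cfsg.Agent.H364.DSix Cfsg.Agent.H364.DSixB Cfsg.Agent.H364.DSixC
open Cfsg.Agent.H364.SpVal (AA AA_ne PC_odd' cast_sq)
open Cfsg.Agent.H364.SpFin (two_primes)

variable {n p f q M : ℕ} {X : Sh} {v g MS I : ℕ}

theorem w_le {w : ℕ} (hv : v.Prime) (hv2 : v ≠ 2) (hw : w = 3) : w ≤ v := by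
  have := hv.two_le
  omega

/-- the top primes -/
theorem top (hc : CrD 6 p f M X v g MS I) (hv2 : v ≠ 2) (he : 3 < orderOf (((p ^ f) ^ 2 : ℕ) : ZMod v)) : False := by
  have hP := P_top_le hc hv2 he
  have h11 := eleven_le hc hv2 he
  have hq2 := hc.hY.q_ge
  obtain ⟨q, hq⟩ : ∃ q, p ^ f = q := ⟨_, rfl⟩
  have hp := hc.hY.hp
  rw [hq] at hP hq2 he
  have hfr := hc.hd
  rw [hq] at hfr
  rcases Nat.lt_or_ge q 49 with h | h
  · have key : ∀ r : ℕ, r ∈ [2, 3, 4, 9, 11] → q = r → False := by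
      rintro r hr rfl
      exact tp_false hc hq he (Lt_prime _ hr) (tp_list _ hr)
    have hc6 : q ≠ 6 := by
      rintro rfl
      exact two_primes hp Nat.prime_two Nat.prime_three (by norm_num) (by rw [hq]; norm_num) (by rw [hq]; norm_num)
    rcases cr_list q (List.mem_range.2 h) with h1 | h1 | h1 | h1 | h1
    · have h2 : q = 2 ∨ q = 3 ∨ q = 4 := by omega
      rcases h2 with h2 | h2 | h2
      · exact key 2 (by simp) h2
      · exact key 3 (by simp) h2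
      · exact key 4 (by simp) h2
    · exact hc6 h1
    · exact key 9 (by simp) h1
    · exact key 11 (by simp) h1
    · rw [cr, Bool.and_eq_true, List.any_eq_true] at h1
      obtain ⟨hg, NB, -, h2⟩ := h1
      rw [Bool.and_eq_true, decide_eq_true_eq, decide_eq_true_eq] at h2
      have hd := FrD.good hfr (by norm_num) hq2 hg
      exact finB (C := 1) (D := te 6 q) (w := 11) hc hd (by omega) hP h11 h2.1 (by norm_num)
        (by rw [one_pow, one_mul]; exact h2.2)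
  · have hd := hfr.gen hq2 (by norm_num)
    exact finB (C := 20) (D := (q ^ 2 - 1) ^ 6) (w := 11) hc hd (tD_six hq2) hP h11 (ineq_top_N h) (by norm_num)
      (ineq_top h)

theorem tD_order {q : ℕ} (hq : 2 ≤ q) (hv : v.Prime) (h : v ∣ tD 6 (q ^ 2)) : 3 < orderOf ((q ^ 2 : ℕ) : ZMod v) :=
  (order_of_dvd_tD (by norm_num) (by nlinarith) hv h).1

/-- small orders -/
theorem small (hc : CrD 6 p f M X v g MS I) (hv2 : v ≠ 2) (he : orderOf (((p ^ f) ^ 2 : ℕ) : ZMod v) ≤ 3) : False := by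
  have hv := hc.hX.hp
  have hq2 := hc.hY.q_ge
  have hp := hc.hY.hp
  obtain ⟨q, hq⟩ : ∃ q, p ^ f = q := ⟨_, rfl⟩
  have hfr := hc.hd
  have he' := he
  have hP16 := P_odd_le' hc hv2 he
  rw [hq] at hfr hq2 he' hP16
  have hd := hfr.gen hq2 (by norm_num)
  have hvt : ¬ v ∣ tD 6 (q ^ 2) := fun h => by
    have := tD_order hq2 hv h
    omega
  have key : ∀ r : ℕ, r ∈ [2, 3, 4, 5, 7, 8, 9, 16, 32, 64, 128, 256] → q = r → False := by
    rintro r hr rfl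
    exact sm_false hc hq hv2 he' (Ls_prime _ hr) (sm_list _ hr)
  rcases Nat.even_or_odd q with hev | hodd
  · -- `q` is a power of two
    have hp2 : p = 2 := by
      have h1 : 2 ∣ p ^ f := by rw [hq]; exact hev.two_dvd
      exact eq_of_pow hp Nat.prime_two h1
    subst hp2
    have hf := hc.hY.hf
    rcases Nat.lt_or_ge f 9 with h | h
    · have : f = 1 ∨ f = 2 ∨ f = 3 ∨ f = 4 ∨ f = 5 ∨ f = 6 ∨ f = 7 ∨ f = 8 := by omega
      rcases this with rfl | rfl | rfl | rfl | rfl | rfl | rfl | rfl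
      · exact key 2 (by simp) (by rw [← hq]; norm_num)
      · exact key 4 (by simp) (by rw [← hq]; norm_num)
      · exact key 8 (by simp) (by rw [← hq]; norm_num)
      · exact key 16 (by simp) (by rw [← hq]; norm_num)
      · exact key 32 (by simp) (by rw [← hq]; norm_num)
      · exact key 64 (by simp) (by rw [← hq]; norm_num)
      · exact key 128 (by simp) (by rw [← hq]; norm_num)
      · exact key 256 (by simp) (by rw [← hq]; norm_num)
    · obtain ⟨z, hz⟩ : ∃ z, q = 8 * z ∧ 64 ≤ z := by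
        refine ⟨2 ^ (f - 3), ?_, ?_⟩
        · rw [← hq, show (8 : ℕ) = 2 ^ 3 by norm_num, ← pow_add]; congr 1; omega
        · calc 64 = 2 ^ 6 := by norm_num
            _ ≤ 2 ^ (f - 3) := Nat.pow_le_pow_right (by norm_num) (by omega)
      obtain ⟨rfl, hz⟩ := hz
      exact finA (C := 20) (D := ((8 * z) ^ 2 - 1) ^ 6) (w := 3) hc hd (tD_six hq2) hP16 hvt (w_le hv hv2 rfl)
        (ineq_even_N hz) (by norm_num) (ineq_even hz)
  · obtain ⟨x, hx⟩ := hodd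
    rcases Nat.lt_or_ge q 11 with h | h
    · have h1 : q = 3 ∨ q = 5 ∨ q = 7 ∨ q = 9 := by omega
      rcases h1 with h1 | h1 | h1 | h1
      · exact key 3 (by simp) h1
      · exact key 5 (by simp) h1
      · exact key 7 (by simp) h1
      · exact key 9 (by simp) h1
    · have hy : p ^ f + 1 = 2 * (x + 1) := by omega
      have hP := P_odd_le hc hy (by omega) hv2 he
      have e : q ^ 2 - 1 = 4 * ((x + 1) * (x + 1 - 1)) := by
        rw [hx, Nat.add_sub_cancel]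
        have : (2 * x + 1) ^ 2 = 4 * ((x + 1) * x) + 1 := by ring
        rw [this, Nat.add_sub_cancel]
      have hC := tD_six hq2
      rw [e] at hC
      exact finA (C := 20) (D := (4 * ((x + 1) * (x + 1 - 1))) ^ 6) (w := 3) hc hd hC hP hvt (w_le hv hv2 rfl)
        (ineq_odd_N (by omega)) (by norm_num) (ineq_odd (by omega))

/-- `2`-parts of two consecutive numbers -/
theorem two_part {y : ℕ} (hy : 2 ≤ y) : (∃ j, y = 2 ^ j) ∨ (∃ j, y = 2 ^ j + 1) ∨ 3 * P 2 (y * (y - 1)) ≤ y := by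
  have key : ∀ z : ℕ, 1 ≤ z → (∃ j, z = 2 ^ j) ∨ 3 * P 2 z ≤ z := by
    intro z hz
    obtain ⟨c, hc⟩ := P_dvd 2 z
    have hc1 : ¬ 2 ∣ c := by
      intro h
      obtain ⟨d, rfl⟩ := h
      have h1 : 2 ^ (z.factorization 2 + 1) ∣ z := by
        refine ⟨d, ?_⟩
        calc z = P 2 z * (2 * d) := hc
          _ = 2 ^ (z.factorization 2 + 1) * d := by rw [P, pow_succ]; ring
      have := (Nat.prime_two.pow_dvd_iff_le_factorization (by omega)).1 h1
      omega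
    rcases Nat.lt_or_ge c 3 with h | h
    · left
      have : c = 1 := by
        interval_cases c
        · rw [mul_zero] at hc; omega
        · rfl
        · exact absurd (dvd_refl 2) hc1
      rw [this, mul_one] at hc
      exact ⟨_, hc⟩
    · right
      calc 3 * P 2 z = P 2 z * 3 := mul_comm _ _
        _ ≤ P 2 z * c := Nat.mul_le_mul_left _ h
        _ = z := hc.symm
  rw [P_mul (by omega) (by omega)]
  rcases Nat.even_or_odd y with he | ho
  · have h1 : ¬ 2 ∣ y - 1 := by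
      obtain ⟨k, hk⟩ := he
      omega
    rw [P_eq_one h1, mul_one]
    rcases key y (by omega) with h | h
    · exact Or.inl h
    · exact Or.inr (Or.inr h)
  · have h1 : ¬ 2 ∣ y := by
      obtain ⟨k, hk⟩ := ho
      omega
    rw [P_eq_one h1, one_mul]
    rcases key (y - 1) (by omega) with ⟨j, h⟩ | h
    · exact Or.inr (Or.inl ⟨j, by omega⟩)
    · exact Or.inr (Or.inr (by omega))

/-- `v = 2` -/
theorem two (hc : CrD 6 p f M X 2 g MS I) : False := by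
  have hq2 := hc.hY.q_ge
  have hp := hc.hY.hp
  have hvq := hc.hY.not_dvd_q Nat.prime_two hc.hvp
  obtain ⟨q, hq⟩ : ∃ q, p ^ f = q := ⟨_, rfl⟩
  have hfr := hc.hd
  rw [hq] at hfr hq2 hvq
  have hodd : Odd q := Nat.not_even_iff_odd.1 fun h => hvq h.two_dvd
  have hd := hfr.gen hq2 (by norm_num)
  have hC := tD_six hq2
  have hvt : ¬ 2 ∣ tD 6 (q ^ 2) := fun h => by
    have h1 := tD_order hq2 Nat.prime_two h
    have := SpLarge.order_two_le hvq
    omega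
  have hP := P_two_six hc.hY hq hodd
  have key : ∀ r a : ℕ, (r, a) ∈ [(3, 19), (5, 19), (7, 25), (9, 25), (17, 31), (31, 37), (127, 49), (257, 55)] →
      q = r → False := by
    rintro r a hr rfl
    obtain ⟨hg, h⟩ := en_two _ hr
    exact en_false hc hq (FrD.good hfr (by norm_num) hq2 hg) h
  have kp : ∀ a b : ℕ, a.Prime → b.Prime → a ≠ b → a ∣ q → b ∣ q → False := fun a b ha hb hab h1 h2 =>
    two_primes hp ha hb hab (by rw [hq]; exact h1) (by rw [hq]; exact h2)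
  obtain ⟨x, hx⟩ := hodd
  rcases Nat.lt_or_ge q 11 with h | h
  · have h1 : q = 3 ∨ q = 5 ∨ q = 7 ∨ q = 9 := by omega
    rcases h1 with h1 | h1 | h1 | h1
    · exact key 3 19 (by simp) h1
    · exact key 5 19 (by simp) h1
    · exact key 7 25 (by simp) h1
    · exact key 9 25 (by simp) h1
  · obtain ⟨y, hy⟩ : ∃ y, y = x + 1 := ⟨_, rfl⟩
    have hy6 : 6 ≤ y := by omega
    have hqy : q = 2 * y - 1 := by omega
    have e : q ^ 2 - 1 = 4 * (y * (y - 1)) := by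
      rw [hy, hx, Nat.add_sub_cancel]
      have : (2 * x + 1) ^ 2 = 4 * ((x + 1) * x) + 1 := by ring
      rw [this, Nat.add_sub_cancel]
    have hP4 : P 2 4 = 4 := by
      have := P_pow_self (r := 2) (k := 2) (a := 1) Nat.prime_two (by norm_num)
      simpa using this
    have hyy : y * (y - 1) ≠ 0 := Nat.mul_ne_zero (by omega) (by omega)
    rw [e, P_mul (by norm_num) hyy, hP4] at hP
    rw [e] at hC
    rcases two_part (y := y) (by omega) with ⟨j, hj⟩ | ⟨j, hj⟩ | h3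
    · -- `q = 2 ^ (j + 1) - 1`
      have hb : P 2 (y * (y - 1)) = 2 ^ j := by
        have h1 : ¬ 2 ∣ y - 1 := by
          have hj0 : j ≠ 0 := by rintro rfl; omega
          have : 2 ∣ y := by rw [hj]; exact dvd_pow_self 2 hj0
          omega
        rw [hj] at h1 ⊢
        exact P_pow_self Nat.prime_two h1
      rcases Nat.lt_or_ge j 11 with h4 | h4
      · have hj3 : 3 ≤ j := by
          by_contra hcon
          have : j = 0 ∨ j = 1 ∨ j = 2 := by omega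
          rcases this with rfl | rfl | rfl <;> omega
        have h5 : j = 3 ∨ j = 4 ∨ j = 5 ∨ j = 6 ∨ j = 7 ∨ j = 8 ∨ j = 9 ∨ j = 10 := by omega
        rcases h5 with rfl | rfl | rfl | rfl | rfl | rfl | rfl | rfl
        · exact kp 3 5 (by norm_num) (by norm_num) (by norm_num) (by rw [hqy, hj]; norm_num) (by rw [hqy, hj]; norm_num)
        · exact key 31 37 (by simp) (by rw [hqy, hj]; norm_num)
        · exact kp 3 7 (by norm_num) (by norm_num) (by norm_num) (by rw [hqy, hj]; norm_num) (by rw [hqy, hj]; norm_num)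
        · exact key 127 49 (by simp) (by rw [hqy, hj]; norm_num)
        · exact kp 3 5 (by norm_num) (by norm_num) (by norm_num) (by rw [hqy, hj]; norm_num) (by rw [hqy, hj]; norm_num)
        · exact kp 7 73 (by norm_num) (by norm_num) (by norm_num) (by rw [hqy, hj]; norm_num) (by rw [hqy, hj]; norm_num)
        · exact kp 3 11 (by norm_num) (by norm_num) (by norm_num) (by rw [hqy, hj]; norm_num) (by rw [hqy, hj]; norm_num)
        · exact kp 23 89 (by norm_num) (by norm_num) (by norm_num) (by rw [hqy, hj]; norm_num) (by rw [hqy, hj]; norm_num)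
      · have hPe : P 2 M ≤ 2 ^ (6 * (j + 1) + 7) := by
          rw [hP, hb]
          apply le_of_eq
          rw [show 6 * (j + 1) + 7 = 1 + (2 + j) * 6 by ring, pow_add 2 1, pow_mul, pow_add 2 2 j]
          norm_num
        have hC' : (2 ^ (j + 1 + 1) * (2 ^ (j + 1 - 1) - 1)) ^ 6 ≤ tD 6 (q ^ 2) * 20 := by
          have : 2 ^ (j + 1 + 1) * (2 ^ (j + 1 - 1) - 1) = 4 * (y * (y - 1)) := by
            rw [hj, Nat.add_sub_cancel, pow_add, pow_add]; ring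
          rw [this]
          exact hC
        exact finA (C := 20) (w := 2) hc hd hC' hPe hvt le_rfl (Nat.pow_lt_pow_right (by norm_num) (by omega))
          (by norm_num) (ineq_spec (by omega))
    · have hb : P 2 (y * (y - 1)) = 2 ^ j := by
        have h1 : ¬ 2 ∣ y := by
          have hj0 : j ≠ 0 := by rintro rfl; omega
          have : 2 ∣ y - 1 := by rw [hj, Nat.add_sub_cancel]; exact dvd_pow_self 2 hj0
          omega
        rw [mul_comm, hj, Nat.add_sub_cancel]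
        rw [hj] at h1
        exact P_pow_self Nat.prime_two h1
      rcases Nat.lt_or_ge j 11 with h4 | h4
      · have hj3 : 3 ≤ j := by
          by_contra hcon
          have : j = 0 ∨ j = 1 ∨ j = 2 := by omega
          rcases this with rfl | rfl | rfl <;> omega
        have h5 : j = 3 ∨ j = 4 ∨ j = 5 ∨ j = 6 ∨ j = 7 ∨ j = 8 ∨ j = 9 ∨ j = 10 := by omega
        rcases h5 with rfl | rfl | rfl | rfl | rfl | rfl | rfl | rfl
        · exact key 17 31 (by simp) (by rw [hqy, hj]; norm_num)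
        · exact kp 3 11 (by norm_num) (by norm_num) (by norm_num) (by rw [hqy, hj]; norm_num) (by rw [hqy, hj]; norm_num)
        · exact kp 5 13 (by norm_num) (by norm_num) (by norm_num) (by rw [hqy, hj]; norm_num) (by rw [hqy, hj]; norm_num)
        · exact kp 3 43 (by norm_num) (by norm_num) (by norm_num) (by rw [hqy, hj]; norm_num) (by rw [hqy, hj]; norm_num)
        · exact key 257 55 (by simp) (by rw [hqy, hj]; norm_num)
        · exact kp 3 19 (by norm_num) (by norm_num) (by norm_num) (by rw [hqy, hj]; norm_num) (by rw [hqy, hj]; norm_num)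
        · exact kp 5 41 (by norm_num) (by norm_num) (by norm_num) (by rw [hqy, hj]; norm_num) (by rw [hqy, hj]; norm_num)
        · exact kp 3 683 (by norm_num) (by norm_num) (by norm_num) (by rw [hqy, hj]; norm_num) (by rw [hqy, hj]; norm_num)
      · have hPe : P 2 M ≤ 2 ^ (6 * (j + 1) + 7) := by
          rw [hP, hb]
          apply le_of_eq
          rw [show 6 * (j + 1) + 7 = 1 + (2 + j) * 6 by ring, pow_add 2 1, pow_mul, pow_add 2 2 j]
          norm_num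
        have hC' : (2 ^ (j + 1 + 1) * (2 ^ (j + 1 - 1) - 1)) ^ 6 ≤ tD 6 (q ^ 2) * 20 := by
          refine le_trans (Nat.pow_le_pow_left ?_ 6) hC
          rw [hj, Nat.add_sub_cancel, Nat.add_sub_cancel]
          calc 2 ^ (j + 1 + 1) * (2 ^ j - 1) = 4 * (2 ^ j * (2 ^ j - 1)) := by rw [pow_add, pow_add]; ring
            _ ≤ 4 * ((2 ^ j + 1) * 2 ^ j) := by
              apply Nat.mul_le_mul_left
              rw [mul_comm (2 ^ j + 1)]
              exact Nat.mul_le_mul_left _ (by omega)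
        exact finA (C := 20) (w := 2) hc hd hC' hPe hvt le_rfl (Nat.pow_lt_pow_right (by norm_num) (by omega))
          (by norm_num) (ineq_spec (by omega))
    · have hPe : P 2 M ≤ 12 * y ^ 6 := by
        rw [hP]
        generalize P 2 (y * (y - 1)) = b at *
        have h4 : (3 * b) ^ 6 ≤ y ^ 6 := Nat.pow_le_pow_left h3 6
        have h5 : 2 * (4 * b) ^ 6 * 729 = 8192 * (3 * b) ^ 6 := by ring
        have h6 : 2 * (4 * b) ^ 6 * 729 ≤ 12 * y ^ 6 * 729 := by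
          rw [h5]
          calc 8192 * (3 * b) ^ 6 ≤ 8192 * y ^ 6 := Nat.mul_le_mul_left _ h4
            _ ≤ 8748 * y ^ 6 := Nat.mul_le_mul_right _ (by norm_num)
            _ = _ := by ring
        exact Nat.le_of_mul_le_mul_right h6 (by norm_num)
      exact finA (C := 20) (w := 2) hc hd hC hPe hvt le_rfl (ineq_two_N hy6) (by norm_num) (ineq_two hy6)

/-- **`n = 6`.** -/
theorem cross_six (hc : CrD 6 p f M X v g MS I) : False := by
  by_cases hv2 : v = 2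
  · subst hv2
    exact two hc
  · rcases Nat.lt_or_ge 3 (orderOf (((p ^ f) ^ 2 : ℕ) : ZMod v)) with h | h
    · exact top hc hv2 h
    · exact small hc hv2 h

/-- **No simple group of Lie type in cross characteristic, except `L₂`, in `D_n(q)`, `n ≥ 6` even.** -/
theorem cross_all (hc : CrD n p f M X v g MS I) (hn : 6 ≤ n) (hev : n % 2 = 0) : False := by
  by_cases h6 : n = 6
  · subst h6
    exact cross_six hc
  · exact cross_eight hc (by omega) hev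

end Cfsg.Agent.H364.DAll
end

private theorem dce_b140f8091afd : _root_.True := by
  try have : _root_.True := by simp only [_root_.Cfsg.Agent.H364.DSixC.Ls.eq_1]
  try have : _root_.True := by simp only [_root_.Cfsg.Agent.H364.DSixC.Ls.eq_5]
  try have : _root_.True := by simp only [_root_.Cfsg.Agent.H364.DSixC.Ls.eq_2]
  try have : _root_.True := by simp only [_root_.Cfsg.Agent.H364.DSixC.Ls.eq_3]
  try have : _root_.True := by simp only [_root_.Cfsg.Agent.H364.DSixC.cr.eq_1]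
  try have : _root_.True := by simp only [_root_.Cfsg.Agent.H364.DSixC.Lt.eq_6]
  try have : _root_.True := by simp only [_root_.Cfsg.Agent.H364.DSixC.Ls.eq_9]
  try have : _root_.True := by simp only [_root_.Cfsg.Agent.H364.DSixC.Ls.eq_7]
  try have : _root_.True := by simp only [_root_.Cfsg.Agent.H364.DSixC.ex.eq_1]
  try have : _root_.True := by simp only [_root_.Cfsg.Agent.H364.DSixC.Lt.eq_1]
  try have : _root_.True := by simp only [_root_.Cfsg.Agent.H364.DSixC.Ls.eq_12]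
  try have : _root_.True := by simp only [_root_.Cfsg.Agent.H364.DSixC.Ls.eq_13]
  try have : _root_.True := by simp only [_root_.Cfsg.Agent.H364.DSixC.Lt.eq_2]
  try have : _root_.True := by simp only [_root_.Cfsg.Agent.H364.DSixC.Lt.eq_4]
  try have : _root_.True := by simp only [_root_.Cfsg.Agent.H364.DSixC.Ls.eq_10]
  try have : _root_.True := by simp only [_root_.Cfsg.Agent.H364.DSixC.sm.eq_1]
  try have : _root_.True := by simp only [_root_.Cfsg.Agent.H364.DSixC.Lt.eq_5]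
  try have : _root_.True := by simp only [_root_.Cfsg.Agent.H364.DSixC.enF.eq_1]
  try have : _root_.True := by simp only [_root_.Cfsg.Agent.H364.DSixC.Lt.eq_3]
  try have : _root_.True := by simp only [_root_.Cfsg.Agent.H364.DSixC.tp.eq_1]
  try have : _root_.True := by simp only [_root_.Cfsg.Agent.H364.DSixC.Ls.eq_11]
  try have : _root_.True := by simp only [_root_.Cfsg.Agent.H364.DSixC.Ls.eq_4]
  try have : _root_.True := by simp only [_root_.Cfsg.Agent.H364.DSixC.Ls.eq_8]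
  try have : _root_.True := by simp only [_root_.Cfsg.Agent.H364.DSixC.Ls.eq_6]
  exact _root_.True.intro
end
end
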